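import Groth.Agent.Lib.Tame26.KeyLemma

/-! # Tame symbols of fractions; invariance under isomorphisms -/

set_option autoImplicit false
universe u

open IsLocalRing CycAlg

namespace Groth.Agent.Tame26

theorem tameSymbol_equiv {R S : Type u} [CommRing R] [IsLocalRing R] [IsNoetherianRing R] [CommRing S] [IsLocalRing S]
    [IsNoetherianRing S] (hR : ringKrullDim R ≤ 1) (e : R ≃+* S) {a b : R} (ha : a ∈ nonZeroDivisors R)
    (hb : b ∈ nonZeroDivisors R) :
    tameSymbol S (e a) (e b) = ResidueField.mapEquiv e (tameSymbol R a b) := by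
  have hS : ringKrullDim S ≤ 1 := (ringKrullDim_eq_of_ringEquiv e).symm.trans_le hR
  have hmap : ∀ {x : R}, x ∈ nonZeroDivisors R → e x ∈ nonZeroDivisors S := fun {x} hx =>
    mem_nonZeroDivisors_iff_right.2 fun z hz => e.symm.injective (by
      rw [map_zero]
      refine mem_nonZeroDivisors_iff_right.1 hx _ (e.injective ?_)
      rw [map_mul, e.apply_symm_apply, hz, map_zero])
  obtain ⟨C, _, _, hC, π, hπ, hfac⟩ := exists_frame hR {a, b} (by
    simp only [Multiset.insert_eq_cons, Multiset.mem_cons, Multiset.mem_singleton]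
    rintro x (rfl | rfl) <;> assumption)
  letI : Algebra S C := ((algebraMap R C).comp e.symm.toRingHom).toAlgebra
  have halg : ∀ x : R, algebraMap S C (e x) = algebraMap R C x := fun x =>
    congrArg (algebraMap R C) (e.symm_apply_apply x)
  haveI := hC.fin
  haveI hfin : Module.Finite S C := by
    obtain ⟨G, hG⟩ := hC.fin.fg_top
    refine ⟨⟨G, ?_⟩⟩
    refine eq_top_iff.2 fun z _ => ?_
    have hz : z ∈ Submodule.span R (G : Set C) := hG.ge trivial
    induction hz using Submodule.span_induction with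
    | mem z hz => exact Submodule.subset_span hz
    | zero => exact Submodule.zero_mem _
    | add z w _ _ hz hw => exact Submodule.add_mem _ (hz trivial) (hw trivial)
    | smul r z _ hz =>
      rw [show r • z = e r • z by rw [Algebra.smul_def, Algebra.smul_def, halg]]
      exact Submodule.smul_mem _ _ (hz trivial)
  have hC' : Birat S C := by
    obtain ⟨y, hy, hyC, hy'⟩ := hC.denom
    refine ⟨fun x x' h => e.symm.injective (hC.inj h), hfin, e y, hmap hy, (halg y).symm ▸ hyC, fun c => ?_⟩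
    obtain ⟨x, hx⟩ := hy' c
    exact ⟨e x, by rw [halg, halg, hx]⟩
  haveI := finite_maximalSpectrum R C
  letI := Fintype.ofFinite (MaximalSpectrum C)
  choose u E hu using hfac a (Submonoid.subset_closure (by simp))
  choose v F hv using hfac b (Submonoid.subset_closure (by simp))
  have hloc : ∀ (q : MaximalSpectrum C) (x : R), algebraMap S (Loc q) (e x) = algebraMap R (Loc q) x := fun q x => by
    rw [IsScalarTower.algebraMap_apply S C (Loc q), IsScalarTower.algebraMap_apply R C (Loc q), halg]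
  rw [symbol_eq hR hC π hπ ha hb u v E F hu hv,
    symbol_eq hS hC' π hπ (hmap ha) (hmap hb) u v E F (fun q => by rw [hloc]; exact hu q)
      (fun q => by rw [hloc]; exact hv q), map_prod]
  refine Finset.prod_congr rfl fun q _ => ?_
  rw [map_pow]
  congr 1
  refine (Algebra.norm_eq_of_ringEquiv (ResidueField.mapEquiv e) (RingHom.ext fun z => ?_) _).symm
  obtain ⟨z, rfl⟩ := residue_surjective z
  show residue (Loc q) (algebraMap S (Loc q) (e z)) = residue (Loc q) (algebraMap R (Loc q) z)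
  rw [hloc]

variable {R : Type u} [CommRing R] [IsLocalRing R] [IsNoetherianRing R]

/-- The symbol of two fractions. -/
noncomputable def sym2 (R : Type u) [CommRing R] [IsLocalRing R] (a b c d : R) : ResidueField R :=
  tameSymbol R a c / tameSymbol R b c * (tameSymbol R b d / tameSymbol R a d)

variable [IsDomain R] (hR : ringKrullDim R ≤ 1)
include hR

theorem nzd {x : R} (hx : x ≠ 0) : x ∈ nonZeroDivisors R := mem_nonZeroDivisors_of_ne_zero hx

theorem T_ne {a c : R} (ha : a ≠ 0) (hc : c ≠ 0) : tameSymbol R a c ≠ 0 :=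
  tameSymbol_ne_zero hR (nzd hR ha) (nzd hR hc)

theorem T_mul {a a' c : R} (ha : a ≠ 0) (ha' : a' ≠ 0) (hc : c ≠ 0) :
    tameSymbol R (a * a') c = tameSymbol R a c * tameSymbol R a' c ∧
      tameSymbol R c (a * a') = tameSymbol R c a * tameSymbol R c a' :=
  tameSymbol_mul hR (nzd hR ha) (nzd hR ha') (nzd hR hc)

theorem sym2_ne_zero {a b c d : R} (ha : a ≠ 0) (hb : b ≠ 0) (hc : c ≠ 0) (hd : d ≠ 0) : sym2 R a b c d ≠ 0 := by
  simp [sym2, T_ne hR, ha, hb, hc, hd]

theorem sym2_congr_left {a b a' b' c d : R} (ha : a ≠ 0) (hb : b ≠ 0) (ha' : a' ≠ 0) (hb' : b' ≠ 0) (hc : c ≠ 0)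
    (hd : d ≠ 0) (h : a * b' = a' * b) : sym2 R a b c d = sym2 R a' b' c d := by
  have h1 : ∀ x, x ≠ 0 → tameSymbol R a x * tameSymbol R b' x = tameSymbol R a' x * tameSymbol R b x := fun x hx => by
    rw [← (T_mul hR ha hb' hx).1, ← (T_mul hR ha' hb hx).1, h]
  rw [sym2, sym2, div_mul_div_comm, div_mul_div_comm,
    div_eq_div_iff (mul_ne_zero (T_ne hR hb hc) (T_ne hR ha hd)) (mul_ne_zero (T_ne hR hb' hc) (T_ne hR ha' hd))]
  linear_combination (tameSymbol R b d * tameSymbol R a' d) * h1 c hc -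
    (tameSymbol R a' c * tameSymbol R b c) * h1 d hd

theorem sym2_congr_right {a b c d c' d' : R} (ha : a ≠ 0) (hb : b ≠ 0) (hc : c ≠ 0) (hd : d ≠ 0) (hc' : c' ≠ 0)
    (hd' : d' ≠ 0) (h : c * d' = c' * d) : sym2 R a b c d = sym2 R a b c' d' := by
  have h1 : ∀ x, x ≠ 0 → tameSymbol R x c * tameSymbol R x d' = tameSymbol R x c' * tameSymbol R x d := fun x hx => by
    rw [← (T_mul hR hc hd' hx).2, ← (T_mul hR hc' hd hx).2, h]
  rw [sym2, sym2, div_mul_div_comm, div_mul_div_comm,
    div_eq_div_iff (mul_ne_zero (T_ne hR hb hc) (T_ne hR ha hd)) (mul_ne_zero (T_ne hR hb hc') (T_ne hR ha hd'))]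
  linear_combination (tameSymbol R b d * tameSymbol R b c') * h1 a ha -
    (tameSymbol R a c' * tameSymbol R a d) * h1 b hb

theorem T_unit {α x : R} (hα : IsUnit α) (hx : x ≠ 0) :
    tameSymbol R α x = residue R α ^ (Ring.ord R x).toNat := by
  rw [← hα.unit_spec, tameSymbol_unit hR _ (nzd hR hx)]
  rfl

theorem T_unit_right {α x : R} (hα : IsUnit α) (hx : x ≠ 0) :
    tameSymbol R x α = (residue R α ^ (Ring.ord R x).toNat)⁻¹ := by
  rw [← T_unit hR hα hx]
  exact eq_inv_of_mul_eq_one_left (tameSymbol_antisymm hR (nzd hR hx) (nzd hR hα.ne_zero))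

theorem sym2_mul_unit {a b c d α β : R} (ha : a ≠ 0) (hb : b ≠ 0) (hc : c ≠ 0) (hd : d ≠ 0) (hα : IsUnit α)
    (hβ : IsUnit β) : sym2 R (a * α) b (c * β) d = sym2 R a b c d *
      (residue R α ^ (((Ring.ord R c).toNat : ℤ) - (Ring.ord R d).toNat) *
        residue R β ^ (((Ring.ord R b).toNat : ℤ) - (Ring.ord R a).toNat)) := by
  have h1 : residue R α ≠ 0 := (hα.map (residue R)).ne_zero
  have h2 : residue R β ≠ 0 := (hβ.map (residue R)).ne_zero
  have hcβ : c * β ≠ 0 := mul_ne_zero hc hβ.ne_zero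
  have hab : tameSymbol R α β = 1 := by
    rw [T_unit hR hα hβ.ne_zero, Ring.ord_of_isUnit hβ]; simp
  rw [sym2, sym2, (T_mul hR ha hα.ne_zero hcβ).1, (T_mul hR hc hβ.ne_zero ha).2, (T_mul hR hc hβ.ne_zero hα.ne_zero).2,
    (T_mul hR hc hβ.ne_zero hb).2, (T_mul hR ha hα.ne_zero hd).1, hab, T_unit hR hα hc, T_unit hR hα hd,
    T_unit_right hR hβ ha, T_unit_right hR hβ hb, zpow_sub₀ h1, zpow_sub₀ h2]
  simp only [zpow_natCast]
  field_simp [T_ne hR, ha, hb, hc, hd]

theorem sym2_unit {a b c d : R} (ha : IsUnit a) (hb : IsUnit b) (hc : IsUnit c) (hd : IsUnit d) :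
    sym2 R a b c d = 1 := by
  rw [sym2, T_unit hR ha hc.ne_zero, T_unit hR hb hc.ne_zero, T_unit hR hb hd.ne_zero, T_unit hR ha hd.ne_zero,
    Ring.ord_of_isUnit hc, Ring.ord_of_isUnit hd]
  simp

end Groth.Agent.Tame26
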