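import Mathlib
import Groth.Prelude.Def_Tame
import Groth.Agent.Lib.CycAlg26.Small
import Groth.Agent.Lib.Cyc26.NormSum

/-! # Finite birational extensions of one-dimensional local rings -/

set_option autoImplicit false
universe u

open scoped Pointwise
open IsLocalRing

namespace Groth.Agent.Tame26

/-- `B` is a finite extension of `A` contained in the total ring of fractions. -/
structure Birat (A B : Type u) [CommRing A] [CommRing B] [Algebra A B] : Prop where
  inj : Function.Injective (algebraMap A B)
  fin : Module.Finite A B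
  denom : ∃ y ∈ nonZeroDivisors A, algebraMap A B y ∈ nonZeroDivisors B ∧
    ∀ b : B, ∃ a, algebraMap A B a = algebraMap A B y * b

namespace Birat

variable {A B C : Type u} [CommRing A] [CommRing B] [Algebra A B] [CommRing C] [Algebra A C] [Algebra B C]

theorem refl : Birat A A :=
  ⟨fun _ _ h => h, inferInstance, 1, Submonoid.one_mem _, by simp, fun b => ⟨b, by simp⟩⟩

theorem map_nzd (h : Birat A B) {x : A} (hx : x ∈ nonZeroDivisors A) : algebraMap A B x ∈ nonZeroDivisors B := by
  obtain ⟨y, -, hyB, hy⟩ := h.denom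
  rw [mem_nonZeroDivisors_iff_right]
  intro b hb
  obtain ⟨a, ha⟩ := hy b
  have h1 : a * x = 0 := h.inj (by rw [map_mul, ha, mul_assoc, hb, mul_zero, map_zero])
  rw [(mem_nonZeroDivisors_iff_right.1 hx) a h1, map_zero] at ha
  exact (mem_nonZeroDivisors_iff_right.1 hyB) b (by rw [mul_comm, ← ha])

theorem exists_mem (h : Birat A B) {γ : B} (hγ : γ ∈ nonZeroDivisors B) :
    ∃ g ∈ nonZeroDivisors A, ∃ z, algebraMap A B g = γ * z := by
  obtain ⟨y, -, hyB, hy⟩ := h.denom
  obtain ⟨g, hg⟩ := hy γ
  refine ⟨g, mem_nonZeroDivisors_iff_right.2 fun c hc => h.inj ?_, algebraMap A B y, by rw [hg, mul_comm]⟩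
  rw [map_zero]
  refine (mem_nonZeroDivisors_iff_right.1 (Submonoid.mul_mem _ hyB hγ)) _ ?_
  rw [← hg, ← map_mul, hc, map_zero]

theorem trans [IsScalarTower A B C] (h1 : Birat A B) (h2 : Birat B C) : Birat A C := by
  haveI := h1.fin
  haveI := h2.fin
  obtain ⟨y, hy, hyB, hy'⟩ := h1.denom
  obtain ⟨z, hz, hzC, hz'⟩ := h2.denom
  obtain ⟨g, hg, w, hw⟩ := h1.exists_mem hz
  refine ⟨fun a b hab => ?_, Module.Finite.trans B C, y * g, Submonoid.mul_mem _ hy hg, ?_, fun c => ?_⟩
  · rw [IsScalarTower.algebraMap_apply A B C, IsScalarTower.algebraMap_apply A B C] at hab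
    exact h1.inj (h2.inj hab)
  · rw [IsScalarTower.algebraMap_apply A B C]
    exact h2.map_nzd (h1.map_nzd (Submonoid.mul_mem _ hy hg))
  · obtain ⟨b, hb⟩ := hz' c
    obtain ⟨a, ha⟩ := hy' (w * b)
    refine ⟨a, ?_⟩
    rw [IsScalarTower.algebraMap_apply A B C, ha, IsScalarTower.algebraMap_apply A B C (y * g), map_mul, map_mul,
      map_mul (algebraMap A B), map_mul (algebraMap B C), hw, map_mul, hb]
    ring

end Birat

/-- Comparing the cokernels of an endomorphism on a submodule of finite colength and on the module. -/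
theorem length_coker_eq {A M N : Type*} [CommRing A] [AddCommGroup M] [Module A M] [AddCommGroup N] [Module A N]
    (ι : N →ₗ[A] M) (hι : Function.Injective ι) (f : M →ₗ[A] M) (hf : Function.Injective f) (g : N →ₗ[A] N)
    (hc : f.comp ι = ι.comp g) (hfin : Module.length A (M ⧸ LinearMap.range ι) ≠ ⊤) :
    Module.length A (N ⧸ LinearMap.range g) = Module.length A (M ⧸ LinearMap.range f) := by
  let R := LinearMap.range (f.comp ι)
  have e1 : Module.length A (M ⧸ R) = Module.length A (N ⧸ LinearMap.range g) + Module.length A (M ⧸ LinearMap.range ι) := by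
    refine Module.length_eq_add_of_exact (Submodule.mapQ (LinearMap.range g) R ι ?_)
      (Submodule.factor (show R ≤ LinearMap.range ι by
        rw [show R = LinearMap.range (ι.comp g) from congrArg (fun φ => LinearMap.range φ) hc]; exact LinearMap.range_comp_le_range _ _))
      ?_ (Submodule.factor_surjective _) ?_
    · rintro _ ⟨n, rfl⟩
      show ι (g n) ∈ R
      exact ⟨n, LinearMap.congr_fun hc n⟩
    · rw [injective_iff_map_eq_zero]
      intro q hq
      obtain ⟨n, rfl⟩ := Submodule.Quotient.mk_surjective _ q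
      rw [Submodule.mapQ_apply, Submodule.Quotient.mk_eq_zero] at hq
      obtain ⟨k, hk⟩ := hq
      rw [Submodule.Quotient.mk_eq_zero]
      exact ⟨k, hι ((LinearMap.congr_fun hc k).symm.trans hk)⟩
    · intro q
      obtain ⟨m, rfl⟩ := Submodule.Quotient.mk_surjective _ q
      refine (Submodule.Quotient.mk_eq_zero _).trans ⟨?_, ?_⟩
      · rintro ⟨n, rfl⟩
        exact ⟨Submodule.Quotient.mk n, rfl⟩
      · rintro ⟨p, hp⟩
        obtain ⟨n, rfl⟩ := Submodule.Quotient.mk_surjective _ p
        rw [Submodule.mapQ_apply, Submodule.Quotient.eq] at hp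
        obtain ⟨k, hk⟩ := hp
        refine ⟨n - g k, ?_⟩
        have := LinearMap.congr_fun hc k
        simp only [LinearMap.comp_apply] at this hk
        rw [map_sub, ← this, hk]
        abel
  have e2 : Module.length A (M ⧸ R) = Module.length A (M ⧸ LinearMap.range ι) + Module.length A (M ⧸ LinearMap.range f) := by
    refine Module.length_eq_add_of_exact (Submodule.mapQ (LinearMap.range ι) R f ?_)
      (Submodule.factor (show R ≤ LinearMap.range f from LinearMap.range_comp_le_range _ _))
      ?_ (Submodule.factor_surjective _) ?_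
    · rintro _ ⟨n, rfl⟩
      show f (ι n) ∈ R
      exact ⟨n, rfl⟩
    · rw [injective_iff_map_eq_zero]
      intro q hq
      obtain ⟨n, rfl⟩ := Submodule.Quotient.mk_surjective _ q
      rw [Submodule.mapQ_apply, Submodule.Quotient.mk_eq_zero] at hq
      obtain ⟨k, hk⟩ := hq
      rw [Submodule.Quotient.mk_eq_zero]
      exact ⟨k, hf hk⟩
    · intro q
      obtain ⟨m, rfl⟩ := Submodule.Quotient.mk_surjective _ q
      refine (Submodule.Quotient.mk_eq_zero _).trans ⟨?_, ?_⟩
      · rintro ⟨n, rfl⟩
        exact ⟨Submodule.Quotient.mk n, rfl⟩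
      · rintro ⟨p, hp⟩
        obtain ⟨n, rfl⟩ := Submodule.Quotient.mk_surjective _ p
        rw [Submodule.mapQ_apply, Submodule.Quotient.eq] at hp
        obtain ⟨k, hk⟩ := hp
        refine ⟨n - ι k, ?_⟩
        simp only [LinearMap.comp_apply] at hk
        rw [map_sub, hk]
        abel
  rw [e1, add_comm (Module.length A (M ⧸ LinearMap.range ι))] at e2
  rw [add_comm (Module.length A (N ⧸ LinearMap.range g)), add_comm (Module.length A (M ⧸ LinearMap.range f))] at e2
  exact ENat.add_right_injective_of_ne_top hfin e2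

section Length

variable {A : Type u} [CommRing A] {B : Type u} [CommRing B] [Algebra A B]

/-- The length over `A` of `B/xB`. -/
noncomputable abbrev len (A : Type u) [CommRing A] {B : Type u} [CommRing B] [Algebra A B] (x : B) : ℕ∞ :=
  Module.length A (B ⧸ Ideal.span {x})

/-- The quotient by `x`, as an `A`-module. -/
noncomputable def quotEquiv (x : B) : (B ⧸ LinearMap.range (LinearMap.mulLeft A x)) ≃ₗ[A] (B ⧸ Ideal.span {x}) :=
  (Submodule.quotEquivOfEq _ ((Ideal.span {x}).restrictScalars A) (by
    ext b
    simp only [LinearMap.mem_range, LinearMap.mulLeft_apply, Submodule.restrictScalars_mem,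
      Ideal.mem_span_singleton']
    exact exists_congr fun c => by rw [mul_comm])).trans
    (Submodule.Quotient.restrictScalarsEquiv A _)

theorem len_mul (a : B) {b : B} (hb : b ∈ nonZeroDivisors B) : len A (a * b) = len A a + len A b := by
  have := Module.length_eq_add_of_exact ((Ideal.mulQuot b (Ideal.span {a})).restrictScalars A)
    ((Ideal.quotOfMul b (Ideal.span {a})).restrictScalars A) (Ideal.mulQuot_injective (Ideal.span {a}) hb)
    (Ideal.quotOfMul_surjective (Ideal.span {a})) (Ideal.exact_mulQuot_quotOfMul (Ideal.span {a}))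
  have lem : b • Ideal.span {a} = Ideal.span {a * b} := by
    rw [← Submodule.singleton_set_smul]
    simp [← Ideal.submodule_span_eq, Submodule.set_smul_span, mul_comm]
  rw [lem] at this
  exact this

theorem len_eq_zero_of_isUnit {x : B} (hx : IsUnit x) : len A x = 0 := by
  haveI : Subsingleton (B ⧸ Ideal.span {x}) :=
    Ideal.Quotient.subsingleton_iff.2 (Ideal.span_singleton_eq_top.2 hx)
  exact Module.length_eq_zero

theorem len_ne_zero {x : B} (hx : ¬ IsUnit x) : len A x ≠ 0 := by
  haveI : Nontrivial (B ⧸ Ideal.span {x}) :=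
    Ideal.Quotient.nontrivial_iff.2 fun h => hx (Ideal.span_singleton_eq_top.1 h)
  exact fun h => not_subsingleton _ (Module.length_eq_zero_iff.1 h)

variable [IsLocalRing A] [IsNoetherianRing A]

theorem len_ne_top [Module.Finite A B] (hA : ringKrullDim A ≤ 1) {x : B} (hx : x ∈ nonZeroDivisors B) :
    len A x ≠ ⊤ := by
  have h := CycAlg26.length_quot_range_lt_top (R := A) (M := B)
    ((Module.supportDim_le_ringKrullDim A B).trans hA) (LinearMap.mulLeft A x)
    (fun a b hab => mul_cancel_left_mem_nonZeroDivisors hx |>.1 hab)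
  rw [(quotEquiv x).length_eq] at h
  exact h.ne

variable {C : Type u} [CommRing C] [Algebra A C] [Algebra B C] [IsScalarTower A B C]

theorem len_algebraMap (hA : ringKrullDim A ≤ 1) (hB : Birat A B) (h : Birat B C) {x : B}
    (hx : x ∈ nonZeroDivisors B) : len A (algebraMap B C x) = len A x := by
  have hAC : Birat A C := hB.trans h
  haveI := hAC.fin
  have hx' := h.map_nzd hx
  rw [len, len, ← (quotEquiv (A := A) x).length_eq, ← (quotEquiv (A := A) (algebraMap B C x)).length_eq]
  refine (length_coker_eq (IsScalarTower.toAlgHom A B C).toLinearMap h.inj _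
    (fun a b hab => mul_cancel_left_mem_nonZeroDivisors hx' |>.1 hab) (LinearMap.mulLeft A x) ?_ ?_).symm
  · refine LinearMap.ext fun b => ?_
    simp
  · obtain ⟨z, hz, hzC, hz'⟩ := h.denom
    refine ne_top_of_le_ne_top (len_ne_top (A := A) hA hzC) ?_
    rw [len, ← (quotEquiv (A := A) (algebraMap B C z)).length_eq]
    refine Module.length_le_of_surjective (Submodule.factor ?_) (Submodule.factor_surjective _)
    rintro _ ⟨c, rfl⟩
    obtain ⟨b, hb⟩ := hz' c
    exact ⟨b, hb⟩

omit [IsNoetherianRing A] in
theorem map_maximalIdeal_le_jacobson [Module.Finite A B] :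
    (maximalIdeal A).map (algebraMap A B) ≤ Ideal.jacobson ⊥ := by
  refine le_sInf fun Q hQ => ?_
  haveI := hQ.2
  haveI : (Q.comap (algebraMap A B)).IsMaximal :=
    Ideal.isMaximal_comap_of_isIntegral_of_isMaximal Q
  rw [Ideal.map_le_iff_le_comap, IsLocalRing.eq_maximalIdeal ‹(Q.comap (algebraMap A B)).IsMaximal›]

omit [IsNoetherianRing A] in
theorem finite_maximalSpectrum (A : Type u) [CommRing A] [IsLocalRing A] (B : Type u) [CommRing B] [Algebra A B]
    [Module.Finite A B] : Finite (MaximalSpectrum B) := by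
  have hfin := Algebra.QuasiFinite.finite_primesOver (R := A) (S := B) (maximalIdeal A)
  haveI := hfin.to_subtype
  refine Finite.of_injective (β := (maximalIdeal A).primesOver B) (fun q => ⟨q.asIdeal, q.isMaximal.isPrime, ⟨?_⟩⟩)
    fun a b hab => MaximalSpectrum.ext (congrArg Subtype.val hab)
  haveI := q.isMaximal
  haveI : (q.asIdeal.comap (algebraMap A B)).IsMaximal := Ideal.isMaximal_comap_of_isIntegral_of_isMaximal _
  exact (IsLocalRing.eq_maximalIdeal ‹(q.asIdeal.comap (algebraMap A B)).IsMaximal›).symm

end Length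

end Groth.Agent.Tame26
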