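import Groth.Agent.Lib.Tame26.Length

/-! # Prime avoidance -/

set_option autoImplicit false
universe u

namespace Groth.Agent.Tame26

variable {C : Type u} [CommRing C]

theorem exists_notMem (T : Finset (PrimeSpectrum C)) (I : Ideal C) (h : ∀ p ∈ T, ¬ I ≤ p.asIdeal) :
    ∃ c ∈ I, ∀ p ∈ T, c ∉ p.asIdeal := by
  rcases T.eq_empty_or_nonempty with rfl | ⟨a, ha⟩
  · exact ⟨0, I.zero_mem, fun p hp => absurd hp (Finset.notMem_empty p)⟩
  by_contra hc
  push Not at hc
  have hsub : (I : Set C) ⊆ ⋃ p ∈ (↑T : Set (PrimeSpectrum C)), (p.asIdeal : Set C) := fun c hcI => by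
    obtain ⟨p, hp, hcp⟩ := hc c hcI
    exact Set.mem_biUnion hp hcp
  obtain ⟨p, hp, hle⟩ := (Ideal.subset_union_prime a a fun p _ _ _ => p.2).1 hsub
  exact h p hp hle

/-- Avoiding finitely many primes inside a coset of an ideal. -/
theorem exists_add_notMem (T : Finset (PrimeSpectrum C)) (I : Ideal C) (x : C) (h : ∀ p ∈ T, ¬ I ≤ p.asIdeal) :
    ∃ c ∈ I, ∀ p ∈ T, x + c ∉ p.asIdeal := by
  classical
  induction T using Finset.strongInduction with
  | _ T IH =>
    rcases T.eq_empty_or_nonempty with rfl | hne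
    · exact ⟨0, I.zero_mem, fun p hp => absurd hp (Finset.notMem_empty p)⟩
    obtain ⟨m, hm, hmin⟩ : ∃ m ∈ T, ∀ p ∈ T, p ≤ m → p = m := by
      obtain ⟨m, hm⟩ := T.exists_minimal hne
      exact ⟨m, hm.1, fun p hp hpm => le_antisymm hpm (hm.2 hp hpm)⟩
    obtain ⟨c, hc, hcT⟩ := IH (T.erase m) (Finset.erase_ssubset hm) fun p hp => h p (Finset.mem_of_mem_erase hp)
    by_cases hcm : x + c ∈ m.asIdeal
    swap
    · refine ⟨c, hc, fun p hp => ?_⟩
      by_cases hpm : p = m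
      · exact hpm ▸ hcm
      · exact hcT p (Finset.mem_erase.2 ⟨hpm, hp⟩)
    have hJ : ¬ I * ∏ p ∈ T.erase m, p.asIdeal ≤ m.asIdeal := by
      intro hle
      rcases m.2.mul_le.1 hle with h' | h'
      · exact h m hm h'
      · obtain ⟨p, hp, hpm⟩ := m.2.prod_le.1 h'
        have hp' := Finset.mem_erase.1 hp
        exact hp'.1 (hmin p hp'.2 hpm)
    obtain ⟨d, hd, hdm⟩ := SetLike.not_le_iff_exists.1 hJ
    refine ⟨c + d, I.add_mem hc (Ideal.mul_le_left hd), fun p hp hmem => ?_⟩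
    by_cases hpm : p = m
    · subst hpm
      rw [← add_assoc] at hmem
      exact hdm ((Ideal.add_mem_iff_right _ hcm).1 hmem)
    · have hdp : d ∈ p.asIdeal := (Ideal.mul_le_right.trans (Ideal.prod_le_inf.trans (Finset.inf_le
        (Finset.mem_erase.2 ⟨hpm, hp⟩)))) hd
      rw [← add_assoc] at hmem
      exact hcT p (Finset.mem_erase.2 ⟨hpm, hp⟩) ((Ideal.add_mem_iff_left _ hdp).1 hmem)

end Groth.Agent.Tame26
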