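import Groth.Agent.Lib.Tame26.Laws

/-! # A finite birational extension carrying frames above finitely many primes -/

set_option autoImplicit false
universe u

open IsLocalRing CycAlg

namespace Groth.Agent.Tame26

variable {A : Type u} [CommRing A]

/-- The multiplier ring of an ideal inside a localisation. -/
def multRing (K : Type u) [CommRing K] [Algebra A K] (J : Ideal A) : Subalgebra A K where
  carrier := {x | ∀ j ∈ J, ∃ c ∈ J, x * algebraMap A K j = algebraMap A K c}
  zero_mem' j _ := ⟨0, J.zero_mem, by simp⟩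
  one_mem' j hj := ⟨j, hj, one_mul _⟩
  add_mem' {x y} hx hy j hj := by
    obtain ⟨c, hc, h1⟩ := hx j hj
    obtain ⟨d, hd, h2⟩ := hy j hj
    exact ⟨c + d, J.add_mem hc hd, by rw [add_mul, h1, h2, map_add]⟩
  mul_mem' {x y} hx hy j hj := by
    obtain ⟨d, hd, h2⟩ := hy j hj
    obtain ⟨c, hc, h1⟩ := hx d hd
    exact ⟨c, hc, by rw [mul_assoc, h2, h1]⟩
  algebraMap_mem' a j hj := ⟨a * j, J.mul_mem_left a hj, (map_mul _ _ _).symm⟩

theorem birat_multRing [IsNoetherianRing A] (g : A) (hg : g ∈ nonZeroDivisors A) (J : Ideal A) (m : ℕ)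
    (hJ : g ^ m ∈ J) :
    Birat A (multRing (Localization.Away g) J) ∧
      ∀ x : multRing (Localization.Away g) J, ∃ a : A, (x : Localization.Away g) * algebraMap A _ (g ^ m) = algebraMap A _ a := by
  let K := Localization.Away g
  have hinj : Function.Injective (algebraMap A K) := IsLocalization.injective K (Submonoid.powers_le.2 hg)
  have hu : IsUnit (algebraMap A K (g ^ m)) := IsLocalization.map_units K (⟨g ^ m, m, rfl⟩ : Submonoid.powers g)
  have hden : ∀ x : multRing K J, ∃ a : A, (x : K) * algebraMap A K (g ^ m) = algebraMap A K a := fun x =>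
    let ⟨a, _, h⟩ := x.2 _ hJ; ⟨a, h⟩
  refine ⟨⟨fun a b h => hinj (congrArg Subtype.val h), ?_, g ^ m, pow_mem hg m, ?_, fun x => ?_⟩, hden⟩
  · choose f hf using hden
    let F : multRing K J →ₗ[A] A :=
      { toFun := f
        map_add' := fun x y => hinj (by rw [← hf, map_add, ← hf, ← hf, Subalgebra.coe_add, add_mul])
        map_smul' := fun a x => hinj (by
          rw [← hf, RingHom.id_apply, smul_eq_mul, map_mul, ← hf, Subalgebra.coe_smul, Algebra.smul_def, mul_assoc]) }
    exact Module.Finite.of_injective F fun x y h => Subtype.ext (hu.mul_right_cancel (by rw [hf x, hf y]; exact congrArg _ h))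
  · exact mem_nonZeroDivisors_iff_right.2 fun z hz => Subtype.ext (hu.mul_left_eq_zero.1 (congrArg Subtype.val hz))
  · obtain ⟨a, ha⟩ := hden x
    exact ⟨a, Subtype.ext (ha.symm.trans (mul_comm _ _))⟩

section lift

variable [IsNoetherianRing A] {g : A} (q : Ideal A) [q.IsPrime] {B : Type u} [CommRing B]
  [Algebra (Localization.AtPrime q) B]

/-- The structure map from the base. -/
noncomputable abbrev toB (B : Type u) [CommRing B] [Algebra (Localization.AtPrime q) B] : A →+* B :=
  (algebraMap (Localization.AtPrime q) B).comp (algebraMap A (Localization.AtPrime q))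

theorem exists_num (hinjB : Function.Injective (algebraMap (Localization.AtPrime q) B)) (J : Ideal A) {n m : ℕ}
    (hrange : ∀ z ∈ Ideal.span {toB q B g ^ n}, z ∈ (algebraMap (Localization.AtPrime q) B).range)
    (h1 : ∀ j ∈ J, toB q B j ∈ Ideal.span {toB q B g ^ n})
    (h2 : ∀ c : A, toB q B c ∈ Ideal.span {toB q B g ^ n} → ∃ t ∉ q, t * c ∈ J)
    (hJ : g ^ m ∈ J) (b : B) :
    ∃ x : multRing (Localization.Away g) J, ∃ c s : A, s ∉ q ∧
      (x : Localization.Away g) * algebraMap A _ (g ^ m) = algebraMap A _ c ∧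
      toB q B c = toB q B s * b * toB q B (g ^ m) := by
  classical
  let K := Localization.Away g
  have hstep : ∀ j ∈ J, ∃ s ∉ q, ∃ c ∈ J, toB q B c = toB q B s * b * toB q B j := by
    intro j hj
    have hz : b * toB q B j ∈ Ideal.span {toB q B g ^ n} := Ideal.mul_mem_left _ b (h1 j hj)
    obtain ⟨α, hα⟩ := hrange _ hz
    obtain ⟨⟨c, s⟩, hcs⟩ := IsLocalization.surj q.primeCompl α
    have hc : toB q B c = toB q B (s : A) * b * toB q B j := by
      rw [mul_assoc, ← hα]
      show algebraMap (Localization.AtPrime q) B _ = algebraMap (Localization.AtPrime q) B _ * _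
      rw [← hcs, map_mul, mul_comm]
    obtain ⟨t, ht, htc⟩ := h2 c (by rw [hc, mul_assoc]; exact Ideal.mul_mem_left _ _ hz)
    refine ⟨t * s, fun h => (‹q.IsPrime›.mem_or_mem h).elim ht s.2, t * c, htc, ?_⟩
    rw [map_mul, map_mul, hc]; ring
  obtain ⟨s₀, hs₀, c₀, hc₀, he₀⟩ := hstep _ hJ
  have hkill : ∀ j ∈ J, ∃ s ∉ q, s * c₀ * j ∈ Ideal.span {g ^ m} * J := by
    intro j hj
    obtain ⟨s, hs, c, hc, he⟩ := hstep j hj
    have e : toB q B (s * c₀ * j) = toB q B (g ^ m * (s₀ * c)) := by
      rw [map_mul, map_mul, map_mul, map_mul, he₀, he]; ring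
    obtain ⟨w, hw⟩ := (IsLocalization.eq_iff_exists q.primeCompl (Localization.AtPrime q)).1 (hinjB e)
    refine ⟨(w : A) * s, fun h => (‹q.IsPrime›.mem_or_mem h).elim w.2 hs, ?_⟩
    rw [show (w : A) * s * c₀ * j = g ^ m * ((w : A) * (s₀ * c)) by linear_combination hw]
    exact Ideal.mul_mem_mul (Ideal.subset_span rfl) (J.mul_mem_left _ (J.mul_mem_left _ hc))
  obtain ⟨G, hG⟩ := (IsNoetherian.noetherian J : J.FG)
  have hGJ : ∀ j ∈ G, j ∈ J := fun j hj => hG ▸ Submodule.subset_span hj
  choose! sf hsf hsf' using fun j (hj : j ∈ G) => hkill j (hGJ j hj)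
  have hS : ∏ j ∈ G, sf j ∉ q := fun h => by
    obtain ⟨j, hj, hj'⟩ := ‹q.IsPrime›.prod_mem_iff.1 h
    exact hsf j hj hj'
  have hall : ∀ j ∈ J, (∏ j ∈ G, sf j) * c₀ * j ∈ Ideal.span {g ^ m} * J := by
    intro j hj
    have hle : Ideal.span (G : Set A) ≤
        Submodule.comap (LinearMap.mulLeft A ((∏ j ∈ G, sf j) * c₀)) (Ideal.span {g ^ m} * J) := by
      refine Ideal.span_le.2 fun i hi => ?_
      show (∏ j ∈ G, sf j) * c₀ * i ∈ Ideal.span {g ^ m} * J
      rw [← Finset.mul_prod_erase G sf (Finset.mem_coe.1 hi),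
        show sf i * (∏ j ∈ G.erase i, sf j) * c₀ * i = (∏ j ∈ G.erase i, sf j) * (sf i * c₀ * i) by ring]
      exact Ideal.mul_mem_left _ _ (hsf' i hi)
    exact hle (hG.ge hj)
  have hu : IsUnit (algebraMap A K (g ^ m)) := IsLocalization.map_units K (⟨g ^ m, m, rfl⟩ : Submonoid.powers g)
  let x : K := algebraMap A K ((∏ j ∈ G, sf j) * c₀) * ↑hu.unit⁻¹
  have hx : x * algebraMap A K (g ^ m) = algebraMap A K ((∏ j ∈ G, sf j) * c₀) := by
    rw [mul_assoc, IsUnit.val_inv_mul, mul_one]
  refine ⟨⟨x, fun j hj => ?_⟩, (∏ j ∈ G, sf j) * c₀, (∏ j ∈ G, sf j) * s₀,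
    fun h => (‹q.IsPrime›.mem_or_mem h).elim hS hs₀, hx, by rw [map_mul, map_mul, he₀]; ring⟩
  obtain ⟨c, hc, hcj⟩ := Ideal.mem_span_singleton_mul.1 (hall j hj)
  refine ⟨c, hc, hu.mul_left_cancel ?_⟩
  show algebraMap A K (g ^ m) * (x * algebraMap A K j) = algebraMap A K (g ^ m) * algebraMap A K c
  rw [← map_mul (algebraMap A K) (g ^ m) c, hcj, map_mul (algebraMap A K) _ j, ← hx]
  ring

/-- The frame map to a local ring above. -/
theorem exists_lift (hinjB : Function.Injective (algebraMap (Localization.AtPrime q) B)) [Module.Finite (Localization.AtPrime q) B]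
    (C : Type u) [CommRing C] [Algebra A C] (H₀ : A) (hH₀ : algebraMap A C H₀ ∈ nonZeroDivisors C)
    (ha : ∀ b : B, ∃ α, algebraMap (Localization.AtPrime q) B α = toB q B H₀ * b)
    (hnum : ∀ b : B, ∃ x : C, ∃ c s : A, s ∉ q ∧ x * algebraMap A C H₀ = algebraMap A C c ∧
      toB q B c = toB q B s * b * toB q B H₀)
    (r : PrimeSpectrum C) (hr : r.asIdeal.comap (algebraMap A C) = q) :
    ∃ (p : MaximalSpectrum B) (φ : Loc p →+* Localization.AtPrime r.asIdeal),
      ∀ a : A, φ (algebraMap (Localization.AtPrime q) (Loc p) (algebraMap A _ a)) =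
        algebraMap C _ (algebraMap A C a) := by
  let R := Localization.AtPrime r.asIdeal
  let ι : Localization.AtPrime q →+* R := Localization.localRingHom q r.asIdeal (algebraMap A C) hr.symm
  have hι : ∀ a, ι (algebraMap A _ a) = algebraMap C R (algebraMap A C a) := fun a =>
    Localization.localRingHom_to_map _ _ _ _ a
  let H : R := algebraMap C R (algebraMap A C H₀)
  have hH : H ∈ nonZeroDivisors R := IsLocalization.nonZeroDivisors_le_comap r.asIdeal.primeCompl _ hH₀
  choose α hα using ha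
  have hz : ∀ b : B, ∃ z : R, H * z = ι (α b) := fun b => by
    obtain ⟨x, c, s, hs, hxc, hcB⟩ := hnum b
    have hsu : IsUnit (ι (algebraMap A _ s)) :=
      (IsLocalization.map_units (Localization.AtPrime q) (⟨s, hs⟩ : q.primeCompl)).map ι
    refine ⟨algebraMap C R x * ↑hsu.unit⁻¹, hsu.mul_left_cancel ?_⟩
    have e1 : algebraMap A (Localization.AtPrime q) c = algebraMap A _ s * α b := hinjB (by
      rw [map_mul, hα]
      exact hcB.trans (by simp only [toB, RingHom.comp_apply]; ring))
    rw [← map_mul ι, ← e1, hι c, ← hxc, map_mul (algebraMap C R)]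
    calc ι (algebraMap A _ s) * (H * (algebraMap C R x * ↑hsu.unit⁻¹))
        = algebraMap C R x * H * (ι (algebraMap A _ s) * ↑hsu.unit⁻¹) := by ring
      _ = algebraMap C R x * H := by rw [IsUnit.mul_val_inv, mul_one]
  choose z hz using hz
  have hcan : ∀ {x y : R}, H * x = H * y → x = y := fun h => (mul_cancel_left_mem_nonZeroDivisors hH).1 h
  have hm : ι (algebraMap A _ H₀) = H := hι _
  have hzalg : ∀ a : Localization.AtPrime q, z (algebraMap _ B a) = ι a := fun a => hcan (by
    rw [hz, show α (algebraMap _ B a) = algebraMap A _ H₀ * a from hinjB (by rw [hα, map_mul]; rfl), map_mul, hm])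
  let ψ : B →+* R :=
    { toFun := z
      map_one' := by rw [← map_one (algebraMap (Localization.AtPrime q) B), hzalg, map_one]
      map_zero' := by rw [← map_zero (algebraMap (Localization.AtPrime q) B), hzalg, map_zero]
      map_add' := fun x y => hcan (by
        rw [hz, show α (x + y) = α x + α y from hinjB (by rw [hα, map_add, hα, hα, mul_add]), map_add, mul_add, hz, hz])
      map_mul' := fun x y => hcan (hcan (by
        rw [hz, show H * (H * (z x * z y)) = (H * z x) * (H * z y) by ring, hz, hz, ← hm, ← map_mul, ← map_mul]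
        congr 1
        refine hinjB ?_
        rw [map_mul, map_mul, hα, hα, hα]
        show toB q B H₀ * _ = _
        ring)) }
  haveI : IsLocalHom ι := Localization.isLocalHom_localRingHom _ _ _ hr.symm
  have hcomap : ((maximalIdeal R).comap ψ).comap (algebraMap (Localization.AtPrime q) B) =
      maximalIdeal (Localization.AtPrime q) := by
    rw [Ideal.comap_comap, show ψ.comp (algebraMap (Localization.AtPrime q) B) = ι from RingHom.ext hzalg]
    exact IsLocalRing.maximalIdeal_comap ι
  haveI : (((maximalIdeal R).comap ψ).comap (algebraMap (Localization.AtPrime q) B)).IsMaximal :=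
    hcomap ▸ maximalIdeal.isMaximal _
  let p : MaximalSpectrum B := ⟨(maximalIdeal R).comap ψ,
    Ideal.isMaximal_of_isIntegral_of_isMaximal_comap (R := Localization.AtPrime q) _ ‹_›⟩
  refine ⟨p, IsLocalization.lift (M := p.asIdeal.primeCompl) (g := ψ) (fun y => ?_), fun a => ?_⟩
  · exact not_not.1 fun hn => y.2 ((IsLocalRing.mem_maximalIdeal _).2 hn)
  · rw [IsScalarTower.algebraMap_apply (Localization.AtPrime q) B (Loc p), IsLocalization.lift_eq]
    exact (hzalg _).trans (hι a)

end lift

/-- A finite birational extension with frames above given height one primes. -/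
theorem exists_blow [IsNoetherianRing A] (g : A) (hg : g ∈ nonZeroDivisors A) (a b : A) (hab : g = a * b)
    (Q : Finset (PrimeSpectrum A)) (hQ : ∀ q ∈ Q, g ∈ q.asIdeal ∧ ringKrullDim (Localization.AtPrime q.asIdeal) ≤ 1)
    (hne : ∀ q ∈ Q, ∀ q' ∈ Q, q.asIdeal ≤ q'.asIdeal → q = q') :
    ∃ (C : Type u) (_ : CommRing C) (_ : Algebra A C), Birat A C ∧ ∀ r : PrimeSpectrum C,
      (∃ q ∈ Q, r.asIdeal.comap (algebraMap A C) = q.asIdeal) →
      ∃ (π : Localization.AtPrime r.asIdeal), π ∈ nonZeroDivisors (Localization.AtPrime r.asIdeal) ∧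
        ∃ (u v : (Localization.AtPrime r.asIdeal)ˣ) (e f : ℕ),
          algebraMap C _ (algebraMap A C a) = (u : Localization.AtPrime r.asIdeal) * π ^ e ∧
          algebraMap C _ (algebraMap A C b) = (v : Localization.AtPrime r.asIdeal) * π ^ f := by
  classical
  obtain ⟨haA, hbA⟩ := mul_mem_nonZeroDivisors.1 (hab ▸ hg)
  have hnz : ∀ (q : PrimeSpectrum A) {x : A}, x ∈ nonZeroDivisors A →
      algebraMap A (Localization.AtPrime q.asIdeal) x ∈ nonZeroDivisors (Localization.AtPrime q.asIdeal) :=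
    fun q _ h => IsLocalization.nonZeroDivisors_le_comap q.asIdeal.primeCompl _ h
  choose B iB iAB hB π hπ hfac using fun q : Q => exists_frame (hQ q.1 q.2).2
    {algebraMap A (Localization.AtPrime q.1.asIdeal) a, algebraMap A (Localization.AtPrime q.1.asIdeal) b} (by
      simp only [Multiset.insert_eq_cons, Multiset.mem_cons, Multiset.mem_singleton]
      rintro x (rfl | rfl)
      · exact hnz _ haA
      · exact hnz _ hbA)
  have hgm : ∀ q : Q, algebraMap A (Localization.AtPrime q.1.asIdeal) g ∈ maximalIdeal _ := fun q =>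
    (IsLocalization.AtPrime.to_map_mem_maximal_iff _ q.1.asIdeal g).2 (hQ q.1 q.2).1
  choose n hn using fun q : Q => (isFinExt_of_birat (hQ q.1 q.2).2 (hB q)).2.2
  let J' : Q → Ideal A := fun q => (Ideal.span {toB q.1.asIdeal (B q) g ^ n q}).comap (toB q.1.asIdeal (B q))
  let J : Ideal A := ∏ q : Q, J' q
  have hJ : g ^ (∑ q : Q, n q) ∈ J := by
    rw [← Finset.prod_pow_eq_pow_sum]
    exact Ideal.prod_mem_prod fun q _ => by
      show toB q.1.asIdeal (B q) (g ^ n q) ∈ Ideal.span _
      rw [map_pow]; exact Ideal.subset_span rfl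
  obtain ⟨hbir, -⟩ := birat_multRing g hg J _ hJ
  refine ⟨multRing (Localization.Away g) J, inferInstance, inferInstance, hbir, ?_⟩
  rintro r ⟨q, hq, hr⟩
  let q' : Q := ⟨q, hq⟩
  letI : Algebra (Localization.AtPrime q.asIdeal) (B q') := iAB q'
  haveI := (hB q').fin
  have hrange : ∀ z ∈ Ideal.span {toB q.asIdeal (B q') g ^ n q'},
      z ∈ (algebraMap (Localization.AtPrime q.asIdeal) (B q')).range := by
    intro z hz
    obtain ⟨w, rfl⟩ := Ideal.mem_span_singleton'.1 hz
    obtain ⟨α, hα⟩ := hn q' _ (Ideal.pow_mem_pow (hgm q') (n q')) w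
    exact ⟨α, hα.trans (by rw [Algebra.smul_def, map_pow, mul_comm]; rfl)⟩
  have h1 : ∀ j ∈ J, toB q.asIdeal (B q') j ∈ Ideal.span {toB q.asIdeal (B q') g ^ n q'} := fun j hj =>
    (Ideal.prod_le_inf.trans (Finset.inf_le (f := J') (Finset.mem_univ q'))) hj
  have hnotle : ∀ p : Q, p ≠ q' → ¬ J' p ≤ q.asIdeal := by
    intro p hp hle
    haveI : Ring.KrullDimLE 1 (Localization.AtPrime p.1.asIdeal) := Ring.krullDimLE_iff.2 (hQ p.1 p.2).2
    have hfl := isFiniteLength_quotient_span_singleton (Localization.AtPrime p.1.asIdeal) (pow_mem (hnz p.1 hg) (n p))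
    obtain ⟨hN, hAr⟩ := isFiniteLength_iff_isNoetherian_isArtinian.1 hfl
    haveI : IsArtinianRing (Localization.AtPrime p.1.asIdeal ⧸
        Ideal.span {algebraMap A (Localization.AtPrime p.1.asIdeal) g ^ n p}) := isArtinian_of_tower _ hAr
    obtain ⟨k, hk⟩ := exists_maximalIdeal_pow_le_of_isArtinianRing_quotient
      (Ideal.span {algebraMap A (Localization.AtPrime p.1.asIdeal) g ^ n p})
    refine hp (Subtype.ext (hne p.1 p.2 q hq fun x hx => q.2.mem_of_pow_mem k (hle ?_)))
    show toB p.1.asIdeal (B p) (x ^ k) ∈ Ideal.span _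
    obtain ⟨w, hw⟩ := Ideal.mem_span_singleton'.1 (hk (Ideal.pow_mem_pow
      ((IsLocalization.AtPrime.to_map_mem_maximal_iff _ p.1.asIdeal x).2 hx) k))
    change algebraMap (Localization.AtPrime p.1.asIdeal) (B p) (algebraMap A _ (x ^ k)) ∈ Ideal.span _
    rw [map_pow (algebraMap A _), ← hw, map_mul, map_pow]
    exact Ideal.mul_mem_left _ _ (Ideal.subset_span rfl)
  have h2 : ∀ c : A, toB q.asIdeal (B q') c ∈ Ideal.span {toB q.asIdeal (B q') g ^ n q'} →
      ∃ t ∉ q.asIdeal, t * c ∈ J := by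
    intro c hc
    have hnp : ¬ ∏ p ∈ Finset.univ.erase q', J' p ≤ q.asIdeal := fun hle => by
      obtain ⟨p, hp, hple⟩ := q.2.prod_le.1 hle
      exact hnotle p (Finset.mem_erase.1 hp).1 hple
    obtain ⟨t, ht, htq⟩ := SetLike.not_le_iff_exists.1 hnp
    refine ⟨t, htq, ?_⟩
    show t * c ∈ ∏ p : Q, J' p
    rw [← Finset.mul_prod_erase _ _ (Finset.mem_univ q'), mul_comm t c]
    exact Ideal.mul_mem_mul hc ht
  have hnm : n q' ≤ ∑ q : Q, n q := Finset.single_le_sum (fun i _ => Nat.zero_le (n i)) (Finset.mem_univ q')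
  obtain ⟨p, φ, hφ⟩ := exists_lift q.asIdeal (hB q').inj (multRing (Localization.Away g) J) (g ^ ∑ q : Q, n q)
    (hbir.map_nzd (pow_mem hg _))
    (fun b => hrange _ (Ideal.mul_mem_right b _ (by rw [map_pow]; exact Ideal.mem_span_singleton.2 (pow_dvd_pow _ hnm))))
    (fun b => by
      obtain ⟨x, c, s, hs, hxc, hcB⟩ := exists_num q.asIdeal (hB q').inj J hrange h1 h2 hJ b
      exact ⟨x, c, s, hs, Subtype.ext hxc, hcB⟩) r hr
  obtain ⟨u, e, hu⟩ := hfac q' _ (Submonoid.subset_closure (show
    algebraMap A (Localization.AtPrime q.asIdeal) a ∈ {x | x ∈ ({algebraMap A (Localization.AtPrime q.asIdeal) a,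
      algebraMap A (Localization.AtPrime q.asIdeal) b} : Multiset _)} by simp)) p
  obtain ⟨v, f, hv⟩ := hfac q' _ (Submonoid.subset_closure (show
    algebraMap A (Localization.AtPrime q.asIdeal) b ∈ {x | x ∈ ({algebraMap A (Localization.AtPrime q.asIdeal) a,
      algebraMap A (Localization.AtPrime q.asIdeal) b} : Multiset _)} by simp)) p
  have e1 := congrArg φ hu
  have e2 := congrArg φ hv
  rw [hφ, map_mul, map_pow] at e1 e2
  have hgR : algebraMap (multRing (Localization.Away g) J) (Localization.AtPrime r.asIdeal) (algebraMap A _ g) ∈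
      maximalIdeal _ := by
    rw [IsLocalization.AtPrime.to_map_mem_maximal_iff _ r.asIdeal, ← Ideal.mem_comap, hr]
    exact (hQ q hq).1
  refine ⟨φ (π q' p), ?_, Units.map φ.toMonoidHom u, Units.map φ.toMonoidHom v, e, f, e1, e2⟩
  have hgab : algebraMap (multRing (Localization.Away g) J) (Localization.AtPrime r.asIdeal) (algebraMap A _ g) =
      algebraMap _ _ (algebraMap A (multRing (Localization.Away g) J) a) *
        algebraMap _ _ (algebraMap A (multRing (Localization.Away g) J) b) := by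
    rw [← map_mul, ← map_mul]
    exact congrArg (fun z => algebraMap (multRing (Localization.Away g) J) (Localization.AtPrime r.asIdeal) (algebraMap A _ z)) hab
  have hef : e + f ≠ 0 := fun h0 => (IsLocalRing.mem_maximalIdeal _).1 hgR (by
    rw [hgab, e1, e2, show e = 0 by omega, show f = 0 by omega, pow_zero, mul_one, mul_one]
    exact (u.isUnit.map φ).mul (v.isUnit.map φ))
  have hgn : algebraMap (multRing (Localization.Away g) J) (Localization.AtPrime r.asIdeal) (algebraMap A _ g) ∈
      nonZeroDivisors _ := IsLocalization.nonZeroDivisors_le_comap r.asIdeal.primeCompl _ (hbir.map_nzd hg)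
  obtain ⟨N, hN⟩ := Nat.exists_eq_succ_of_ne_zero hef
  have : φ (π q' p) ^ (e + f) ∈ nonZeroDivisors (Localization.AtPrime r.asIdeal) := by
    rw [hgab, e1, e2, mul_mul_mul_comm, ← pow_add] at hgn
    exact (mul_mem_nonZeroDivisors.1 hgn).2
  rw [hN, pow_succ] at this
  exact (mul_mem_nonZeroDivisors.1 this).2

end Groth.Agent.Tame26
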