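import Groth.Agent.Lib.Tame26.FinExt

/-! # Local degrees of finite birational extensions -/

set_option autoImplicit false
universe u

open IsLocalRing

namespace Groth.Agent.Tame26

variable {A : Type u} [CommRing A] [IsLocalRing A] {B : Type u} [CommRing B] [Algebra A B]

/-- The local ring at a maximal ideal. -/
abbrev Loc {B : Type u} [CommRing B] (q : MaximalSpectrum B) : Type u := Localization.AtPrime q.asIdeal

instance isLocalHom_loc [Module.Finite A B] (q : MaximalSpectrum B) : IsLocalHom (algebraMap A (Loc q)) :=
  isLocalHom_atPrime q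

theorem length_quot_max [Module.Finite A B] (q : MaximalSpectrum B) :
    Module.Finite (ResidueField A) (ResidueField (Loc q)) ∧
      Module.length A (B ⧸ q.asIdeal) = (Module.finrank (ResidueField A) (ResidueField (Loc q)) : ℕ∞) := by
  haveI := q.isMaximal
  let f : (B ⧸ q.asIdeal) →ₗ[A] ResidueField (Loc q) :=
    (Algebra.linearMap (B ⧸ q.asIdeal) q.asIdeal.ResidueField).restrictScalars A
  have hf : Function.Bijective f := q.asIdeal.bijective_algebraMap_quotient_residueField
  haveI : Module.Finite A (ResidueField (Loc q)) := Module.Finite.equiv (LinearEquiv.ofBijective f hf)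
  haveI : Module.Finite (ResidueField A) (ResidueField (Loc q)) := Module.Finite.of_restrictScalars_finite A _ _
  refine ⟨inferInstance, ?_⟩
  rw [(LinearEquiv.ofBijective f hf).length_eq,
    Module.length_eq_of_surjective (R := ResidueField A) (S := A) (M := ResidueField (Loc q)) (residue_surjective),
    Module.length_eq_finrank]

/-- The degree of the residue field at a maximal ideal. -/
noncomputable def deg (A : Type u) [CommRing A] [IsLocalRing A] {B : Type u} [CommRing B] [Algebra A B]
    [Module.Finite A B] (q : MaximalSpectrum B) : ℕ :=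
  Module.finrank (ResidueField A) (ResidueField (Loc q))

theorem deg_pos [Module.Finite A B] (q : MaximalSpectrum B) : 0 < deg A q := by
  haveI := (length_quot_max (A := A) q).1
  exact Module.finrank_pos

/-- The order at a maximal ideal. -/
noncomputable def locOrd {B : Type u} [CommRing B] (q : MaximalSpectrum B) (x : Loc q) : ℕ := (Ring.ord (Loc q) x).toNat

variable [IsNoetherianRing A]

theorem noeth_loc [Module.Finite A B] (q : MaximalSpectrum B) : IsNoetherianRing (Loc q) := by
  haveI := IsNoetherianRing.of_finite A B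
  exact IsLocalization.isNoetherianRing q.asIdeal.primeCompl _ inferInstance

omit [IsLocalRing A] [IsNoetherianRing A] in
theorem dimLE_loc [Module.Finite A B] (hA : ringKrullDim A ≤ 1) (q : MaximalSpectrum B) :
    Ring.KrullDimLE 1 (Loc q) := by
  refine Ring.krullDimLE_iff.2 (le_trans ?_ hA)
  refine le_trans ?_ (Order.krullDim_le_of_strictMono
    (fun p : PrimeSpectrum B => PrimeSpectrum.comap (algebraMap A B) p)
    fun p p' h => Ideal.IsIntegral.comap_lt_comap (A := B) (R := A) (I := p.asIdeal) (J := p'.asIdeal) h)
  exact Order.krullDim_le_of_strictMono (fun p : PrimeSpectrum (Loc q) => PrimeSpectrum.comap (algebraMap B (Loc q)) p)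
    (Monotone.strictMono_of_injective (fun p p' h => Ideal.comap_mono h)
      (PrimeSpectrum.localization_comap_injective (Loc q) q.asIdeal.primeCompl))

theorem ord_ne_top_loc [Module.Finite A B] (hA : ringKrullDim A ≤ 1) (q : MaximalSpectrum B) {x : Loc q}
    (hx : x ∈ nonZeroDivisors (Loc q)) : Ring.ord (Loc q) x ≠ ⊤ := by
  haveI := noeth_loc (A := A) q
  haveI := dimLE_loc (A := A) hA q
  exact Ring.ord_ne_top hx

omit [IsNoetherianRing A] in
theorem map_nzd_loc {B : Type u} [CommRing B] (q : MaximalSpectrum B) {x : B} (hx : x ∈ nonZeroDivisors B) :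
    algebraMap B (Loc q) x ∈ nonZeroDivisors (Loc q) :=
  IsLocalization.nonZeroDivisors_le_comap q.asIdeal.primeCompl _ hx

/-- The length of `B/zB` over `A` is the sum of the local orders weighted by residue degrees. -/
theorem len_eq_sum [Module.Finite A B] [Fintype (MaximalSpectrum B)] (hA : ringKrullDim A ≤ 1) {z : B}
    (hz : z ∈ nonZeroDivisors B) :
    (len A z).toNat = ∑ q : MaximalSpectrum B, deg A q * locOrd q (algebraMap B (Loc q) z) := by
  classical
  haveI := IsNoetherianRing.of_finite A B
  haveI : Ring.KrullDimLE 1 B := Ring.krullDimLE_iff.2 ((Order.krullDim_le_of_strictMono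
    (fun p : PrimeSpectrum B => PrimeSpectrum.comap (algebraMap A B) p)
    fun p p' h => Ideal.IsIntegral.comap_lt_comap (A := B) (R := A) (I := p.asIdeal) (J := p'.asIdeal) h).trans hA)
  let i : MaximalSpectrum B → PrimeSpectrum B := fun q => ⟨q.asIdeal, q.isMaximal.isPrime⟩
  have hi : Function.Injective i := fun a b h => MaximalSpectrum.ext (congrArg PrimeSpectrum.asIdeal h)
  have h := Cyc26.length_eq_sum_locLen (A := A) (Finset.univ.map ⟨i, hi⟩) (fun m => by
    simp only [Finset.mem_map, Finset.mem_univ, true_and, Function.Embedding.coeFn_mk]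
    exact ⟨fun ⟨q, hq⟩ => hq ▸ q.isMaximal, fun hm => ⟨⟨m.asIdeal, hm⟩, rfl⟩⟩) (B ⧸ Ideal.span {z})
    (isFiniteLength_quotient_span_singleton B hz)
  rw [Finset.sum_map] at h
  rw [len, h, ENat.toNat_sum]
  swap
  · intro q _ hq
    have h' := Finset.single_le_sum (f := fun q => Module.length A (B ⧸ (i q).asIdeal) *
      Herbrand26.locLen (i q) (B ⧸ Ideal.span {z})) (fun _ _ => bot_le) (Finset.mem_univ q)
    simp only [Function.Embedding.coeFn_mk] at h
    rw [← h] at h'
    exact len_ne_top (A := A) hA hz (top_le_iff.1 ((show (⊤ : ℕ∞) ≤ _ from hq.symm.le).trans h'))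
  refine Finset.sum_congr rfl fun q _ => ?_
  rw [ENat.toNat_mul]
  simp only [Function.Embedding.coeFn_mk]
  rw [show Module.length A (B ⧸ (i q).asIdeal) = (deg A q : ℕ∞) from (length_quot_max (A := A) q).2,
    Cyc26.locLen_quotient (i q) (Loc q), Ideal.map_span, Set.image_singleton, ENat.toNat_natCast]
  rfl

/-- A global element with prescribed local behaviour. -/
theorem exists_global [Module.Finite A B] (hA : ringKrullDim A ≤ 1) (q : MaximalSpectrum B) {π : Loc q}
    (hπ : π ∈ nonZeroDivisors (Loc q)) :
    ∃ p ∈ nonZeroDivisors B, (∃ w : Loc q, IsUnit w ∧ algebraMap B (Loc q) p = π * w) ∧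
      ∀ q' : MaximalSpectrum B, q' ≠ q → p ∉ q'.asIdeal := by
  classical
  haveI := noeth_loc (A := A) q
  haveI := dimLE_loc (A := A) hA q
  obtain ⟨-, hAr⟩ := isFiniteLength_iff_isNoetherian_isArtinian.1 (isFiniteLength_quotient_span_singleton (Loc q) hπ)
  haveI : IsArtinianRing (Loc q ⧸ Ideal.span {π}) := isArtinian_of_tower (Loc q) hAr
  obtain ⟨N, hN⟩ := exists_maximalIdeal_pow_le_of_isArtinianRing_quotient (Ideal.span {π})
  obtain ⟨⟨p0, s⟩, hp0⟩ := IsLocalization.surj q.asIdeal.primeCompl π
  dsimp only at hp0
  haveI := finite_maximalSpectrum A B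
  obtain ⟨p, hp⟩ := Ideal.exists_forall_sub_mem_ideal (ι := MaximalSpectrum B)
    (I := fun Q => if Q = q then Q.asIdeal ^ (N + 1) else Q.asIdeal)
    (fun Q Q' h => by
      have hc : IsCoprime Q.asIdeal Q'.asIdeal :=
        (Ideal.isCoprime_iff_sup_eq).2 (Q.isMaximal.coprime_of_ne Q'.isMaximal fun e => h (MaximalSpectrum.ext e))
      show IsCoprime (if Q = q then _ else _) (if Q' = q then _ else _)
      split_ifs
      exacts [hc.pow, hc.pow_left, hc.pow_right, hc])
    (fun Q => if Q = q then p0 else 1)
  have hpq : p - p0 ∈ q.asIdeal ^ (N + 1) := by simpa using hp q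
  have hpne : ∀ q' : MaximalSpectrum B, q' ≠ q → p ∉ q'.asIdeal := fun q' hne hmem => by
    have h := hp q'
    simp only [if_neg hne] at h
    exact q'.isMaximal.ne_top ((Ideal.eq_top_iff_one _).2 (by simpa using q'.asIdeal.sub_mem hmem h))
  have hδ : algebraMap B (Loc q) (p - p0) ∈ maximalIdeal (Loc q) ^ N * maximalIdeal (Loc q) := by
    rw [← pow_succ, ← Localization.AtPrime.map_eq_maximalIdeal, ← Ideal.map_pow]
    exact Ideal.mem_map_of_mem _ hpq
  obtain ⟨μ, hμ, hμe⟩ := Ideal.mem_span_singleton_mul.1 (Ideal.mul_mono hN le_rfl hδ)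
  have hw : IsUnit (algebraMap B (Loc q) s + μ) := by
    by_contra h
    have h' : algebraMap B (Loc q) s ∈ maximalIdeal (Loc q) := by
      simpa using Ideal.sub_mem _ ((mem_maximalIdeal _).2 h) hμ
    exact (mem_maximalIdeal _).1 h' (IsLocalization.map_units (Loc q) s)
  have hpe : algebraMap B (Loc q) p = π * (algebraMap B (Loc q) s + μ) := by
    rw [mul_add, hp0, hμe, map_sub]
    ring
  refine ⟨p, mem_nonZeroDivisors_iff_right.2 fun b hb => ?_, ⟨_, hw, hpe⟩, hpne⟩
  refine eq_zero_of_localization b fun J hJ => ?_
  let q' : MaximalSpectrum B := ⟨J, hJ⟩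
  by_cases hqq : q' = q
  · obtain rfl : J = q.asIdeal := congrArg MaximalSpectrum.asIdeal hqq
    refine (mem_nonZeroDivisors_iff_right.1 (hpe ▸ Submonoid.mul_mem _ hπ hw.mem_nonZeroDivisors :
      algebraMap B (Loc q) p ∈ nonZeroDivisors (Loc q))) _ ?_
    rw [← map_mul, hb, map_zero]
  · have hu : IsUnit (algebraMap B (Localization.AtPrime J) p) :=
      IsLocalization.map_units (Localization.AtPrime J) (⟨p, hpne q' hqq⟩ : J.primeCompl)
    refine hu.mul_left_eq_zero.1 ?_
    rw [← map_mul, hb, map_zero]

section Over

variable {C : Type u} [CommRing C] [Algebra A C] [Algebra B C] [IsScalarTower A B C]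

omit [IsLocalRing A] [IsNoetherianRing A] in
theorem over_isMaximal [Module.Finite B C] (r : MaximalSpectrum C) : (r.asIdeal.comap (algebraMap B C)).IsMaximal := by
  haveI := r.isMaximal
  exact Ideal.isMaximal_comap_of_isIntegral_of_isMaximal _

/-- The maximal ideal below. -/
def below (B : Type u) [CommRing B] {C : Type u} [CommRing C] [Algebra B C] [Module.Finite B C]
    (r : MaximalSpectrum C) : MaximalSpectrum B :=
  ⟨r.asIdeal.comap (algebraMap B C), over_isMaximal r⟩

/-- The map of local rings. -/
noncomputable def locMap (B : Type u) [CommRing B] {C : Type u} [CommRing C] [Algebra B C] [Module.Finite B C]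
    (r : MaximalSpectrum C) : Loc (below B r) →+* Loc r :=
  Localization.localRingHom _ r.asIdeal (algebraMap B C) rfl

instance locMap_isLocalHom [Module.Finite B C] (r : MaximalSpectrum C) : IsLocalHom (locMap B r) :=
  Localization.isLocalHom_localRingHom _ _ _ rfl

omit [IsLocalRing A] [IsNoetherianRing A] in
theorem locMap_algebraMap [Module.Finite B C] (r : MaximalSpectrum C) (b : B) :
    locMap B r (algebraMap B (Loc (below B r)) b) = algebraMap C (Loc r) (algebraMap B C b) :=
  Localization.localRingHom_to_map _ _ _ rfl b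

omit [IsLocalRing A] [IsNoetherianRing A] in
theorem locMap_base [Module.Finite B C] (r : MaximalSpectrum C) (a : A) :
    locMap B r (algebraMap A (Loc (below B r)) a) = algebraMap A (Loc r) a := by
  rw [IsScalarTower.algebraMap_apply A B (Loc (below B r)), locMap_algebraMap,
    IsScalarTower.algebraMap_apply A C (Loc r), IsScalarTower.algebraMap_apply A B C]

omit [IsNoetherianRing A] in
theorem norm_map_residue [Module.Finite A B] [Module.Finite A C] [Module.Finite B C] (r : MaximalSpectrum C) :
    ∃ k : ℕ, deg A r = deg A (below B r) * k ∧ ∀ f : ResidueField (Loc (below B r)),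
      Algebra.norm (ResidueField A) (ResidueField.map (locMap B r) f) = Algebra.norm (ResidueField A) f ^ k := by
  letI : Algebra (ResidueField (Loc (below B r))) (ResidueField (Loc r)) := (ResidueField.map (locMap B r)).toAlgebra
  haveI : IsScalarTower (ResidueField A) (ResidueField (Loc (below B r))) (ResidueField (Loc r)) :=
    IsScalarTower.of_algebraMap_eq fun x => by
      obtain ⟨a, rfl⟩ := residue_surjective x
      show residue _ (algebraMap A (Loc r) a) = ResidueField.map (locMap B r) (residue _ (algebraMap A _ a))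
      rw [ResidueField.map_residue, locMap_base]
  haveI := (length_quot_max (A := A) r).1
  haveI := (length_quot_max (A := A) (below B r)).1
  haveI : Module.Finite (ResidueField (Loc (below B r))) (ResidueField (Loc r)) :=
    Module.Finite.of_restrictScalars_finite (ResidueField A) _ _
  refine ⟨Module.finrank (ResidueField (Loc (below B r))) (ResidueField (Loc r)),
    (Module.finrank_mul_finrank _ _ _).symm, fun f => ?_⟩
  rw [show ResidueField.map (locMap B r) f = algebraMap _ (ResidueField (Loc r)) f from rfl,
    ← Algebra.norm_norm (S := ResidueField (Loc (below B r))), Algebra.norm_algebraMap, map_pow]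

end Over

end Groth.Agent.Tame26
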