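import Groth.Agent.Lib.Tame26.Degree

/-! # The determinant of a multiplication on a finite-length module, by local lengths -/

set_option autoImplicit false
set_option linter.style.haveILetI false
universe u

open IsLocalRing TensorProduct

namespace Groth.Agent.Tame26

variable {A' C' : Type u} [CommRing A'] [IsLocalRing A'] [CommRing C'] [Algebra A' C'] [Module.Finite A' C']

/-- length of the localisation of a simple quotient -/
theorem length_loc_tensor_simple (r s : MaximalSpectrum C') [DecidableEq (MaximalSpectrum C')] :
    Module.length (Loc r) (Loc r ⊗[C'] (C' ⧸ s.asIdeal)) = if r = s then 1 else 0 := by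
  haveI := r.isMaximal
  haveI := s.isMaximal
  rw [← (Algebra.TensorProduct.quotIdealMapEquivTensorQuot (Loc r) s.asIdeal).toLinearEquiv.length_eq]
  split_ifs with h
  · subst h
    rw [Localization.AtPrime.map_eq_maximalIdeal]
    haveI : IsSimpleModule (Loc r) (Loc r ⧸ maximalIdeal (Loc r)) :=
      isSimpleModule_iff_isCoatom.2 (maximalIdeal.isMaximal (Loc r)).out
    exact Module.length_eq_one _ _
  · have htop : s.asIdeal.map (algebraMap C' (Loc r)) = ⊤ := by
      obtain ⟨x, hxs, hxr⟩ := SetLike.not_le_iff_exists.1
        (fun hle => h (MaximalSpectrum.ext (s.isMaximal.eq_of_le r.isMaximal.ne_top hle).symm))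
      exact Ideal.eq_top_of_isUnit_mem _ (Ideal.mem_map_of_mem _ hxs)
        (IsLocalization.map_units (Loc r) (⟨x, hxr⟩ : r.asIdeal.primeCompl))
    rw [htop]
    haveI : Subsingleton (Loc r ⧸ (⊤ : Ideal (Loc r))) := Ideal.Quotient.subsingleton_iff.2 rfl
    exact Module.length_eq_zero

/-- The exponent of a maximal ideal. -/
noncomputable def locLen (r : MaximalSpectrum C') (N : Type u) [AddCommGroup N] [Module C' N] : ℕ∞ :=
  Module.length (Loc r) (Loc r ⊗[C'] N)

theorem locLen_ne_top (r : MaximalSpectrum C') (N : Type u) [AddCommGroup N] [Module C' N]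
    (hN : IsFiniteLength C' N) : locLen r N ≠ ⊤ := by
  classical
  induction hN with
  | @of_subsingleton M _ _ _ => rw [show locLen r M = 0 from Module.length_eq_zero]; simp
  | @of_simple_quotient M _ _ N' hs hfl ih =>
    haveI : Module.Flat C' (Loc r) := IsLocalization.flat (Loc r) r.asIdeal.primeCompl
    obtain ⟨J, hJ, ⟨e⟩⟩ := isSimpleModule_iff_quot_maximal.1 hs
    have hex : Function.Exact N'.subtype (e.toLinearMap ∘ₗ N'.mkQ) := by
      rw [LinearMap.exact_iff, LinearEquiv.ker_comp, Submodule.ker_mkQ, Submodule.range_subtype]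
    rw [locLen, Module.length_eq_add_of_exact (N'.subtype.baseChange (Loc r))
      ((e.toLinearMap ∘ₗ N'.mkQ).baseChange (Loc r))
        (Module.Flat.lTensor_preserves_injective_linearMap _ (Submodule.subtype_injective _))
        (LinearMap.lTensor_surjective _ (e.surjective.comp N'.mkQ_surjective)) (Module.Flat.lTensor_exact _ hex),
      length_loc_tensor_simple r ⟨J, hJ⟩]
    simp only [ne_eq, ENat.add_eq_top, not_or]
    exact ⟨ih, by split_ifs <;> simp⟩

theorem det_eq_prod [Fintype (MaximalSpectrum C')] (x : C') (N : Type u) [AddCommGroup N] [Module C' N]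
    [Module A' N] [IsScalarTower A' C' N] [Module (ResidueField A') N] [IsScalarTower A' (ResidueField A') N]
    (hN : IsFiniteLength C' N) (μ : N →ₗ[ResidueField A'] N) (hμ : ∀ n, μ n = x • n) :
    LinearMap.det μ = ∏ r : MaximalSpectrum C',
      Algebra.norm (ResidueField A') (residue (Loc r) (algebraMap C' (Loc r) x)) ^ (locLen r N).toNat := by
  classical
  revert μ
  rename_i i1 i2 i3 i4
  revert i1 i2 i3 i4
  induction hN with
  | @of_subsingleton M _ _ _ =>
    intro _ _ _ _ μ hμ
    have h1 : μ = LinearMap.id := LinearMap.ext fun n => Subsingleton.elim _ _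
    rw [h1, LinearMap.det_id, Finset.prod_eq_one]
    intro r _
    rw [show locLen r M = 0 from Module.length_eq_zero]
    simp
  | @of_simple_quotient M _ _ N' hs hfl ih =>
    intro _ _ _ _ μ hμ
    haveI : Module.Finite C' M := by
      haveI := (isFiniteLength_iff_isNoetherian_isArtinian.1 (IsFiniteLength.of_simple_quotient hfl)).1
      exact Module.IsNoetherian.finite C' M
    haveI : Module.Finite A' M := Module.Finite.trans C' M
    haveI : Module.Finite (ResidueField A') M := Module.Finite.of_restrictScalars_finite A' _ _
    obtain ⟨J, hJ, ⟨e⟩⟩ := isSimpleModule_iff_quot_maximal.1 hs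
    set s : MaximalSpectrum C' := ⟨J, hJ⟩ with hsdef
    haveI := hJ
    -- the map to the residue field
    haveI hlh : IsLocalHom (algebraMap A' (Loc s)) := isLocalHom_atPrime s
    let b : (C' ⧸ J) →ₗ[C'] ResidueField (Loc s) :=
      (Algebra.linearMap (C' ⧸ J) s.asIdeal.ResidueField).restrictScalars C'
    have hb : Function.Bijective b := s.asIdeal.bijective_algebraMap_quotient_residueField
    let p₀ : M →ₗ[C'] ResidueField (Loc s) := b ∘ₗ e.toLinearMap ∘ₗ N'.mkQ
    have hp₀ : Function.Surjective p₀ := hb.2.comp (e.surjective.comp N'.mkQ_surjective)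
    have hker : LinearMap.ker p₀ = N' := by
      ext m
      simp only [LinearMap.mem_ker, p₀, LinearMap.comp_apply, LinearEquiv.coe_coe]
      rw [map_eq_zero_iff b hb.1, map_eq_zero_iff e e.injective]
      exact Submodule.Quotient.mk_eq_zero N'
    let p : M →ₗ[ResidueField A'] ResidueField (Loc s) :=
      { toFun := p₀
        map_add' := p₀.map_add
        map_smul' := fun c m => by
          obtain ⟨a, rfl⟩ := residue_surjective c
          show p₀ (residue A' a • m) = residue A' a • p₀ m
          rw [← ResidueField.algebraMap_eq, algebraMap_smul, algebraMap_smul, ← algebraMap_smul C' a m,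
            map_smul, algebraMap_smul] }
    have hp : Function.Surjective p := hp₀
    have hmem : ∀ m, m ∈ LinearMap.ker p ↔ m ∈ N' := fun m => by rw [← hker]; rfl
    let W : Submodule (ResidueField A') M := LinearMap.ker p
    let eW : N' ≃+ W := { toFun := fun n => ⟨n.1, (hmem _).2 n.2⟩, invFun := fun n => ⟨n.1, (hmem _).1 n.2⟩,
                          left_inv := fun _ => rfl, right_inv := fun _ => rfl, map_add' := fun _ _ => rfl }
    letI : Module (ResidueField A') N' := eW.module (ResidueField A')
    haveI : IsScalarTower A' (ResidueField A') N' := IsScalarTower.of_algebraMap_smul fun a n => by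
      refine Subtype.ext ?_
      show algebraMap A' (ResidueField A') a • n.1 = a • n.1
      rw [algebraMap_smul]
    have hW : W ≤ W.comap μ := fun m hm => by
      show μ m ∈ W
      rw [hμ]; exact (hmem _).2 (N'.smul_mem x ((hmem _).1 hm))
    let μ' : N' →ₗ[ResidueField A'] N' :=
      { toFun := fun n => x • n
        map_add' := fun a b => smul_add x a b
        map_smul' := fun c n => by
          obtain ⟨a, rfl⟩ := residue_surjective c
          show x • (residue A' a • n) = residue A' a • (x • n)
          rw [← ResidueField.algebraMap_eq, algebraMap_smul, algebraMap_smul, ← algebraMap_smul C' a n,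
            ← algebraMap_smul C' a (x • n), smul_smul, smul_smul, mul_comm] }
    have ih' := ih μ' fun _ => rfl
    -- sub
    let eWl : N' ≃ₗ[ResidueField A'] W := eW.linearEquiv (ResidueField A')
    have h1 : LinearMap.det (μ.restrict hW) = LinearMap.det μ' := by
      rw [← LinearMap.det_conj μ' eWl]
      congr 1
      refine LinearMap.ext fun w => Subtype.ext ?_
      show μ w.1 = x • w.1
      exact hμ _
    -- quotient
    let eQ : (M ⧸ W) ≃ₗ[ResidueField A'] ResidueField (Loc s) := p.quotKerEquivOfSurjective hp
    have h2 : LinearMap.det (W.mapQ W μ hW) =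
        Algebra.norm (ResidueField A') (residue (Loc s) (algebraMap C' (Loc s) x)) := by
      rw [Algebra.norm_apply, ← LinearMap.det_conj (W.mapQ W μ hW) eQ]
      congr 1
      refine LinearMap.ext fun z => ?_
      obtain ⟨m, rfl⟩ := hp z
      have hsymm : eQ.symm (p m) = Submodule.Quotient.mk m := eQ.symm_apply_eq.2 rfl
      rw [LinearMap.comp_apply, LinearMap.comp_apply, LinearEquiv.coe_coe, LinearEquiv.coe_coe, hsymm,
        Submodule.mapQ_apply]
      show p₀ (μ m) = _
      rw [hμ, map_smul, Algebra.coe_lmul_eq_mul, LinearMap.mul_apply', Algebra.smul_def]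
      rfl
    rw [LinearMap.det_eq_det_mul_det W μ hW, h1, h2, ih']
    have hlen : ∀ r, (locLen r M).toNat = (locLen r N').toNat + if r = s then 1 else 0 := fun r => by
      haveI : Module.Flat C' (Loc r) := IsLocalization.flat (Loc r) r.asIdeal.primeCompl
      let q₀ : M →ₗ[C'] C' ⧸ J := e.toLinearMap ∘ₗ N'.mkQ
      have hq : Function.Surjective q₀ := e.surjective.comp N'.mkQ_surjective
      have hex : Function.Exact N'.subtype q₀ := by
        rw [LinearMap.exact_iff, LinearEquiv.ker_comp, Submodule.ker_mkQ, Submodule.range_subtype]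
      have := Module.length_eq_add_of_exact (N'.subtype.baseChange (Loc r)) (q₀.baseChange (Loc r))
        (Module.Flat.lTensor_preserves_injective_linearMap _ (Submodule.subtype_injective _))
        (LinearMap.lTensor_surjective _ hq) (Module.Flat.lTensor_exact _ hex)
      rw [locLen, locLen, this, length_loc_tensor_simple r s]
      have hfin : Module.length (Loc r) (Loc r ⊗[C'] N') ≠ ⊤ := by
        exact locLen_ne_top r N' hfl
      rw [ENat.toNat_add hfin (by split_ifs <;> simp)]
      split_ifs <;> simp
    simp_rw [hlen, pow_add, Finset.prod_mul_distrib]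
    congr 1
    rw [Finset.prod_eq_single s (fun r _ hr => by simp [hr]) (fun h => absurd (Finset.mem_univ s) h)]
    simp

end Groth.Agent.Tame26
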