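import Groth.Agent.Lib.Tame26.Birat

/-! # Common factors after a finite birational extension -/

set_option autoImplicit false
universe u

open scoped Pointwise
open IsLocalRing

namespace Groth.Agent.Tame26

variable {A : Type u} [CommRing A] [IsLocalRing A] [IsNoetherianRing A] {B : Type u} [CommRing B] [Algebra A B]

/-- For an ideal `I` containing a nonzerodivisor, `I/gI` has the length of `B/gB`. -/
theorem length_ideal_quot [Module.Finite A B] (hA : ringKrullDim A ≤ 1) (I : Ideal B) {x : B} (hxI : x ∈ I)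
    (hx : x ∈ nonZeroDivisors B) {g : B} (hg : g ∈ nonZeroDivisors B) :
    Module.length A (↥(I.restrictScalars A) ⧸ LinearMap.range ((LinearMap.mulLeft A g).restrict
      (p := I.restrictScalars A) (q := I.restrictScalars A) fun b hb => I.mul_mem_left g hb)) = len A g := by
  rw [len, ← (quotEquiv (A := A) g).length_eq]
  refine length_coker_eq (I.restrictScalars A).subtype (Submodule.subtype_injective _) _
    (fun a b hab => mul_cancel_left_mem_nonZeroDivisors hg |>.1 hab) _ (LinearMap.ext fun b => rfl) ?_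
  refine ne_top_of_le_ne_top (len_ne_top (A := A) hA hx) ?_
  rw [len, ← (quotEquiv (A := A) x).length_eq]
  refine Module.length_le_of_surjective (Submodule.factor ?_) (Submodule.factor_surjective _)
  rintro _ ⟨c, rfl⟩
  exact ⟨⟨x * c, I.mul_mem_right c hxI⟩, rfl⟩

/-- A relation of degree `n` among the products `a ^ (n - i) * b ^ i`, monic in the top one occurring. -/
theorem exists_relation [Module.Finite A B] (hA : ringKrullDim A ≤ 1) {a b : B} (ha : a ∈ nonZeroDivisors B) {g : A}
    (hgm : g ∈ maximalIdeal A) (hg : algebraMap A B g ∈ nonZeroDivisors B) :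
    ∃ (n j : ℕ), j ≤ n ∧ ∃ e ∈ Ideal.span {a, b} ^ j, e - b ^ j ∈ Ideal.span {a} * Ideal.span {a, b} ^ (j - 1) ∧
      (j = 0 → e = 1) ∧
      a ^ (n - j) * e ∈ (maximalIdeal A).map (algebraMap A B) * Ideal.span {a, b} ^ n := by
  classical
  set I : Ideal B := Ideal.span {a, b} with hI
  have haI : a ∈ I := Ideal.subset_span (by simp)
  have hbI : b ∈ I := Ideal.subset_span (by simp)
  obtain ⟨e, he⟩ := ENat.ne_top_iff_exists.1 (len_ne_top (A := A) hA hg)
  let n := e
  let P : Submodule A B := (I ^ n).restrictScalars A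
  let G : Submodule A P := Submodule.comap P.subtype (((maximalIdeal A).map (algebraMap A B) * I ^ n).restrictScalars A)
  let v : ℕ → P := fun i => ⟨a ^ (n - min i n) * b ^ min i n, by
    refine Submodule.restrictScalars_mem A (I ^ n) _ |>.2 ?_
    conv => arg 2; rw [show a ^ (n - min i n) * b ^ min i n = a ^ (n - min i n) * b ^ min i n from rfl]
    have := Ideal.mul_mem_mul (Ideal.pow_mem_pow haI (n - min i n)) (Ideal.pow_mem_pow hbI (min i n))
    rwa [← pow_add, Nat.sub_add_cancel (min_le_right i n)] at this⟩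
  let S : ℕ → Submodule A (P ⧸ G) := fun j => Submodule.span A ((fun i => Submodule.Quotient.mk (v i)) '' {i | i < j})
  have hlen : Module.length A (P ⧸ G) ≤ n := by
    refine le_trans ?_ ((length_ideal_quot hA (I ^ n) (Ideal.pow_mem_pow haI n) (pow_mem ha n) hg).trans he.symm).le
    refine Module.length_le_of_surjective (Submodule.factor ?_) (Submodule.factor_surjective _)
    rintro _ ⟨p, rfl⟩
    exact Ideal.mul_mem_mul (Ideal.mem_map_of_mem _ hgm) p.2
  obtain ⟨j, hjn, hj⟩ : ∃ j ≤ n, Submodule.Quotient.mk (v j) ∈ S j := by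
    by_contra hc
    push Not at hc
    have hgrow : ∀ j, j ≤ n + 1 → (j : ℕ∞) ≤ Module.length A (S j) := by
      intro j
      induction j with
      | zero => simp
      | succ j ih =>
        intro hj
        have hlt : S j < S (j + 1) := lt_of_le_of_ne
          (Submodule.span_mono (Set.image_mono fun i (hi : i < j) => (show i < j + 1 by omega)))
          fun h => hc j (by omega) (h ▸ Submodule.subset_span ⟨j, (show j < j + 1 by omega), rfl⟩)
        haveI : IsFiniteLength A (S (j + 1)) := Module.length_ne_top_iff.1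
          (ne_top_of_le_ne_top (ENat.coe_ne_top n) ((Module.length_le_of_injective (S (j + 1)).subtype (Submodule.injective_subtype _)).trans hlen))
        obtain ⟨h1, h2⟩ := isFiniteLength_iff_isNoetherian_isArtinian.1 ‹IsFiniteLength A (S (j + 1))›
        have hlt' : Module.length A ((S j).submoduleOf (S (j + 1))) < Module.length A (S (j + 1)) :=
          Submodule.length_lt fun h => hlt.ne (le_antisymm hlt.le (Submodule.submoduleOf_eq_top.1 h))
        rw [(Submodule.submoduleOfEquivOfLe hlt.le).length_eq] at hlt'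
        push_cast
        exact Order.add_one_le_of_lt ((ih (by omega)).trans_lt hlt')
    have := (hgrow (n + 1) le_rfl).trans ((Module.length_le_of_injective (S (n + 1)).subtype (Submodule.injective_subtype _)).trans hlen)
    norm_cast at this
    omega
  obtain ⟨r, hrs, hr⟩ := (Finsupp.mem_span_image_iff_linearCombination A).1 hj
  refine ⟨n, j, hjn, b ^ j - ∑ i ∈ r.support, algebraMap A B (r i) * (a ^ (j - i) * b ^ i), ?_, ?_, ?_, ?_⟩
  · refine Ideal.sub_mem _ (Ideal.pow_mem_pow hbI j) (Ideal.sum_mem _ fun i hi => Ideal.mul_mem_left _ _ ?_)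
    have hij : i < j := hrs hi
    have := Ideal.mul_mem_mul (Ideal.pow_mem_pow haI (j - i)) (Ideal.pow_mem_pow hbI i)
    rwa [← pow_add, Nat.sub_add_cancel hij.le] at this
  · rw [sub_sub_cancel_left]
    refine Submodule.neg_mem _ (Ideal.sum_mem _ fun i hi => Ideal.mul_mem_left _ _ ?_)
    have hij : i < j := hrs hi
    rw [show j - i = (j - i - 1) + 1 by omega, pow_succ', mul_assoc]
    refine Ideal.mul_mem_mul (Ideal.mem_span_singleton_self a) ?_
    have := Ideal.mul_mem_mul (Ideal.pow_mem_pow haI (j - i - 1)) (Ideal.pow_mem_pow hbI i)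
    rwa [← pow_add, show j - i - 1 + i = j - 1 by omega] at this
  · rintro rfl
    rw [Finset.sum_eq_zero fun i hi => absurd (hrs hi) (by simp), pow_zero, sub_zero]
  · have hG : v j - ∑ i ∈ r.support, r i • v i ∈ G := by
      rw [← Submodule.Quotient.mk_eq_zero, ← Submodule.mkQ_apply, map_sub, map_sum, sub_eq_zero, Submodule.mkQ_apply,
        ← hr, Finsupp.linearCombination_apply, Finsupp.sum]
      exact Finset.sum_congr rfl fun i _ => (map_smul G.mkQ _ _).symm
    have hG' : (v j : B) - ∑ i ∈ r.support, r i • (v i : B) ∈ (maximalIdeal A).map (algebraMap A B) * I ^ n := by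
      have h : ((v j - ∑ i ∈ r.support, r i • v i : P) : B) ∈ (maximalIdeal A).map (algebraMap A B) * I ^ n := hG
      simpa using h
    convert hG' using 1
    simp only [v, Algebra.smul_def, min_eq_left hjn, mul_sub, Finset.mul_sum]
    congr 1
    refine Finset.sum_congr rfl fun i hi => ?_
    have hij : i < j := hrs hi
    rw [min_eq_left (by omega : i ≤ n), show n - i = (n - j) + (j - i) by omega, pow_add]
    ring

/-- A reduction `c` of a power of the ideal `(a, b)`. -/
theorem exists_reduction [Module.Finite A B] (hA : ringKrullDim A ≤ 1) {a b : B} (ha : a ∈ nonZeroDivisors B)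
    {g : A} (hgm : g ∈ maximalIdeal A) (hg : algebraMap A B g ∈ nonZeroDivisors B) :
    ∃ (M : ℕ) (γ : B), 1 ≤ M ∧ γ ∈ nonZeroDivisors B ∧ γ ∈ Ideal.span {a, b} ^ M ∧
      Ideal.span {a, b} ^ M * Ideal.span {a, b} ^ M ≤ Ideal.span {γ} * Ideal.span {a, b} ^ M := by
  haveI : IsNoetherianRing B := IsNoetherianRing.of_finite A B
  obtain ⟨n, j, hjn, e, heI, heb, he0, hrel⟩ := exists_relation (A := A) hA (b := b) ha hgm hg
  set I : Ideal B := Ideal.span {a, b} with hI
  set m : Ideal B := (maximalIdeal A).map (algebraMap A B) with hm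
  have haI : a ∈ I := Ideal.subset_span (by simp)
  have hbI : b ∈ I := Ideal.subset_span (by simp)
  set c := a ^ (j + 1) + b * e with hc
  have hcI : c ∈ I ^ (j + 1) := Ideal.add_mem _ (Ideal.pow_mem_pow haI _)
    (by rw [pow_succ']; exact Ideal.mul_mem_mul hbI heI)
  have hbd : b ^ (j + 1) ∈ Ideal.span {c} ⊔ Ideal.span {a} * I ^ j := by
    rw [show b ^ (j + 1) = c + -(a * a ^ j + b * (e - b ^ j)) by rw [hc]; ring]
    refine Submodule.add_mem_sup (Ideal.mem_span_singleton_self c) (Submodule.neg_mem _ (Ideal.add_mem _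
      (Ideal.mul_mem_mul (Ideal.mem_span_singleton_self a) (Ideal.pow_mem_pow haI j)) ?_))
    rcases Nat.eq_zero_or_pos j with rfl | hj0
    · simp [he0 rfl]
    · have := Ideal.mul_mem_mul hbI heb
      rw [mul_left_comm, ← pow_succ', show j - 1 + 1 = j by omega] at this
      exact this
  have hstep : ∀ k, I ^ (k + (j + 1)) ≤ Ideal.span {c} * I ^ k ⊔ Ideal.span {a} * I ^ (k + j) := by
    have hIab : I = Ideal.span {a} ⊔ Ideal.span {b} := by
      rw [hI, ← Ideal.span_union, Set.singleton_union]
    intro k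
    have hpow : ∀ l, I ^ (l + 1) ≤ Ideal.span {a} * I ^ l ⊔ Ideal.span {b ^ (l + 1)} := by
      intro l
      induction l with
      | zero => simp only [zero_add, pow_one, pow_zero, mul_one]; exact hIab.le
      | succ l ih =>
        calc I ^ (l + 1 + 1) = I * I ^ (l + 1) := pow_succ' I (l + 1)
          _ ≤ I * (Ideal.span {a} * I ^ l ⊔ Ideal.span {b ^ (l + 1)}) := Ideal.mul_mono le_rfl ih
          _ = Ideal.span {a} * I ^ (l + 1) ⊔ I * Ideal.span {b ^ (l + 1)} := by
              rw [Ideal.mul_sup, mul_left_comm, ← pow_succ']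
          _ ≤ Ideal.span {a} * I ^ (l + 1) ⊔ Ideal.span {b ^ (l + 1 + 1)} := by
              refine sup_le le_sup_left ((le_of_eq (congrArg (· * Ideal.span {b ^ (l + 1)}) hIab)).trans ?_)
              rw [Ideal.sup_mul]
              refine sup_le (le_sup_of_le_left (Ideal.mul_mono le_rfl ?_)) (le_sup_of_le_right ?_)
              · rw [Ideal.span_le, Set.singleton_subset_iff]
                exact Ideal.pow_mem_pow hbI _
              · rw [Ideal.span_singleton_mul_span_singleton, ← pow_succ']
    have h0 : I ^ (j + 1) ≤ Ideal.span {c} ⊔ Ideal.span {a} * I ^ j := by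
      refine (hpow j).trans (sup_le le_sup_right ?_)
      rw [Ideal.span_le, Set.singleton_subset_iff]
      exact hbd
    calc I ^ (k + (j + 1)) = I ^ k * I ^ (j + 1) := pow_add I k (j + 1)
      _ ≤ I ^ k * (Ideal.span {c} ⊔ Ideal.span {a} * I ^ j) := Ideal.mul_mono le_rfl h0
      _ = Ideal.span {c} * I ^ k ⊔ Ideal.span {a} * I ^ (k + j) := by
          rw [Ideal.mul_sup, mul_comm (I ^ k), mul_left_comm (I ^ k), ← pow_add]
  have hiter : ∀ k l, I ^ (l + k + (j + 1)) ≤ Ideal.span {c} * I ^ (l + k) ⊔ Ideal.span {a ^ k} * I ^ (l + (j + 1)) := by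
    intro k
    induction k with
    | zero => intro l; simp
    | succ k ih =>
      intro l
      have h1 := ih (l + 1)
      rw [show l + 1 + k = l + (k + 1) by omega] at h1
      refine h1.trans (sup_le le_sup_left ((mul_le_mul_right (hstep (l + 1)) _).trans ?_))
      rw [Ideal.mul_sup, sup_le_iff]
      constructor
      · refine le_sup_of_le_left ?_
        rw [mul_left_comm]
        refine mul_le_mul_right ((mul_le_mul_left (Ideal.span_le.2 (Set.singleton_subset_iff.2
          (Ideal.pow_mem_pow haI k))) _).trans ?_) _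
        rw [← pow_add]
        exact Ideal.pow_le_pow_right (by omega)
      · refine le_sup_of_le_right ?_
        rw [← mul_assoc, Ideal.span_singleton_mul_span_singleton, ← pow_succ, show l + 1 + j = l + (j + 1) by omega]
  set N := n + 1 with hN
  have hNak : I ^ (N + (j + 1)) ≤ Ideal.span {c} * I ^ N := by
    refine Submodule.le_of_le_smul_of_le_jacobson_bot (I := m) (IsNoetherian.noetherian _)
      map_maximalIdeal_le_jacobson ?_
    have h1 := hiter N 0
    simp only [zero_add] at h1
    refine h1.trans (sup_le le_sup_left ?_)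
    rw [Ideal.mul_le]
    intro x hx y hy
    obtain ⟨z, rfl⟩ := Ideal.mem_span_singleton'.1 hx
    rw [mul_assoc]
    refine Ideal.mul_mem_left _ z ?_
    rw [show a ^ N * y = c * (a ^ (n - j) * y) + -((a ^ (n - j) * e) * (b * y)) by
      rw [hc, show N = (n - j) + (j + 1) by omega, pow_add]; ring]
    refine Submodule.add_mem_sup (Ideal.mul_mem_mul (Ideal.mem_span_singleton_self c) ?_) (Submodule.neg_mem _ ?_)
    · have := Ideal.mul_mem_mul (Ideal.pow_mem_pow haI (n - j)) hy
      rwa [← pow_add, show n - j + (j + 1) = N by omega] at this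
    · rw [smul_eq_mul]
      have := Ideal.mul_mem_mul hrel (Ideal.mul_mem_mul hbI hy)
      rw [mul_assoc, ← pow_succ', ← pow_add] at this
      rwa [show N + (j + 1) = n + (j + 1 + 1) by omega]
  have hk : ∀ k, I ^ (N + k + (j + 1)) ≤ Ideal.span {c} * I ^ (N + k) := fun k => by
    induction k with
    | zero => simpa using hNak
    | succ k ih =>
      rw [show N + (k + 1) + (j + 1) = (N + k + (j + 1)) + 1 by omega, ← add_assoc N k 1, pow_succ' I (N + k + (j + 1))]
      refine (mul_le_mul_right ih I).trans (le_of_eq ?_)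
      rw [mul_left_comm, ← pow_succ']
  let M := (j + 1) * N
  have hNM : N ≤ M := Nat.le_mul_of_pos_left _ (by omega)
  have hq : ∀ q, I ^ (M + (j + 1) * q) ≤ Ideal.span {c ^ q} * I ^ M := fun q => by
    induction q with
    | zero => simp
    | succ q ih =>
      obtain ⟨k, hk'⟩ := Nat.le.dest (hNM.trans (Nat.le_add_right M ((j + 1) * q)))
      rw [show M + (j + 1) * (q + 1) = (M + (j + 1) * q) + (j + 1) by ring, ← hk']
      refine (hk k).trans ?_
      rw [hk']
      refine (mul_le_mul_right ih _).trans (le_of_eq ?_)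
      rw [← mul_assoc, Ideal.span_singleton_mul_span_singleton, ← pow_succ']
  have hγI : c ^ N ∈ I ^ M := by
    have := Ideal.pow_mem_pow hcI N
    rwa [← pow_mul] at this
  have hsq : I ^ M * I ^ M ≤ Ideal.span {c ^ N} * I ^ M := by
    rw [← pow_add]; exact hq N
  refine ⟨M, c ^ N, le_trans (by omega) hNM, ?_, hγI, hsq⟩
  obtain ⟨z, -, hz⟩ := Ideal.mem_span_singleton_mul.1
    (hsq (Ideal.mul_mem_mul (Ideal.pow_mem_pow haI M) (Ideal.pow_mem_pow haI M)))
  exact (mul_mem_nonZeroDivisors.1 (hz ▸ Submonoid.mul_mem _ (pow_mem ha M) (pow_mem ha M))).1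

/-- After a finite birational extension two elements have a common factor with coprime cofactors. -/
theorem exists_common_factor (hA : ringKrullDim A ≤ 1) (hB : Birat A B) {a b : B} (ha : a ∈ nonZeroDivisors B)
    (hb : b ∈ nonZeroDivisors B) :
    ∃ (C : Type u) (_ : CommRing C) (_ : Algebra A C) (_ : Algebra B C) (_ : IsScalarTower A B C),
      Birat B C ∧ ∃ t a' b' : C, t ∈ nonZeroDivisors C ∧ a' ∈ nonZeroDivisors C ∧ b' ∈ nonZeroDivisors C ∧
        algebraMap B C a = t * a' ∧ algebraMap B C b = t * b' ∧ Ideal.span {a', b'} = ⊤ := by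
  classical
  haveI := hB.fin
  by_cases hau : IsUnit a
  · refine ⟨B, inferInstance, inferInstance, Algebra.id B, inferInstance, Birat.refl, 1, a, b,
      Submonoid.one_mem _, ha, hb, (one_mul a).symm, (one_mul b).symm, ?_⟩
    exact Ideal.eq_top_of_isUnit_mem _ (Ideal.subset_span (by simp)) hau
  obtain ⟨g, hg, z, hgz⟩ := hB.exists_mem ha
  have hgm : g ∈ maximalIdeal A := by
    refine fun hu => hau (isUnit_of_mul_isUnit_left (hgz ▸ hu.map (algebraMap A B)))
  obtain ⟨M, γ, hM, hγ, hγI, hsq⟩ := exists_reduction (A := A) hA (b := b) ha hgm (hB.map_nzd hg)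
  let J := Ideal.span {a, b} ^ M
  let K := FractionRing B
  let γu : Kˣ := (IsLocalization.map_units K (⟨γ, hγ⟩ : nonZeroDivisors B)).unit
  let q : B → K := fun x => algebraMap B K x * ↑γu⁻¹
  have hq : ∀ x, algebraMap B K γ * q x = algebraMap B K x := fun x => by
    show (γu : K) * (algebraMap B K x * ↑γu⁻¹) = _
    rw [mul_left_comm, Units.mul_inv, mul_one]
  have hcancel : ∀ {k l : K}, algebraMap B K γ * k = algebraMap B K γ * l → k = l := fun h =>
    (IsLocalization.map_units K (⟨γ, hγ⟩ : nonZeroDivisors B)).mul_left_cancel h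
  let S : Subalgebra B K :=
    { carrier := {k | ∃ x ∈ J, algebraMap B K γ * k = algebraMap B K x}
      mul_mem' := by
        rintro k l ⟨x, hx, hxk⟩ ⟨y, hy, hyl⟩
        obtain ⟨w, hw, hwe⟩ := Ideal.mem_span_singleton_mul.1 (hsq (Ideal.mul_mem_mul hx hy))
        refine ⟨w, hw, hcancel ?_⟩
        rw [← map_mul, hwe, map_mul, ← hxk, ← hyl]
        ring
      one_mem' := ⟨γ, hγI, mul_one _⟩
      add_mem' := by
        rintro k l ⟨x, hx, hxk⟩ ⟨y, hy, hyl⟩
        exact ⟨x + y, J.add_mem hx hy, by rw [mul_add, hxk, hyl, map_add]⟩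
      zero_mem' := ⟨0, J.zero_mem, by simp⟩
      algebraMap_mem' := fun r => ⟨γ * r, J.mul_mem_right r hγI, by rw [map_mul]⟩ }
  have hmem : ∀ x ∈ J, q x ∈ S := fun x hx => ⟨x, hx, hq x⟩
  let φ : J →ₗ[B] S :=
    { toFun := fun x => ⟨q x, hmem x x.2⟩
      map_add' := fun x y => Subtype.ext (by simp [q, add_mul])
      map_smul' := fun r x => Subtype.ext (by simp [q, Algebra.smul_def, mul_assoc]) }
  haveI : IsNoetherianRing B := IsNoetherianRing.of_finite A B
  have hbirat : Birat B S := by
    refine ⟨fun x y h => IsFractionRing.injective B K (congrArg Subtype.val h), Module.Finite.of_surjective φ ?_,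
      γ, hγ, ?_, ?_⟩
    · rintro ⟨k, x, hx, hxk⟩
      exact ⟨⟨x, hx⟩, Subtype.ext (hcancel (by rw [hxk]; exact hq x))⟩
    · rw [mem_nonZeroDivisors_iff_right]
      intro k hk
      refine Subtype.ext (hcancel ?_)
      have h2 : (k : K) * algebraMap B K γ = 0 := congrArg Subtype.val hk
      rw [mul_comm, h2]
      simp
    · rintro ⟨k, x, -, hxk⟩
      exact ⟨x, Subtype.ext hxk.symm⟩
  obtain ⟨k1, hk1, k2, hk2, hk⟩ : ∃ k1 ∈ Ideal.span {a, b} ^ (M - 1), ∃ k2 ∈ Ideal.span {a, b} ^ (M - 1),
      γ = a * k1 + b * k2 := by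
    have h := hγI
    rw [show M = (M - 1) + 1 by omega, pow_succ', Ideal.span_insert, Ideal.sup_mul] at h
    obtain ⟨u, hu, v, hv, huv⟩ := Submodule.mem_sup.1 h
    obtain ⟨k1, hk1, rfl⟩ := Ideal.mem_span_singleton_mul.1 hu
    obtain ⟨k2, hk2, rfl⟩ := Ideal.mem_span_singleton_mul.1 hv
    rw [← Ideal.span_insert] at hk1 hk2
    exact ⟨k1, hk1, k2, hk2, huv.symm⟩
  have haJ : ∀ k ∈ Ideal.span {a, b} ^ (M - 1), a * k ∈ J ∧ b * k ∈ J := fun k hk => by
    have e : J = Ideal.span {a, b} * Ideal.span {a, b} ^ (M - 1) := by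
      rw [← pow_succ', show M - 1 + 1 = M by omega]
    rw [e]
    exact ⟨Ideal.mul_mem_mul (Ideal.subset_span (by simp)) hk, Ideal.mul_mem_mul (Ideal.subset_span (by simp)) hk⟩
  let p1 : S := ⟨q (a * k1), hmem _ (haJ k1 hk1).1⟩
  let q1 : S := ⟨q (b * k1), hmem _ (haJ k1 hk1).2⟩
  let p2 : S := ⟨q (a * k2), hmem _ (haJ k2 hk2).1⟩
  let q2 : S := ⟨q (b * k2), hmem _ (haJ k2 hk2).2⟩
  let ι := algebraMap B S
  have hval : ∀ x : B, ((ι x : S) : K) = algebraMap B K x := fun x => rfl
  have hγS : ∀ s t : S, ι γ * s = ι γ * t → s = t := fun s t h => Subtype.ext (hcancel (congrArg Subtype.val h))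
  have hp1 : ι γ * p1 = ι a * ι k1 := by rw [← map_mul]; exact Subtype.ext (hq _)
  have hq1 : ι γ * q1 = ι b * ι k1 := by rw [← map_mul]; exact Subtype.ext (hq _)
  have hp2 : ι γ * p2 = ι a * ι k2 := by rw [← map_mul]; exact Subtype.ext (hq _)
  have hq2 : ι γ * q2 = ι b * ι k2 := by rw [← map_mul]; exact Subtype.ext (hq _)
  have hιk : ι γ = ι a * ι k1 + ι b * ι k2 := by rw [← map_mul, ← map_mul, ← map_add, ← hk]
  have hsum : p1 + q2 = 1 := hγS _ _ (by rw [mul_add, hp1, hq2, mul_one, ← hιk])
  haveI := (hB.trans hbirat).fin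
  haveI := finite_maximalSpectrum A S
  obtain ⟨x, hx⟩ := Ideal.exists_forall_sub_mem_ideal (ι := MaximalSpectrum S) (I := fun Q => Q.asIdeal)
    (fun Q Q' h => (Ideal.isCoprime_iff_sup_eq).2 (Q.isMaximal.coprime_of_ne Q'.isMaximal fun e => h (MaximalSpectrum.ext e)))
    (fun Q => if p1 ∈ Q.asIdeal then 0 else 1)
  have htop : Ideal.span {x * p1 + (1 - x) * q1, x * p2 + (1 - x) * q2} = ⊤ := by
    by_contra h
    obtain ⟨Q, hQ, hle⟩ := Ideal.exists_le_maximal _ h
    have h1 : x * p1 + (1 - x) * q1 ∈ Q := hle (Ideal.subset_span (by simp))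
    have h2 : x * p2 + (1 - x) * q2 ∈ Q := hle (Ideal.subset_span (by simp))
    have h3 := hx ⟨Q, hQ⟩
    dsimp only at h3
    by_cases hp : p1 ∈ Q
    · rw [if_pos hp, sub_zero] at h3
      have hq2Q : q2 ∈ Q := by
        have := Q.sub_mem h2 (Q.mul_mem_left (p2 - q2) h3)
        rwa [show x * p2 + (1 - x) * q2 - (p2 - q2) * x = q2 by ring] at this
      exact hQ.ne_top ((Ideal.eq_top_iff_one _).2 (hsum ▸ Q.add_mem hp hq2Q))
    · rw [if_neg hp] at h3
      refine hp ?_
      have := Q.sub_mem h1 (Q.mul_mem_left (p1 - q1) h3)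
      rwa [show x * p1 + (1 - x) * q1 - (p1 - q1) * (x - 1) = p1 by ring] at this
  obtain ⟨u, v, huv⟩ := Ideal.mem_span_pair.1 (show (1 : S) ∈ Ideal.span {x * p1 + (1 - x) * q1, x * p2 + (1 - x) * q2} by
    rw [htop]; trivial)
  set T : S := x * ι a + (1 - x) * ι b with hT
  set a' : S := u * p1 + v * p2 with ha'
  set b' : S := u * q1 + v * q2 with hb'
  have hT1 : T * (u * ι k1 + v * ι k2) = ι γ := by
    rw [← mul_one (ι γ), ← huv, hT]
    linear_combination (-(u * x)) * hp1 - (u * (1 - x)) * hq1 - (v * x) * hp2 - (v * (1 - x)) * hq2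
  have hea : ι a = T * a' := hγS _ _ (by
    calc ι γ * ι a = ι a * (T * (u * ι k1 + v * ι k2)) := by rw [hT1]; ring
      _ = ι γ * (T * a') := by rw [ha']; linear_combination (-(T * u)) * hp1 - (T * v) * hp2)
  have heb : ι b = T * b' := hγS _ _ (by
    calc ι γ * ι b = ι b * (T * (u * ι k1 + v * ι k2)) := by rw [hT1]; ring
      _ = ι γ * (T * b') := by rw [hb']; linear_combination (-(T * u)) * hq1 - (T * v) * hq2)
  have hTa := mul_mem_nonZeroDivisors.1 (hea ▸ hbirat.map_nzd ha : T * a' ∈ nonZeroDivisors S)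
  refine ⟨S, inferInstance, inferInstance, inferInstance, inferInstance, hbirat, T, a', b', hTa.1, hTa.2,
    (mul_mem_nonZeroDivisors.1 (heb ▸ hbirat.map_nzd hb : T * b' ∈ nonZeroDivisors S)).2, hea, heb, ?_⟩
  refine (Ideal.eq_top_iff_one _).2 (Ideal.mem_span_pair.2 ⟨x, 1 - x, ?_⟩)
  refine ((mul_cancel_left_mem_nonZeroDivisors hTa.1).1 ?_)
  rw [mul_one, hT]
  linear_combination (-x) * hea - (1 - x) * heb

/-- After a finite birational extension, a family of nonzerodivisors is generated multiplicatively by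
pairwise coprime ones. -/
theorem exists_coprime_factors (hA : ringKrullDim A ≤ 1) (hB : Birat A B) (s : Multiset B)
    (hs : ∀ x ∈ s, x ∈ nonZeroDivisors B) :
    ∃ (C : Type u) (_ : CommRing C) (_ : Algebra A C) (_ : Algebra B C) (_ : IsScalarTower A B C),
      Birat B C ∧ ∃ s' : Multiset C, (∀ x ∈ s', x ∈ nonZeroDivisors C) ∧
        (∀ x t, s' = x ::ₘ t → ∀ y ∈ t, Ideal.span {x, y} = ⊤) ∧
        ∀ x ∈ s, algebraMap B C x ∈ Submonoid.closure {y : C | y ∈ s'} := by
  classical
  suffices H : ∀ (N : ℕ) (B : Type u) [CommRing B] [Algebra A B], Birat A B → ∀ s : Multiset B,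
      (∀ x ∈ s, x ∈ nonZeroDivisors B) → (s.map fun x => (len A x).toNat).sum ≤ N →
      ∃ (C : Type u) (_ : CommRing C) (_ : Algebra A C) (_ : Algebra B C) (_ : IsScalarTower A B C),
        Birat B C ∧ ∃ s' : Multiset C, (∀ x ∈ s', x ∈ nonZeroDivisors C) ∧
          (∀ x t, s' = x ::ₘ t → ∀ y ∈ t, Ideal.span {x, y} = ⊤) ∧
          ∀ x ∈ s, algebraMap B C x ∈ Submonoid.closure {y : C | y ∈ s'} from H _ B hB s hs le_rfl
  intro N
  induction N using Nat.strong_induction_on with
  | _ N IH =>
    intro B _ _ hB s hs hN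
    by_cases hdone : ∀ x t, s = x ::ₘ t → ∀ y ∈ t, Ideal.span {x, y} = ⊤
    · exact ⟨B, inferInstance, inferInstance, Algebra.id B, inferInstance, Birat.refl, s, hs, hdone,
        fun x hx => Submonoid.subset_closure hx⟩
    push Not at hdone
    obtain ⟨x, t, rfl, y, hy, hxy⟩ := hdone
    obtain ⟨r, rfl⟩ := Multiset.exists_cons_of_mem hy
    have hx := hs x (Multiset.mem_cons_self _ _)
    have hy' := hs y (Multiset.mem_cons_of_mem (Multiset.mem_cons_self _ _))
    obtain ⟨C, _, _, _, _, hBC, T, a', b', hT, ha', hb', hea, heb, hcop0⟩ := exists_common_factor hA hB hx hy'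
    have hAC := hB.trans hBC
    haveI := hAC.fin
    haveI := hBC.fin
    set s2 : Multiset C := T ::ₘ a' ::ₘ b' ::ₘ r.map (algebraMap B C) with hs2
    have hs2nzd : ∀ z ∈ s2, z ∈ nonZeroDivisors C := by
      intro z hz
      simp only [hs2, Multiset.mem_cons, Multiset.mem_map] at hz
      rcases hz with rfl | rfl | rfl | ⟨w, hw, rfl⟩
      exacts [hT, ha', hb', hBC.map_nzd (hs w (Multiset.mem_cons_of_mem (Multiset.mem_cons_of_mem hw)))]
    have hfin : ∀ z ∈ nonZeroDivisors C, len A z ≠ ⊤ := fun z hz => len_ne_top hA hz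
    by_cases hTunit : IsUnit T
    · -- then the images of `x, y` are coprime, so `x, y` were
      exfalso
      obtain ⟨Q, hQ, hle⟩ := Ideal.exists_le_maximal _ hxy
      obtain ⟨Q', -, hQ', hQQ'⟩ := Ideal.exists_ideal_over_prime_of_isIntegral Q (⊥ : Ideal C) (by
        rw [Ideal.comap_bot_of_injective _ hBC.inj]; exact bot_le)
      have hx' : algebraMap B C x ∈ Q' := by
        rw [← Ideal.mem_comap, hQQ']; exact hle (Ideal.subset_span (by simp))
      have hy'' : algebraMap B C y ∈ Q' := by
        rw [← Ideal.mem_comap, hQQ']; exact hle (Ideal.subset_span (by simp))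
      rw [hea] at hx'; rw [heb] at hy''
      have hTQ : T ∉ Q' := fun h => hQ'.ne_top (Ideal.eq_top_of_isUnit_mem _ h hTunit)
      have := (Ideal.span_le (I := Q')).2 (show ({a', b'} : Set C) ⊆ Q' by
        rintro z (rfl | rfl)
        exacts [(hQ'.mem_or_mem hx').resolve_left hTQ, (hQ'.mem_or_mem hy'').resolve_left hTQ])
      rw [hcop0] at this
      exact hQ'.ne_top (top_le_iff.1 this)
    have hlt : (s2.map fun z => (len A z).toNat).sum < N := by
      have e1 : ∀ w ∈ nonZeroDivisors B, (len A (algebraMap B C w)).toNat = (len A w).toNat := fun w hw => by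
        rw [len_algebraMap hA hB hBC hw]
      have e2 : (r.map (algebraMap B C)).map (fun z => (len A z).toNat) = r.map fun w => (len A w).toNat := by
        rw [Multiset.map_map]
        exact Multiset.map_congr rfl fun w hw => e1 w (hs w (Multiset.mem_cons_of_mem (Multiset.mem_cons_of_mem hw)))
      have ex : (len A x).toNat = (len A T).toNat + (len A a').toNat := by
        rw [← e1 x hx, hea, len_mul (A := A) T ha', ENat.toNat_add (hfin T hT) (hfin a' ha')]
      have ey : (len A y).toNat = (len A T).toNat + (len A b').toNat := by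
        rw [← e1 y hy', heb, len_mul (A := A) T hb', ENat.toNat_add (hfin T hT) (hfin b' hb')]
      have hpos : 0 < (len A T).toNat := by
        rw [Nat.pos_iff_ne_zero, ne_eq, ENat.toNat_eq_zero, not_or]
        exact ⟨len_ne_zero hTunit, hfin T hT⟩
      simp only [Multiset.map_cons, Multiset.sum_cons] at hN
      simp only [hs2, Multiset.map_cons, Multiset.sum_cons, e2]
      omega
    obtain ⟨D, _, _, _, _, hCD, s', hs', hcop, hgen⟩ := IH _ hlt C hAC s2 hs2nzd le_rfl
    letI : Algebra B D := ((algebraMap C D).comp (algebraMap B C)).toAlgebra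
    haveI : IsScalarTower B C D := IsScalarTower.of_algebraMap_eq fun _ => rfl
    haveI : IsScalarTower A B D := IsScalarTower.of_algebraMap_eq fun a => by
      rw [IsScalarTower.algebraMap_apply A C D, IsScalarTower.algebraMap_apply A B C]
      rfl
    refine ⟨D, inferInstance, inferInstance, inferInstance, inferInstance, hBC.trans hCD, s', hs', hcop, ?_⟩
    intro z hz
    rw [IsScalarTower.algebraMap_apply B C D]
    rcases Multiset.mem_cons.1 hz with rfl | hz
    · rw [hea, map_mul]
      exact Submonoid.mul_mem _ (hgen _ (by simp [hs2])) (hgen _ (by simp [hs2]))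
    rcases Multiset.mem_cons.1 hz with rfl | hz
    · rw [heb, map_mul]
      exact Submonoid.mul_mem _ (hgen _ (by simp [hs2])) (hgen _ (by simp [hs2]))
    · exact hgen _ (by simp only [hs2, Multiset.mem_cons, Multiset.mem_map]; exact Or.inr (Or.inr (Or.inr ⟨z, hz, rfl⟩)))

end Groth.Agent.Tame26
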