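import Groth.Agent.Lib.Tame26.Factor

/-! # Factorisations at the maximal ideals -/

set_option autoImplicit false
universe u

open IsLocalRing

namespace Groth.Agent.Tame26

variable {A : Type u} [CommRing A] {B : Type u} [CommRing B] [Algebra A B]

theorem isFinExt_of_birat [IsLocalRing A] [IsNoetherianRing A] (hA : ringKrullDim A ≤ 1) (h : Birat A B) :
    CycAlg.IsFinExt A B (maximalIdeal A) := by
  obtain ⟨y, hy, -, hy'⟩ := h.denom
  haveI : Ring.KrullDimLE 1 A := Ring.krullDimLE_iff.2 hA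
  have hfl := isFiniteLength_quotient_span_singleton A hy
  obtain ⟨hN, hAr⟩ := isFiniteLength_iff_isNoetherian_isArtinian.1 hfl
  haveI : IsArtinianRing (A ⧸ Ideal.span {y}) :=
    isArtinian_of_tower A hAr
  obtain ⟨n, hn⟩ := exists_maximalIdeal_pow_le_of_isArtinianRing_quotient (Ideal.span {y})
  refine ⟨h.inj, h.fin, n, fun r hr b => ?_⟩
  obtain ⟨c, rfl⟩ := Ideal.mem_span_singleton'.1 (hn hr)
  obtain ⟨a, ha⟩ := hy' b
  exact ⟨c * a, by rw [map_mul, ha, Algebra.smul_def, map_mul, mul_assoc]⟩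

/-- At a prime at most one of pairwise coprime elements is a nonunit. -/
theorem exists_pi (s : Multiset B) (hs : ∀ x ∈ s, x ∈ nonZeroDivisors B)
    (hcop : ∀ x t, s = x ::ₘ t → ∀ y ∈ t, Ideal.span {x, y} = ⊤) (q : Ideal B) [q.IsPrime] :
    ∃ π ∈ nonZeroDivisors (Localization.AtPrime q), ∀ x ∈ Submonoid.closure {y : B | y ∈ s},
      ∃ (v : (Localization.AtPrime q)ˣ) (e : ℕ), algebraMap B (Localization.AtPrime q) x = v * π ^ e := by
  classical
  obtain ⟨π, hπ, hgen⟩ : ∃ π ∈ nonZeroDivisors (Localization.AtPrime q), ∀ x ∈ s,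
      ∃ (v : (Localization.AtPrime q)ˣ) (e : ℕ), algebraMap B (Localization.AtPrime q) x = v * π ^ e := by
    have hunit : ∀ x, x ∉ q → IsUnit (algebraMap B (Localization.AtPrime q) x) := fun x hx =>
      IsLocalization.map_units (Localization.AtPrime q) (⟨x, hx⟩ : q.primeCompl)
    by_cases hx : ∃ x ∈ s, x ∈ q
    · obtain ⟨x, hxs, hxq⟩ := hx
      obtain ⟨t, rfl⟩ := Multiset.exists_cons_of_mem hxs
      refine ⟨algebraMap B _ x, IsLocalization.nonZeroDivisors_le_comap q.primeCompl _ (hs x hxs), fun y hy => ?_⟩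
      rcases Multiset.mem_cons.1 hy with rfl | hy
      · exact ⟨1, 1, by simp⟩
      · have hyq : y ∉ q := fun hyq => Ideal.IsPrime.ne_top' (I := q) (top_le_iff.1
          ((hcop x t rfl y hy).ge.trans (Ideal.span_le.2 (by rintro z (rfl | rfl) <;> assumption))))
        exact ⟨(hunit y hyq).unit, 0, by simp⟩
    · push Not at hx
      exact ⟨1, Submonoid.one_mem _, fun x hxs => ⟨(hunit x (hx x hxs)).unit, 0, by simp⟩⟩
  refine ⟨π, hπ, fun x hx => ?_⟩
  induction hx using Submonoid.closure_induction with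
  | mem x hx => exact hgen x hx
  | one => exact ⟨1, 0, by simp⟩
  | mul x y _ _ hx hy =>
    obtain ⟨v, e, hx⟩ := hx
    obtain ⟨w, f, hy⟩ := hy
    exact ⟨v * w, e + f, by rw [map_mul, hx, hy, Units.val_mul, pow_add]; ring⟩

theorem isLocalHom_atPrime [IsLocalRing A] [Module.Finite A B] (q : MaximalSpectrum B) :
    IsLocalHom (algebraMap A (Localization.AtPrime q.asIdeal)) := by
  haveI := q.isMaximal
  haveI : (q.asIdeal.comap (algebraMap A B)).IsMaximal := Ideal.isMaximal_comap_of_isIntegral_of_isMaximal _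
  refine ⟨fun a ha => by_contra fun hna => ?_⟩
  have hmem : a ∈ q.asIdeal.comap (algebraMap A B) := by
    rw [IsLocalRing.eq_maximalIdeal ‹(q.asIdeal.comap (algebraMap A B)).IsMaximal›]; exact hna
  rw [IsScalarTower.algebraMap_apply A B (Localization.AtPrime q.asIdeal),
    IsLocalization.AtPrime.isUnit_to_map_iff (Localization.AtPrime q.asIdeal) q.asIdeal] at ha
  exact ha hmem

end Groth.Agent.Tame26
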