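import Groth.Agent.Lib.Tame26.Phi
import Groth.Agent.Lib.Tame26.Avoid

/-! # The weighted sum of the symbols on a finite extension of a two dimensional local ring -/

set_option autoImplicit false
universe u

open IsLocalRing CycAlg
open scoped Pointwise

namespace Groth.Agent.Tame26

section

variable {C : Type u} [CommRing C]

theorem locLen_quot (r : PrimeSpectrum C) (y : C) :
    Herbrand26.locLen r (C ⧸ Ideal.span {y}) =
      Ring.ord (Localization.AtPrime r.asIdeal) (algebraMap C _ y) := by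
  let S := Localization.AtPrime r.asIdeal
  let f : C →ₗ[C] S := Algebra.linearMap C S
  let g := Submodule.toLocalizedQuotient' S r.asIdeal.primeCompl f (Ideal.span {y})
  let e₀ : LocalizedModule r.asIdeal.primeCompl (C ⧸ Ideal.span {y}) ≃ₗ[C]
      S ⧸ (Ideal.span {y}).localized' S r.asIdeal.primeCompl f :=
    IsLocalizedModule.linearEquiv r.asIdeal.primeCompl (LocalizedModule.mkLinearMap _ _) g
  let e := e₀.extendScalarsOfIsLocalization r.asIdeal.primeCompl S
  unfold Herbrand26.locLen Ring.ord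
  rw [e.length_eq, Ideal.localized'_eq_map, Ideal.map_span, Set.image_singleton]

/-- The kernels and cokernels of two elements on one another's quotient. -/
theorem echar_symm (A : Type u) [CommRing A] [Algebra A C] {x y : C} (hx : x ∈ nonZeroDivisors C)
    (hy : y ∈ nonZeroDivisors C) :
    echar A (C ⧸ Ideal.span {y}) x = echar A (C ⧸ Ideal.span {x}) y := by
  have hcoker : ∀ a b : C, Nonempty (((C ⧸ Ideal.span {b}) ⧸ a • (⊤ : Submodule C (C ⧸ Ideal.span {b}))) ≃ₗ[C]
      C ⧸ (Ideal.span {b} ⊔ Ideal.span {a})) := fun a b => by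
    refine ⟨(Submodule.quotEquivOfEq _ _ ?_).trans (Submodule.quotientQuotientEquivQuotientSup _ _)⟩
    ext z
    obtain ⟨c, rfl⟩ := Submodule.Quotient.mk_surjective _ z
    rw [Submodule.mem_smul_pointwise_iff_exists, Submodule.mem_map]
    constructor
    · rintro ⟨w, -, hw⟩
      obtain ⟨d, rfl⟩ := Submodule.Quotient.mk_surjective _ w
      exact ⟨a * d, Ideal.mem_span_singleton'.2 ⟨d, mul_comm d a⟩, hw⟩
    · rintro ⟨w, hw, hwz⟩
      obtain ⟨d, rfl⟩ := Ideal.mem_span_singleton'.1 hw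
      exact ⟨Submodule.Quotient.mk d, trivial, by rw [← hwz, mul_comm d a]; rfl⟩
  let K : Submodule C (C × C) :=
    LinearMap.ker ((LinearMap.mulLeft C x).comp (LinearMap.fst C C C) - (LinearMap.mulLeft C y).comp (LinearMap.snd C C C))
  have hK : ∀ z : C × C, z ∈ K ↔ x * z.1 = y * z.2 := fun z => by
    simp [K, LinearMap.mem_ker, sub_eq_zero]
  let p₁ : K →ₗ[C] LinearMap.ker (LinearMap.lsmul C (C ⧸ Ideal.span {y}) x) :=
    LinearMap.codRestrict _ ((Submodule.mkQ _).comp ((LinearMap.fst C C C).comp K.subtype)) fun z => by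
      rw [LinearMap.mem_ker]
      exact (Submodule.Quotient.mk_eq_zero _).2 (Ideal.mem_span_singleton'.2
        ⟨z.1.2, (mul_comm _ y).trans ((hK z.1).1 z.2).symm⟩)
  let p₂ : K →ₗ[C] LinearMap.ker (LinearMap.lsmul C (C ⧸ Ideal.span {x}) y) :=
    LinearMap.codRestrict _ ((Submodule.mkQ _).comp ((LinearMap.snd C C C).comp K.subtype)) fun z => by
      rw [LinearMap.mem_ker]
      exact (Submodule.Quotient.mk_eq_zero _).2 (Ideal.mem_span_singleton'.2
        ⟨z.1.1, (mul_comm _ x).trans ((hK z.1).1 z.2)⟩)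
  have h₁ : Function.Surjective p₁ := by
    rintro ⟨w, hw⟩
    obtain ⟨c, rfl⟩ := Submodule.Quotient.mk_surjective _ w
    rw [LinearMap.mem_ker, LinearMap.lsmul_apply, ← Submodule.Quotient.mk_smul, Submodule.Quotient.mk_eq_zero] at hw
    obtain ⟨d, hd⟩ := Ideal.mem_span_singleton'.1 hw
    exact ⟨⟨(c, d), (hK _).2 (hd.symm.trans (mul_comm d y))⟩, rfl⟩
  have h₂ : Function.Surjective p₂ := by
    rintro ⟨w, hw⟩
    obtain ⟨d, rfl⟩ := Submodule.Quotient.mk_surjective _ w
    rw [LinearMap.mem_ker, LinearMap.lsmul_apply, ← Submodule.Quotient.mk_smul, Submodule.Quotient.mk_eq_zero] at hw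
    obtain ⟨c, hc⟩ := Ideal.mem_span_singleton'.1 hw
    exact ⟨⟨(c, d), (hK _).2 ((mul_comm x c).trans hc)⟩, rfl⟩
  have hker : LinearMap.ker p₁ = LinearMap.ker p₂ := by
    ext ⟨⟨c, d⟩, hz⟩
    have h := (hK (c, d)).1 hz
    simp only at h
    rw [LinearMap.mem_ker, LinearMap.mem_ker, Subtype.ext_iff, Subtype.ext_iff]
    show Submodule.Quotient.mk c = 0 ↔ Submodule.Quotient.mk d = 0
    rw [Submodule.Quotient.mk_eq_zero, Submodule.Quotient.mk_eq_zero, Ideal.mem_span_singleton',
      Ideal.mem_span_singleton']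
    constructor
    · rintro ⟨t, rfl⟩
      exact ⟨t, (mul_cancel_left_mem_nonZeroDivisors hy).1 (by rw [← h]; ring)⟩
    · rintro ⟨t, rfl⟩
      exact ⟨t, (mul_cancel_left_mem_nonZeroDivisors hx).1 (by rw [h]; ring)⟩
  let ek : LinearMap.ker (LinearMap.lsmul C (C ⧸ Ideal.span {y}) x) ≃ₗ[C]
      LinearMap.ker (LinearMap.lsmul C (C ⧸ Ideal.span {x}) y) :=
    ((p₁.quotKerEquivOfSurjective h₁).symm.trans (Submodule.quotEquivOfEq _ _ hker)).trans
      (p₂.quotKerEquivOfSurjective h₂)
  obtain ⟨e₁⟩ := hcoker x y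
  obtain ⟨e₂⟩ := hcoker y x
  rw [echar, echar, (ek.restrictScalars A).length_eq, (e₁.restrictScalars A).length_eq,
    (e₂.restrictScalars A).length_eq, sup_comm]

/-- The finite set of primes detecting zero divisors. -/
theorem exists_badSet [IsNoetherianRing C] :
    ∃ T : Finset (PrimeSpectrum C), ∀ x : C, (∀ p ∈ T, x ∉ p.asIdeal) ↔ x ∈ nonZeroDivisors C := by
  classical
  have hfin : (associatedPrimes C C).Finite := associatedPrimes.finite C C
  refine ⟨(hfin.preimage (f := fun p : PrimeSpectrum C => p.asIdeal) (fun a _ b _ => PrimeSpectrum.ext)).toFinset,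
    fun x => ?_⟩
  simp only [Set.Finite.mem_toFinset, Set.mem_preimage]
  have h := Set.ext_iff.1 (biUnion_associatedPrimes_eq_compl_nonZeroDivisors C) x
  simp only [Set.mem_iUnion, Set.mem_compl_iff, SetLike.mem_coe] at h
  constructor
  · intro hp
    by_contra hx
    obtain ⟨I, hI, hxI⟩ := h.2 hx
    exact hp ⟨I, hI.isPrime⟩ hI hxI
  · intro hx p hp hxp
    exact h.1 ⟨p.asIdeal, hp, hxp⟩ hx

end

variable (A : Type u) [CommRing A] [IsLocalRing A] [IsNoetherianRing A] {C : Type u} [CommRing C] [Algebra A C]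
  [Module.Finite A C]

/-- The order of the norm of the symbol. -/
noncomputable def eps (r : PrimeSpectrum C) (x y : C) : ℤ :=
  phi A r (tameSymbol (Localization.AtPrime r.asIdeal) (algebraMap C _ x) (algebraMap C _ y))

/-- The weighted sum of the symbols. -/
noncomputable def sigma (x y : C) : ℤ := ∑ᶠ r ∈ {r : PrimeSpectrum C | Good r}, eps A r x y

/-- The good primes containing an element. -/
def V (x : C) : Set (PrimeSpectrum C) := {r | Good r ∧ x ∈ r.asIdeal}

variable {A}
variable (hA : ringKrullDim A ≤ 2) (hB : Birat A C)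
include hA

theorem good_eq_of_le {r r' : PrimeSpectrum C} (hr : Good r) (hr' : Good r') (h : r.asIdeal ≤ r'.asIdeal) : r = r' := by
  rcases h.eq_or_lt with e | e
  · exact PrimeSpectrum.ext e
  · haveI : IsNoetherianRing C := IsNoetherianRing.of_finite A C
    have := Ideal.height_strict_mono_of_isPrime_of_isPrime e
    rw [height_eq_one hA hr, height_eq_one hA hr'] at this
    exact absurd this (lt_irrefl _)

theorem finite_V {x : C} (hx : x ∈ nonZeroDivisors C) : (V x).Finite := by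
  haveI : IsNoetherianRing C := IsNoetherianRing.of_finite A C
  refine ((Ideal.finite_minimalPrimes_of_isNoetherianRing C (Ideal.span {x})).preimage
    (f := fun p : PrimeSpectrum C => p.asIdeal) (fun a _ b _ => PrimeSpectrum.ext)).subset ?_
  rintro r ⟨hr, hxr⟩
  refine ⟨⟨r.2, (Ideal.span_singleton_le_iff_mem _).2 hxr⟩, fun Q hQ hQr => ?_⟩
  haveI := hQ.1
  have hQgood : Good (⟨Q, hQ.1⟩ : PrimeSpectrum C) :=
    ⟨fun hm => hr.1 (hm.eq_of_le r.2.ne_top hQr ▸ hm), x, hQ.2 (Ideal.subset_span rfl), hx⟩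
  exact (congrArg PrimeSpectrum.asIdeal (good_eq_of_le hA hQgood hr hQr)).ge

theorem nzd_loc (r : PrimeSpectrum C) {x : C} (hx : x ∈ nonZeroDivisors C) :
    algebraMap C (Localization.AtPrime r.asIdeal) x ∈ nonZeroDivisors (Localization.AtPrime r.asIdeal) :=
  IsLocalization.nonZeroDivisors_le_comap r.asIdeal.primeCompl _ hx

omit hA in
theorem isUnit_loc (r : PrimeSpectrum C) {x : C} (hx : x ∉ r.asIdeal) :
    IsUnit (algebraMap C (Localization.AtPrime r.asIdeal) x) :=
  IsLocalization.map_units (Localization.AtPrime r.asIdeal) (⟨x, hx⟩ : r.asIdeal.primeCompl)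

include hB

theorem symb_ne_zero {r : PrimeSpectrum C} (hr : Good r) {x y : C} (hx : x ∈ nonZeroDivisors C)
    (hy : y ∈ nonZeroDivisors C) :
    tameSymbol (Localization.AtPrime r.asIdeal) (algebraMap C _ x) (algebraMap C _ y) ≠ 0 := by
  haveI := noeth_atPrime A r
  exact tameSymbol_ne_zero (dim_loc hA hr) (nzd_loc hA r hx) (nzd_loc hA r hy)

theorem eps_mul {r : PrimeSpectrum C} (hr : Good r) {x x' y : C} (hx : x ∈ nonZeroDivisors C)
    (hx' : x' ∈ nonZeroDivisors C) (hy : y ∈ nonZeroDivisors C) :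
    eps A r (x * x') y = eps A r x y + eps A r x' y := by
  haveI := noeth_atPrime A r
  rw [eps, map_mul, (tameSymbol_mul (dim_loc hA hr) (nzd_loc hA r hx) (nzd_loc hA r hx') (nzd_loc hA r hy)).1,
    phi_mul hA hB hr (symb_ne_zero hA hB hr hx hy) (symb_ne_zero hA hB hr hx' hy)]
  rfl

theorem eps_antisymm {r : PrimeSpectrum C} (hr : Good r) {x y : C} (hx : x ∈ nonZeroDivisors C)
    (hy : y ∈ nonZeroDivisors C) : eps A r x y + eps A r y x = 0 := by
  haveI := noeth_atPrime A r
  rw [eps, eps, ← phi_mul hA hB hr (symb_ne_zero hA hB hr hx hy) (symb_ne_zero hA hB hr hy hx),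
    tameSymbol_antisymm (dim_loc hA hr) (nzd_loc hA r hx) (nzd_loc hA r hy), phi_one hA hB hr]

theorem eps_self {r : PrimeSpectrum C} (hr : Good r) {x : C} (hx : x ∈ nonZeroDivisors C) : eps A r x x = 0 := by
  haveI := noeth_atPrime A r
  rw [eps, tameSymbol_self (dim_loc hA hr) (nzd_loc hA r hx), phi_neg_one_pow hA hB hr]

theorem eps_notMem {r : PrimeSpectrum C} (hr : Good r) {x y : C} (hx : x ∉ r.asIdeal) (hy : y ∈ nonZeroDivisors C) :
    eps A r x y = ((Ring.ord (Localization.AtPrime r.asIdeal) (algebraMap C _ y)).toNat : ℤ) *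
      ((Module.length A (C ⧸ (r.asIdeal ⊔ Ideal.span {x}))).toNat : ℤ) := by
  haveI := noeth_atPrime A r
  rw [eps, ← (isUnit_loc r hx).unit_spec, tameSymbol_unit (dim_loc hA hr) _ (nzd_loc hA r hy),
    phi_pow hA hB hr (residue_unit_ne_zero _), IsUnit.unit_spec, (phi_residue hA hB hr).2 x hx]
  rfl

theorem eps_notMem_notMem {r : PrimeSpectrum C} (hr : Good r) {x y : C} (hx : x ∉ r.asIdeal) (hy : y ∉ r.asIdeal)
    (hy' : y ∈ nonZeroDivisors C) : eps A r x y = 0 := by
  rw [eps_notMem hA hB hr hx hy', Ring.ord_of_isUnit (isUnit_loc r hy)]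
  simp

theorem sigma_eq_sum {x y : C} (hx : x ∈ nonZeroDivisors C) (hy : y ∈ nonZeroDivisors C)
    (S : Finset (PrimeSpectrum C)) (hS : ∀ r ∈ S, Good r) (hxS : V x ⊆ S) (hyS : V y ⊆ S) :
    sigma A x y = ∑ r ∈ S, eps A r x y := by
  refine finsum_mem_eq_sum_of_subset _ ?_ fun r hr => hS r hr
  rintro r ⟨hr, hne⟩
  by_contra hrS
  exact hne (eps_notMem_notMem hA hB hr (fun h => hrS (hxS ⟨hr, h⟩)) (fun h => hrS (hyS ⟨hr, h⟩)) hy)

theorem sigma_mul {x x' y : C} (hx : x ∈ nonZeroDivisors C) (hx' : x' ∈ nonZeroDivisors C)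
    (hy : y ∈ nonZeroDivisors C) : sigma A (x * x') y = sigma A x y + sigma A x' y := by
  classical
  let S := (finite_V hA hx).toFinset ∪ (finite_V hA hx').toFinset ∪ (finite_V hA hy).toFinset
  have hS : ∀ r ∈ S, Good r := fun r hr => by
    simp only [S, Finset.mem_union, Set.Finite.mem_toFinset] at hr
    rcases hr with (h | h) | h <;> exact h.1
  have h1 : V (x * x') ⊆ S := fun r hr => by
    simp only [S, Finset.coe_union, Set.Finite.coe_toFinset]
    rcases r.2.mem_or_mem hr.2 with h | h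
    · exact Or.inl (Or.inl ⟨hr.1, h⟩)
    · exact Or.inl (Or.inr ⟨hr.1, h⟩)
  have h2 : V x ⊆ S := by intro r hr; simp [S, hr]
  have h3 : V x' ⊆ S := by intro r hr; simp [S, hr]
  have h4 : V y ⊆ S := by intro r hr; simp [S, hr]
  rw [sigma_eq_sum hA hB (Submonoid.mul_mem _ hx hx') hy S hS h1 h4, sigma_eq_sum hA hB hx hy S hS h2 h4,
    sigma_eq_sum hA hB hx' hy S hS h3 h4, ← Finset.sum_add_distrib]
  exact Finset.sum_congr rfl fun r hr => eps_mul hA hB (hS r hr) hx hx' hy

theorem sigma_antisymm {x y : C} (hx : x ∈ nonZeroDivisors C) (hy : y ∈ nonZeroDivisors C) :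
    sigma A x y + sigma A y x = 0 := by
  classical
  let S := (finite_V hA hx).toFinset ∪ (finite_V hA hy).toFinset
  have hS : ∀ r ∈ S, Good r := fun r hr => by
    simp only [S, Finset.mem_union, Set.Finite.mem_toFinset] at hr
    rcases hr with h | h <;> exact h.1
  have h1 : V x ⊆ S := by intro r hr; simp [S, hr]
  have h2 : V y ⊆ S := by intro r hr; simp [S, hr]
  rw [sigma_eq_sum hA hB hx hy S hS h1 h2, sigma_eq_sum hA hB hy hx S hS h2 h1, ← Finset.sum_add_distrib]
  exact Finset.sum_eq_zero fun r hr => eps_antisymm hA hB (hS r hr) hx hy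

theorem sigma_one {y : C} (hy : y ∈ nonZeroDivisors C) : sigma A 1 y = 0 := by
  have := sigma_mul hA hB (Submonoid.one_mem (nonZeroDivisors C)) (Submonoid.one_mem _) hy
  rw [mul_one] at this
  omega

theorem sigma_pow {x y : C} (hx : x ∈ nonZeroDivisors C) (hy : y ∈ nonZeroDivisors C) (n : ℕ) :
    sigma A (x ^ n) y = n * sigma A x y := by
  induction n with
  | zero => rw [pow_zero, sigma_one hA hB hy]; simp
  | succ n ih => rw [pow_succ, sigma_mul hA hB (pow_mem hx n) hx hy, ih]; push_cast; ring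

theorem sigma_prod {ι : Type*} (s : Finset ι) (t : ι → C) (ht : ∀ i ∈ s, t i ∈ nonZeroDivisors C) {y : C}
    (hy : y ∈ nonZeroDivisors C) : sigma A (∏ i ∈ s, t i) y = ∑ i ∈ s, sigma A (t i) y := by
  classical
  induction s using Finset.induction_on with
  | empty => simpa using sigma_one hA hB hy
  | insert i s hi ih =>
    have hs : ∀ j ∈ s, t j ∈ nonZeroDivisors C := fun j hj => ht j (Finset.mem_insert_of_mem hj)
    rw [Finset.prod_insert hi, Finset.sum_insert hi,
      sigma_mul hA hB (ht i (Finset.mem_insert_self _ _)) (Submonoid.prod_mem _ hs) hy, ih hs]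

theorem sigma_self {x : C} (hx : x ∈ nonZeroDivisors C) : sigma A x x = 0 := by
  have := sigma_antisymm hA hB hx hx
  omega

/-- Two elements without a common good prime. -/
theorem sigma_coprime {x y : C} (hx : x ∈ nonZeroDivisors C) (hy : y ∈ nonZeroDivisors C)
    (h : ∀ r, Good r → x ∈ r.asIdeal → y ∈ r.asIdeal → False) : sigma A x y = 0 := by
  classical
  haveI : IsNoetherianRing C := IsNoetherianRing.of_finite A C
  set Sx := (finite_V hA hx).toFinset with hSx
  set Sy := (finite_V hA hy).toFinset with hSy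
  have mx : ∀ r, r ∈ Sx ↔ Good r ∧ x ∈ r.asIdeal := fun r => Set.Finite.mem_toFinset _
  have my : ∀ r, r ∈ Sy ↔ Good r ∧ y ∈ r.asIdeal := fun r => Set.Finite.mem_toFinset _
  have hd : Disjoint Sx Sy := Finset.disjoint_left.2 fun r hr hr' => h r ((mx r).1 hr).1 ((mx r).1 hr).2 ((my r).1 hr').2
  rw [sigma_eq_sum hA hB hx hy (Sx ∪ Sy) (fun r hr => by
      rcases Finset.mem_union.1 hr with h' | h'
      · exact ((mx r).1 h').1
      · exact ((my r).1 h').1)
    (fun r hr => by simp [mx, my, show Good r ∧ x ∈ r.asIdeal from hr])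
    (fun r hr => by simp [mx, my, show Good r ∧ y ∈ r.asIdeal from hr]), Finset.sum_union hd]
  have key : ∀ a b : C, b ∈ nonZeroDivisors C → (∀ r, Good r → b ∈ r.asIdeal → a ∉ r.asIdeal) →
      ∀ S : Finset (PrimeSpectrum C), (∀ r, r ∈ S ↔ Good r ∧ b ∈ r.asIdeal) →
      ∑ r ∈ S, eps A r a b = echar A (C ⧸ Ideal.span {b}) a := by
    intro a b hb hab S hS
    have hsup : ∀ p, p ∈ Module.support C (C ⧸ Ideal.span {b}) ↔ b ∈ p.asIdeal := fun p => by
      rw [Module.support_eq_zeroLocus, Ideal.annihilator_quotient, PrimeSpectrum.mem_zeroLocus, SetLike.coe_subset_coe,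
        Ideal.span_singleton_le_iff_mem]
    have hgood : ∀ q, b ∈ q.asIdeal → ∀ p ∈ S, q ≤ p → Good q := fun q hq p hp hle =>
      ⟨fun hm => ((hS p).1 hp).1.1 (hm.eq_of_le p.2.ne_top hle ▸ hm), b, hq, hb⟩
    rw [(echar_eq (A := A) (C ⧸ Ideal.span {b}) a S (fun p => by
      rw [hS, hsup]; exact ⟨fun h' => ⟨h'.2, h'.1.1⟩, fun h' => ⟨⟨h'.2, b, h'.1, hb⟩, h'.1⟩⟩)
      (fun p hp => hab p ((hS p).1 hp).1 ((hS p).1 hp).2)
      (fun p hp q hq hle => good_eq_of_le hA (hgood q ((hsup q).1 hq) p hp hle) ((hS p).1 hp).1 hle)).1]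
    refine Finset.sum_congr rfl fun r hr => ?_
    rw [eps_notMem hA hB ((hS r).1 hr).1 (hab r ((hS r).1 hr).1 ((hS r).1 hr).2) hb, locLen_quot, mul_comm]
  have h1 : ∑ r ∈ Sy, eps A r x y = echar A (C ⧸ Ideal.span {y}) x :=
    key x y hy (fun r hr hyr hxr => h r hr hxr hyr) Sy my
  have h2 : ∑ r ∈ Sx, eps A r y x = echar A (C ⧸ Ideal.span {x}) y :=
    key y x hx (fun r hr hxr hyr => h r hr hxr hyr) Sx mx
  have h3 : ∑ r ∈ Sx, eps A r x y + ∑ r ∈ Sx, eps A r y x = 0 := by
    rw [← Finset.sum_add_distrib]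
    exact Finset.sum_eq_zero fun r hr => eps_antisymm hA hB ((mx r).1 hr).1 hx hy
  rw [h1, echar_symm A hx hy, ← h2]
  exact h3

/-- Replacing an element by one associated to it along the good primes of the other. -/
theorem sigma_congr {x y z : C} (hx : x ∈ nonZeroDivisors C) (hy : y ∈ nonZeroDivisors C)
    (hz : z ∈ nonZeroDivisors C)
    (h : ∀ r ∈ V z, Associated (algebraMap C (Localization.AtPrime r.asIdeal) x)
      (algebraMap C (Localization.AtPrime r.asIdeal) y)) : sigma A x z = sigma A y z := by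
  classical
  haveI : IsNoetherianRing C := IsNoetherianRing.of_finite A C
  obtain ⟨T, hT⟩ := exists_badSet (C := C)
  let D : Ideal C := Submodule.comap (LinearMap.mulRight C x) (Ideal.span {y})
  have hmemD : ∀ d, d ∈ D ↔ d * x ∈ Ideal.span {y} := fun d => Iff.rfl
  have hnot : ∀ p ∈ T ∪ (finite_V hA hz).toFinset, ¬ D ≤ p.asIdeal := by
    intro p hp hle
    rcases Finset.mem_union.1 hp with hp | hp
    · exact (hT y).2 hy p hp (hle ((hmemD y).2 (Ideal.mul_mem_right x _ (Ideal.subset_span rfl))))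
    · have hpV := (Set.Finite.mem_toFinset _).1 hp
      obtain ⟨w, hw⟩ := (h p hpV).symm
      obtain ⟨⟨c, s⟩, hcs⟩ := IsLocalization.surj p.asIdeal.primeCompl (w : Localization.AtPrime p.asIdeal)
      have heq : algebraMap C (Localization.AtPrime p.asIdeal) ((s : C) * x) =
          algebraMap C (Localization.AtPrime p.asIdeal) (y * c) := by
        rw [map_mul, map_mul, ← hw, ← hcs]; ring
      obtain ⟨t, ht⟩ := (IsLocalization.eq_iff_exists p.asIdeal.primeCompl _).1 heq
      refine (show (t : C) * s ∉ p.asIdeal from (t * s).2) (hle ((hmemD _).2 ?_))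
      rw [mul_assoc, ht]
      exact Ideal.mul_mem_left _ _ (Ideal.mul_mem_right _ _ (Ideal.subset_span rfl))
  obtain ⟨d, hd, hdT⟩ := exists_notMem _ D hnot
  have hdn : d ∈ nonZeroDivisors C := (hT d).1 fun p hp => hdT p (Finset.mem_union_left _ hp)
  have hdz : ∀ r ∈ V z, d ∉ r.asIdeal := fun r hr =>
    hdT r (Finset.mem_union_right _ ((Set.Finite.mem_toFinset _).2 hr))
  obtain ⟨c, hc⟩ := Ideal.mem_span_singleton'.1 ((hmemD d).1 hd)
  have hcn : c ∈ nonZeroDivisors C := by
    have : c * y ∈ nonZeroDivisors C := hc ▸ Submonoid.mul_mem _ hdn hx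
    exact (mul_mem_nonZeroDivisors.1 this).1
  have hcz : ∀ r ∈ V z, c ∉ r.asIdeal := by
    intro r hr hcr
    obtain ⟨w, hw⟩ := h r hr
    have e : algebraMap C (Localization.AtPrime r.asIdeal) c * (w : Localization.AtPrime r.asIdeal) =
        algebraMap C (Localization.AtPrime r.asIdeal) d := by
      refine (mul_cancel_right_mem_nonZeroDivisors (nzd_loc hA r hx)).1 ?_
      rw [← map_mul _ d x, ← hc, map_mul, ← hw]; ring
    exact ((IsLocalRing.mem_maximalIdeal _).1 (Ideal.mul_mem_right (w : Localization.AtPrime r.asIdeal) _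
      ((IsLocalization.AtPrime.to_map_mem_maximal_iff _ r.asIdeal c).2 hcr))) (e ▸ isUnit_loc r (hdz r hr))
  have e1 : sigma A (d * x) z = sigma A x z := by
    rw [sigma_mul hA hB hdn hx hz, sigma_coprime hA hB hdn hz fun r hr hdr hzr => hdz r ⟨hr, hzr⟩ hdr, zero_add]
  have e2 : sigma A (c * y) z = sigma A y z := by
    rw [sigma_mul hA hB hcn hy hz, sigma_coprime hA hB hcn hz fun r hr hcr hzr => hcz r ⟨hr, hzr⟩ hcr, zero_add]
  rw [← e1, ← e2, hc]

omit hB in
/-- An element with a prescribed germ at one good prime avoiding finitely many others. -/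
theorem exists_uniformizer {r₀ : PrimeSpectrum C} (hr : Good r₀) (T : Finset (PrimeSpectrum C))
    (hT : ∀ r ∈ T, Good r) {a : C} (ha : a ∈ nonZeroDivisors C) (har : a ∈ r₀.asIdeal)
    {π : Localization.AtPrime r₀.asIdeal} {u : (Localization.AtPrime r₀.asIdeal)ˣ} {e : ℕ}
    (hae : algebraMap C _ a = (u : Localization.AtPrime r₀.asIdeal) * π ^ e) :
    ∃ t ∈ nonZeroDivisors C, Associated (algebraMap C (Localization.AtPrime r₀.asIdeal) t) π ∧
      ∀ r ∈ T, r ≠ r₀ → t ∉ r.asIdeal := by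
  classical
  haveI : IsNoetherianRing C := IsNoetherianRing.of_finite A C
  obtain ⟨B, hB'⟩ := exists_badSet (C := C)
  let S := Localization.AtPrime r₀.asIdeal
  have hamax : algebraMap C S a ∈ maximalIdeal S := (IsLocalization.AtPrime.to_map_mem_maximal_iff S r₀.asIdeal a).2 har
  have he : e ≠ 0 := fun h0 => (IsLocalRing.mem_maximalIdeal _).1 hamax (by
    rw [hae, h0, pow_zero, mul_one]; exact u.isUnit)
  let J : Ideal S := Ideal.span {π} * maximalIdeal S
  let I : Ideal C := J.comap (algebraMap C S)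
  have ha2 : algebraMap C S a * algebraMap C S a ∈ J := by
    obtain ⟨n, rfl⟩ := Nat.exists_eq_succ_of_ne_zero he
    refine Ideal.mul_mem_mul ?_ hamax
    rw [hae, pow_succ, ← mul_assoc]
    exact Ideal.mul_mem_left _ _ (Ideal.subset_span rfl)
  have hrad : r₀.asIdeal ≤ I.radical := by
    intro x hx
    rw [← Ideal.comap_radical, Ideal.mem_comap]
    rw [Ideal.radical_eq_sInf, Submodule.mem_sInf]
    rintro P ⟨hJP, hP⟩
    haveI := hP
    let q : PrimeSpectrum C := ⟨Ideal.comap (algebraMap C S) P, inferInstance⟩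
    have haq : a ∈ q.asIdeal := (hP.mem_or_mem (hJP ha2)).elim id id
    have hqr : q.asIdeal ≤ r₀.asIdeal := by
      intro c hc
      exact (IsLocalization.AtPrime.to_map_mem_maximal_iff S r₀.asIdeal c).1 (IsLocalRing.le_maximalIdeal hP.ne_top hc)
    have hq : Good q := ⟨fun hm => hr.1 (hm.eq_of_le r₀.2.ne_top hqr ▸ hm), a, haq, ha⟩
    have : x ∈ q.asIdeal := by rw [good_eq_of_le hA hq hr hqr]; exact hx
    exact this
  have hnot : ∀ p ∈ B ∪ T.erase r₀, ¬ I ≤ p.asIdeal := by
    intro p hp hle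
    have hr0p : r₀.asIdeal ≤ p.asIdeal := hrad.trans (p.2.radical_le_iff.2 hle)
    rcases Finset.mem_union.1 hp with hp | hp
    · exact (hB' a).2 ha p hp (hr0p har)
    · exact (Finset.mem_erase.1 hp).1 (good_eq_of_le hA hr (hT p (Finset.mem_erase.1 hp).2) hr0p).symm
  obtain ⟨⟨c, s⟩, hcs⟩ := IsLocalization.surj r₀.asIdeal.primeCompl π
  obtain ⟨δ, hδ, hδT⟩ := exists_add_notMem _ I c hnot
  refine ⟨c + δ, (hB' _).1 fun p hp => hδT p (Finset.mem_union_left _ hp), ?_,
    fun r hrT hne => hδT r (Finset.mem_union_right _ (Finset.mem_erase.2 ⟨hne, hrT⟩))⟩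
  obtain ⟨m, hm, hmδ⟩ : ∃ m ∈ maximalIdeal S, π * m = algebraMap C S δ :=
    Ideal.mem_span_singleton_mul.1 (show algebraMap C S δ ∈ J from hδ)
  have hsu : IsUnit (algebraMap C S (s : C) + m) := by
    by_contra hn
    exact (IsLocalRing.mem_maximalIdeal _).1 (show algebraMap C S (s : C) ∈ maximalIdeal S by
      have := Ideal.sub_mem _ ((IsLocalRing.mem_maximalIdeal (algebraMap C S (s : C) + m)).2 hn) hm
      rwa [add_sub_cancel_right] at this) (IsLocalization.map_units S s)
  rw [map_add, ← hmδ, ← hcs, ← mul_add]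
  exact associated_mul_unit_left π _ hsu

/-- The sum of the symbols of two elements with frames at their common good primes. -/
theorem sigma_eq_zero {a b : C} (ha : a ∈ nonZeroDivisors C) (hb : b ∈ nonZeroDivisors C)
    (hfr : ∀ r, Good r → a ∈ r.asIdeal → b ∈ r.asIdeal →
      ∃ (π : Localization.AtPrime r.asIdeal) (u v : (Localization.AtPrime r.asIdeal)ˣ) (e f : ℕ),
        algebraMap C _ a = (u : Localization.AtPrime r.asIdeal) * π ^ e ∧
        algebraMap C _ b = (v : Localization.AtPrime r.asIdeal) * π ^ f) :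
    sigma A a b = 0 := by
  classical
  let Vb := (finite_V hA hb).toFinset
  have hVb : ∀ r, r ∈ Vb ↔ Good r ∧ b ∈ r.asIdeal := fun r => Set.Finite.mem_toFinset _
  let P := Vb.filter fun r => a ∈ r.asIdeal
  have hP : ∀ r : P, Good r.1 ∧ b ∈ r.1.asIdeal ∧ a ∈ r.1.asIdeal := fun r => by
    obtain ⟨h1, h2⟩ := Finset.mem_filter.1 r.2
    exact ⟨((hVb _).1 h1).1, ((hVb _).1 h1).2, h2⟩
  choose π u v e f hae hbf using fun r : P => hfr r.1 (hP r).1 (hP r).2.2 (hP r).2.1
  choose t ht htπ htT using fun r : P => exists_uniformizer hA (hP r).1 Vb (fun q hq => ((hVb q).1 hq).1)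
    ha (hP r).2.2 (hae r)
  have hunit : ∀ {q : PrimeSpectrum C} {x : C}, x ∉ q.asIdeal →
      Associated (algebraMap C (Localization.AtPrime q.asIdeal) x) 1 := fun hx =>
    associated_one_iff_isUnit.2 (isUnit_loc _ hx)
  have step1 : sigma A a b = sigma A (∏ r, t r ^ e r) b := by
    refine sigma_congr hA hB ha (Submonoid.prod_mem _ fun r _ => pow_mem (ht r) _) hb fun q hq => ?_
    have hqV : q ∈ Vb := (hVb q).2 hq
    by_cases haq : a ∈ q.asIdeal
    · let q' : P := ⟨q, Finset.mem_filter.2 ⟨hqV, haq⟩⟩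
      rw [← Finset.mul_prod_erase _ _ (Finset.mem_univ q'), map_mul, map_pow]
      have h1 : Associated (algebraMap C (Localization.AtPrime q.asIdeal) a)
          ((algebraMap C (Localization.AtPrime q.asIdeal) (t q')) ^ e q') := by
        refine Associated.trans ?_ ((htπ q').pow_pow).symm
        rw [hae q']
        exact (associated_unit_mul_left _ _ (u q').isUnit)
      refine h1.trans ?_
      refine (associated_mul_unit_left _ _ ?_).symm
      rw [map_prod]
      exact IsUnit.prod_iff.2 fun r hr => by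
        rw [map_pow]
        exact (isUnit_loc q (htT r q hqV fun h => (Finset.mem_erase.1 hr).1 (Subtype.ext h.symm))).pow _
    · refine (hunit haq).trans (associated_one_iff_isUnit.2 ?_).symm
      rw [map_prod]
      exact IsUnit.prod_iff.2 fun r _ => by
        rw [map_pow]
        exact (isUnit_loc q (htT r q hqV fun h => haq (h ▸ (hP r).2.2))).pow _
  rw [step1, sigma_prod hA hB _ _ (fun r _ => pow_mem (ht r) _) hb]
  refine Finset.sum_eq_zero fun r _ => ?_
  rw [sigma_pow hA hB (ht r) hb]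
  refine mul_eq_zero_of_right _ ?_
  -- one uniformizer against the second element
  have hmem : t r ∈ r.1.asIdeal := by
    by_contra hn
    have hπu : IsUnit (π r) := (htπ r).isUnit (isUnit_loc r.1 hn)
    exact (IsLocalRing.mem_maximalIdeal _).1
      ((IsLocalization.AtPrime.to_map_mem_maximal_iff _ r.1.asIdeal a).2 (hP r).2.2)
      (by rw [hae r]; exact (u r).isUnit.mul (hπu.pow _))
  let Vt := (finite_V hA (ht r)).toFinset
  have hVt : ∀ q, q ∈ Vt ↔ Good q ∧ t r ∈ q.asIdeal := fun q => Set.Finite.mem_toFinset _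
  obtain ⟨w, hw, hwπ, hwT⟩ := exists_uniformizer hA (hP r).1 Vt (fun q hq => ((hVt q).1 hq).1) ha (hP r).2.2 (hae r)
  let Vw := (finite_V hA hw).toFinset
  have hVw : ∀ q, q ∈ Vw ↔ Good q ∧ w ∈ q.asIdeal := fun q => Set.Finite.mem_toFinset _
  obtain ⟨z, hz, hzπ, hzT⟩ := exists_uniformizer hA (hP r).1 (Vt ∪ Vw) (fun q hq => by
    rcases Finset.mem_union.1 hq with h | h
    · exact ((hVt q).1 h).1
    · exact ((hVw q).1 h).1) ha (hP r).2.2 (hae r)
  have hassoc : ∀ {x y : C}, Associated (algebraMap C (Localization.AtPrime r.1.asIdeal) x) (π r) →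
      Associated (algebraMap C (Localization.AtPrime r.1.asIdeal) y) (π r) →
      ∀ (s : C), (∀ q, Good q → s ∈ q.asIdeal → q ≠ r.1 → x ∉ q.asIdeal ∧ y ∉ q.asIdeal) →
      ∀ q ∈ V s, Associated (algebraMap C (Localization.AtPrime q.asIdeal) x)
        (algebraMap C (Localization.AtPrime q.asIdeal) y) := by
    intro x y hx hy s hs q hq
    by_cases hqr : q = r.1
    · subst hqr; exact hx.trans hy.symm
    · exact (hunit (hs q hq.1 hq.2 hqr).1).trans (hunit (hs q hq.1 hq.2 hqr).2).symm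
  have E1 : sigma A w (t r) = sigma A z (t r) := sigma_congr hA hB hw hz (ht r)
    (hassoc hwπ hzπ _ fun q hq htq hne => ⟨hwT q ((hVt q).2 ⟨hq, htq⟩) hne,
      hzT q (Finset.mem_union_left _ ((hVt q).2 ⟨hq, htq⟩)) hne⟩)
  have E2 : sigma A (t r) w = sigma A z w := sigma_congr hA hB (ht r) hz hw
    (hassoc (htπ r) hzπ _ fun q hq hwq hne => ⟨fun htq => hwT q ((hVt q).2 ⟨hq, htq⟩) hne hwq,
      hzT q (Finset.mem_union_right _ ((hVw q).2 ⟨hq, hwq⟩)) hne⟩)
  have E3 : sigma A (t r) z = sigma A w z := sigma_congr hA hB (ht r) hw hz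
    (hassoc (htπ r) hwπ _ fun q hq hzq hne =>
      ⟨fun htq => hzT q (Finset.mem_union_left _ ((hVt q).2 ⟨hq, htq⟩)) hne hzq,
        fun hwq => hzT q (Finset.mem_union_right _ ((hVw q).2 ⟨hq, hwq⟩)) hne hzq⟩)
  have a1 := sigma_antisymm hA hB hw (ht r)
  have a2 := sigma_antisymm hA hB hz (ht r)
  have a3 := sigma_antisymm hA hB hz hw
  have hwt : sigma A w (t r) = 0 := by omega
  have E4 : sigma A b (t r) = sigma A (w ^ f r) (t r) := by
    refine sigma_congr hA hB hb (pow_mem hw _) (ht r) fun q hq => ?_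
    by_cases hqr : q = r.1
    · subst hqr
      rw [map_pow, hbf r]
      exact (associated_unit_mul_left _ _ (v r).isUnit).trans (hwπ.pow_pow).symm
    · refine (hunit fun hbq => htT r q ((hVb q).2 ⟨hq.1, hbq⟩) hqr hq.2).trans ?_
      rw [map_pow]
      exact (associated_one_iff_isUnit.2 ((isUnit_loc q (hwT q ((hVt q).2 hq) hqr)).pow _)).symm
  have a4 := sigma_antisymm hA hB (ht r) hb
  rw [E4, sigma_pow hA hB hw (ht r), hwt, mul_zero] at a4
  omega

end Groth.Agent.Tame26
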