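import Groth.Agent.Lib.Tame26.LocFrame
import Groth.Agent.Lib.Tame26.TwoDim

/-! # The tame symbol and the maximal ideals of a finite extension -/

set_option autoImplicit false
universe u

open IsLocalRing CycAlg

namespace Groth.Agent.Tame26

variable {A : Type u} [CommRing A] [IsLocalRing A] [IsNoetherianRing A]
variable {B C : Type u} [CommRing B] [Algebra A B] [CommRing C] [Algebra A C] [Algebra B C] [IsScalarTower A B C]

omit [IsNoetherianRing A] in
theorem norm_resNorm [Module.Finite A B] [Module.Finite A C] [Module.Finite B C] (r : MaximalSpectrum C)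
    (z : ResidueField (Loc r)) :
    Algebra.norm (ResidueField A)
      (show ResidueField (Loc (below B r)) from resNorm (below B r).asIdeal ⟨r.asIdeal, r.isMaximal.isPrime⟩ rfl z) =
      Algebra.norm (ResidueField A) z := by
  letI : Algebra (ResidueField (Loc (below B r))) (ResidueField (Loc r)) := (ResidueField.map (locMap B r)).toAlgebra
  haveI : IsScalarTower (ResidueField A) (ResidueField (Loc (below B r))) (ResidueField (Loc r)) :=
    IsScalarTower.of_algebraMap_eq fun x => by
      obtain ⟨a, rfl⟩ := residue_surjective x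
      show residue _ (algebraMap A (Loc r) a) = ResidueField.map (locMap B r) (residue _ (algebraMap A _ a))
      rw [ResidueField.map_residue, locMap_base]
  haveI := (length_quot_max (A := A) r).1
  haveI := (length_quot_max (A := A) (below B r)).1
  haveI : Module.Finite (ResidueField (Loc (below B r))) (ResidueField (Loc r)) :=
    Module.Finite.of_restrictScalars_finite (ResidueField A) _ _
  show Algebra.norm (ResidueField A) (Algebra.norm (ResidueField (Loc (below B r))) z) = _
  exact Algebra.norm_norm (S := ResidueField (Loc (below B r)))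

theorem birat_of_isFinExt (hA : ringKrullDim A = 1) (hB : IsFinExt A B (maximalIdeal A))
    (hass : maximalIdeal A ∉ associatedPrimes A B) : Birat A B := by
  obtain ⟨hinj, hfin, n, hn⟩ := hB
  haveI := hfin
  have hassA : maximalIdeal A ∉ associatedPrimes A A := fun h =>
    hass (associatedPrimes.subset_of_injective (f := Algebra.linearMap A B) hinj h)
  classical
  have hfB := (associatedPrimes.finite A B).preimage
    (f := fun p : PrimeSpectrum A => p.asIdeal) (fun a _ b _ => PrimeSpectrum.ext)
  have hfA := (associatedPrimes.finite A A).preimage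
    (f := fun p : PrimeSpectrum A => p.asIdeal) (fun a _ b _ => PrimeSpectrum.ext)
  have hne : ∀ p ∈ hfB.toFinset ∪ hfA.toFinset,
      ¬ maximalIdeal A ≤ p.asIdeal := by
    intro p hp hle
    have he : p.asIdeal = maximalIdeal A := le_antisymm (IsLocalRing.le_maximalIdeal p.2.ne_top) hle
    rcases Finset.mem_union.1 hp with h | h <;> rw [Set.Finite.mem_toFinset, Set.mem_preimage, he] at h
    · exact hass h
    · exact hassA h
  obtain ⟨x, hx, hxT⟩ := exists_notMem _ _ hne
  have hxA : x ∈ nonZeroDivisors A := by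
    by_contra h
    have h' : x ∈ ((nonZeroDivisors A : Submonoid A) : Set A)ᶜ := h
    rw [← biUnion_associatedPrimes_eq_compl_nonZeroDivisors A, Set.mem_iUnion₂] at h'
    obtain ⟨I, hI, hxI⟩ := h'
    exact hxT ⟨I, hI.isPrime⟩ (Finset.mem_union_right _ ((Set.Finite.mem_toFinset _).2 hI)) hxI
  refine ⟨hinj, hfin, x ^ n, pow_mem hxA n, ?_, fun b => ?_⟩
  · rw [map_pow]
    refine pow_mem (mem_nonZeroDivisors_iff_right.2 fun b hb => by_contra fun hb0 => ?_) n
    have hmem : x ∈ {r : A | ∃ m : B, m ≠ 0 ∧ r • m = 0} := ⟨b, hb0, by rw [Algebra.smul_def, mul_comm, hb]⟩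
    rw [← biUnion_associatedPrimes_eq_zero_divisors A B, Set.mem_iUnion₂] at hmem
    obtain ⟨I, hI, hxI⟩ := hmem
    exact hxT ⟨I, hI.isPrime⟩ (Finset.mem_union_left _ ((Set.Finite.mem_toFinset _).2 hI)) hxI
  · obtain ⟨a, ha⟩ := hn _ (Ideal.pow_mem_pow hx n) b
    exact ⟨a, ha.trans (Algebra.smul_def _ _)⟩

set_option maxHeartbeats 1000000 in
theorem symbol_norm [hloc : ∀ q : MaximalSpectrum B, IsLocalHom (algebraMap A (Loc q))] (hA : ringKrullDim A = 1) (hB : IsFinExt A B (maximalIdeal A))
    (hass : maximalIdeal A ∉ associatedPrimes A B) {a b : A} (ha : a ∈ nonZeroDivisors A)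
    (hb : b ∈ nonZeroDivisors A) :
    tameSymbol A a b = ∏ᶠ q : MaximalSpectrum B, Algebra.norm (ResidueField A)
      (tameSymbol (Loc q) (algebraMap A (Loc q) a) (algebraMap A (Loc q) b)) := by
  classical
  have hbir := birat_of_isFinExt hA hB hass
  haveI := hbir.fin
  have haB := hbir.map_nzd ha
  have hbB := hbir.map_nzd hb
  obtain ⟨C, _, _, _, _, hBC, s, hs, hcop, hgen⟩ := exists_coprime_factors hA.le hbir {algebraMap A B a, algebraMap A B b} (by
    simp only [Multiset.insert_eq_cons, Multiset.mem_cons, Multiset.mem_singleton]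
    rintro x (rfl | rfl) <;> assumption)
  have hAC := hbir.trans hBC
  haveI := hAC.fin
  haveI := hBC.fin
  haveI : IsNoetherianRing B := IsNoetherianRing.of_finite A B
  haveI : IsNoetherianRing C := IsNoetherianRing.of_finite A C
  haveI := finite_maximalSpectrum A B
  haveI := finite_maximalSpectrum A C
  letI := Fintype.ofFinite (MaximalSpectrum B)
  letI := Fintype.ofFinite (MaximalSpectrum C)
  choose π hπ hfac using fun r : MaximalSpectrum C => exists_pi s hs hcop r.asIdeal
  choose u e hu using fun r => hfac r _ (hgen (algebraMap A B a) (by simp))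
  choose v f hv using fun r => hfac r _ (hgen (algebraMap A B b) (by simp))
  have hu' : ∀ r, algebraMap A (Loc r) a = (u r : Loc r) * π r ^ e r := fun r => by
    rw [← hu r, IsScalarTower.algebraMap_apply A C (Loc r), IsScalarTower.algebraMap_apply A B C]
  have hv' : ∀ r, algebraMap A (Loc r) b = (v r : Loc r) * π r ^ f r := fun r => by
    rw [← hv r, IsScalarTower.algebraMap_apply A C (Loc r), IsScalarTower.algebraMap_apply A B C]
  rw [finprod_eq_prod_of_fintype, symbol_eq hA.le hAC π hπ ha hb u v e f hu' hv',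
    ← Finset.prod_fiberwise Finset.univ (below B)]
  refine Finset.prod_congr rfl fun q _ => ?_
  have hmax : ∀ r : {r : PrimeSpectrum C // r.asIdeal.comap (algebraMap B C) = q.asIdeal}, r.1.asIdeal.IsMaximal :=
    fun r => Ideal.isMaximal_of_isIntegral_of_isMaximal_comap (R := B) r.1.asIdeal (by rw [r.2]; exact q.isMaximal)
  let Φ : {r : MaximalSpectrum C // below B r = q} ≃
      {r : PrimeSpectrum C // r.asIdeal.comap (algebraMap B C) = q.asIdeal} :=
    { toFun := fun r => ⟨⟨r.1.asIdeal, r.1.isMaximal.isPrime⟩, congrArg MaximalSpectrum.asIdeal r.2⟩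
      invFun := fun r => ⟨⟨r.1.asIdeal, hmax r⟩, MaximalSpectrum.ext r.2⟩
      left_inv := fun _ => rfl
      right_inv := fun _ => rfl }
  letI := Fintype.ofEquiv _ Φ
  haveI := noeth_loc (A := A) q
  haveI := dimLE_loc (A := A) hA.le q
  have hdq : ringKrullDim (Loc q) ≤ 1 := Ring.krullDimLE_iff.1 inferInstance
  obtain ⟨y, hy, hyC, hy'⟩ := hBC.denom
  have key := symbol_frame q.asIdeal hdq (birat_loc q.asIdeal hBC.inj (map_nzd_loc q hy) hyC hy')
    (algebraMap A B a) (algebraMap A B b) (map_nzd_loc q haB) (map_nzd_loc q hbB) (fun r => by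
      exact ⟨π ⟨r.1.asIdeal, hmax r⟩, hπ ⟨r.1.asIdeal, hmax r⟩, u ⟨r.1.asIdeal, hmax r⟩, v ⟨r.1.asIdeal, hmax r⟩,
        e ⟨r.1.asIdeal, hmax r⟩, f ⟨r.1.asIdeal, hmax r⟩, hu ⟨r.1.asIdeal, hmax r⟩, hv ⟨r.1.asIdeal, hmax r⟩⟩)
  rw [IsScalarTower.algebraMap_apply A B (Loc q), IsScalarTower.algebraMap_apply A B (Loc q), key, map_prod,
    ← Φ.prod_comp, Finset.prod_subtype (p := fun r => below B r = q) (Finset.univ.filter fun r => below B r = q) (fun r => by simp)]
  refine Finset.prod_congr rfl fun r _ => ?_
  obtain ⟨r, rfl⟩ := r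
  haveI := noeth_loc (A := A) r
  haveI := dimLE_loc (A := A) hA.le r
  have hdr : ringKrullDim (Loc r) ≤ 1 := Ring.krullDimLE_iff.1 inferInstance
  show Algebra.norm (ResidueField A) (g (u r) (v r) (e r) (f r)) ^ locOrd r (π r) =
    Algebra.norm (ResidueField A) (show ResidueField (Loc (below B r)) from
      resNorm (below B r).asIdeal ⟨r.asIdeal, r.isMaximal.isPrime⟩ rfl
        (tameSymbol (Loc r) (algebraMap C (Loc r) (algebraMap B C (algebraMap A B a)))
          (algebraMap C (Loc r) (algebraMap B C (algebraMap A B b)))))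
  rw [norm_resNorm r, symbol_local hdr (hπ r) (u r) (v r) (e r) (f r) (hu r) (hv r), map_pow]
  rfl

end Groth.Agent.Tame26
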