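import Groth.Agent.Lib.Tame26.DetLen28
import Groth.Agent.Lib.Tame26.NormFormula
import Groth.Agent.Lib.Cyc26.Length
import Groth.Agent.Lib.SmoothArtin29.Basic

/-! # The tame symbol under flat local base change -/

set_option autoImplicit false
set_option linter.style.haveILetI false
universe u

open IsLocalRing TensorProduct CycAlg

namespace Groth.Agent.Tame26

attribute [local instance] Algebra.TensorProduct.rightAlgebra

variable {A A' C : Type u} [CommRing A] [IsLocalRing A] [CommRing A'] [IsLocalRing A'] [Algebra A A']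
  [CommRing C] [Algebra A C]

theorem fun_bij {R S T : Type*} [CommSemiring R] [Semiring S] [Semiring T] [Algebra R S] [Algebra R T] (e : S ≃ₐ[R] T) :
    Function.Bijective e.toAlgHom.toRingHom := e.bijective

theorem birat_tensor [Module.Flat A A'] (h : Birat A C) : Birat A' (A' ⊗[A] C) := by
  haveI := h.fin
  obtain ⟨y, hy, hyC, hy'⟩ := h.denom
  have hreg : ∀ {M : Type u} [AddCommGroup M] [Module A M] {z : A}, IsSMulRegular M z →
      IsSMulRegular (A' ⊗[A] M) z := fun {M} _ _ {z} hz => by
    intro s t hst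
    have hl : Function.Injective ((z • LinearMap.id : M →ₗ[A] M).lTensor A') :=
      Module.Flat.lTensor_preserves_injective_linearMap _ (fun a b hab => hz hab)
    refine hl ?_
    simpa [LinearMap.lTensor_smul] using hst
  refine ⟨?_, inferInstance, algebraMap A A' y, ?_, ?_, ?_⟩
  · have hl : Function.Injective ((Algebra.linearMap A C).lTensor A') :=
      Module.Flat.lTensor_preserves_injective_linearMap _ h.inj
    intro a b hab
    have := hl (a₁ := a ⊗ₜ[A] (1 : A)) (a₂ := b ⊗ₜ[A] (1 : A)) (by simpa using hab)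
    simpa using congrArg (TensorProduct.rid A A') this
  · rw [mem_nonZeroDivisors_iff_right]
    intro a ha
    have := Module.Flat.isSMulRegular_of_nonZeroDivisors (M := A') hy
    refine this (show y • a = y • 0 from ?_)
    rw [smul_zero, Algebra.smul_def, mul_comm, ha]
  · rw [mem_nonZeroDivisors_iff_right]
    intro a ha
    have hC : IsSMulRegular C y := fun s t hst => by
      simp only [Algebra.smul_def] at hst
      exact (mul_cancel_left_mem_nonZeroDivisors hyC).1 hst
    refine hreg hC (show y • a = y • 0 from ?_)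
    rw [smul_zero, Algebra.smul_def, mul_comm, IsScalarTower.algebraMap_apply A A' (A' ⊗[A] C), ha]
  · intro z
    induction z using TensorProduct.induction_on with
    | zero => exact ⟨0, by simp⟩
    | tmul a c =>
      obtain ⟨a₀, ha₀⟩ := hy' c
      refine ⟨a * algebraMap A A' a₀, ?_⟩
      have hm : ∀ x : A', algebraMap A' (A' ⊗[A] C) x = x ⊗ₜ[A] (1 : C) := fun x => rfl
      rw [hm, hm, Algebra.TensorProduct.tmul_mul_tmul, one_mul, mul_comm a, ← Algebra.smul_def, ← Algebra.smul_def,
        smul_tmul, smul_tmul, Algebra.smul_def, Algebra.smul_def, mul_one, ha₀]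
    | add s t hs ht =>
      obtain ⟨a, ha⟩ := hs
      obtain ⟨b, hb⟩ := ht
      exact ⟨a + b, by rw [map_add, ha, hb, mul_add]⟩

variable [Module.Finite A C] [IsLocalHom (algebraMap A A')]

/-- the maximal ideal below a maximal ideal of the base change -/
theorem comap_isMaximal (r : MaximalSpectrum (A' ⊗[A] C)) :
    (r.asIdeal.comap (algebraMap C (A' ⊗[A] C))).IsMaximal := by
  haveI := r.isMaximal
  haveI : (r.asIdeal.comap (algebraMap A' (A' ⊗[A] C))).IsMaximal :=
    Ideal.isMaximal_comap_of_isIntegral_of_isMaximal _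
  haveI : ((r.asIdeal.comap (algebraMap C (A' ⊗[A] C))).comap (algebraMap A C)).IsMaximal := by
    have h : (r.asIdeal.comap (algebraMap C (A' ⊗[A] C))).comap (algebraMap A C) =
        (r.asIdeal.comap (algebraMap A' (A' ⊗[A] C))).comap (algebraMap A A') := by
      ext a
      simp only [Ideal.mem_comap, ← IsScalarTower.algebraMap_apply]
    rw [h, IsLocalRing.eq_maximalIdeal ‹(r.asIdeal.comap (algebraMap A' (A' ⊗[A] C))).IsMaximal›,
      ((local_hom_TFAE (algebraMap A A')).out 0 4 rfl rfl).1 inferInstance]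
    infer_instance
  exact Ideal.isMaximal_of_isIntegral_of_isMaximal_comap _ this

/-- the maximal ideal below -/
def belowT (r : MaximalSpectrum (A' ⊗[A] C)) : MaximalSpectrum C :=
  ⟨r.asIdeal.comap (algebraMap C (A' ⊗[A] C)), comap_isMaximal r⟩

/-- the local map -/
noncomputable def locT (r : MaximalSpectrum (A' ⊗[A] C)) : Loc (belowT r) →+* Loc r :=
  Localization.localRingHom _ r.asIdeal (algebraMap C (A' ⊗[A] C)) rfl

instance (r : MaximalSpectrum (A' ⊗[A] C)) : IsLocalHom (locT r) :=
  Localization.isLocalHom_localRingHom _ _ _ rfl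

theorem locT_to_map (r : MaximalSpectrum (A' ⊗[A] C)) (c : C) :
    locT r (algebraMap C (Loc (belowT r)) c) = algebraMap (A' ⊗[A] C) (Loc r) (algebraMap C (A' ⊗[A] C) c) :=
  Localization.localRingHom_to_map _ _ _ rfl c

theorem locT_base (r : MaximalSpectrum (A' ⊗[A] C)) (a : A) :
    locT r (algebraMap A (Loc (belowT r)) a) = algebraMap A' (Loc r) (algebraMap A A' a) := by
  rw [IsScalarTower.algebraMap_apply A C (Loc (belowT r)), locT_to_map,
    IsScalarTower.algebraMap_apply A' (A' ⊗[A] C) (Loc r), ← IsScalarTower.algebraMap_apply A A' (A' ⊗[A] C),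
    ← IsScalarTower.algebraMap_apply A C (A' ⊗[A] C)]

theorem locT_flat [Module.Flat A A'] (r : MaximalSpectrum (A' ⊗[A] C)) : (locT r).Flat := by
  refine RingHom.Flat.localRingHom ?_ _ _ rfl
  rw [RingHom.flat_algebraMap_iff]
  exact Module.Flat.isBaseChange A C A' (A' ⊗[A] C) (Algebra.IsPushout.symm (R := A) (S := A') (R' := C) (S' := A' ⊗[A] C) inferInstance).out

section Fibre

variable (q : MaximalSpectrum C) (R₀ : Type u) [CommRing R₀] [Algebra A' R₀] [Algebra A R₀]
  [Algebra (ResidueField A) R₀] [IsScalarTower A A' R₀] [IsScalarTower A (ResidueField A) R₀]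

/-- the map to the fibre -/
noncomputable def psi : (A' ⊗[A] C) →ₐ[A'] R₀ ⊗[ResidueField A] ResidueField (Loc q) :=
  Algebra.TensorProduct.lift
    ((Algebra.TensorProduct.includeLeft : R₀ →ₐ[A'] R₀ ⊗[ResidueField A] ResidueField (Loc q)).comp (Algebra.ofId A' R₀))
    (((Algebra.TensorProduct.includeRight : ResidueField (Loc q) →ₐ[ResidueField A] R₀ ⊗[ResidueField A] ResidueField (Loc q)).restrictScalars A).comp
      (IsScalarTower.toAlgHom A C (ResidueField (Loc q))))
    (fun _ _ => Commute.all _ _)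

theorem psi_tmul (a : A') (c : C) :
    psi q R₀ (a ⊗ₜ[A] c) = algebraMap A' R₀ a ⊗ₜ[ResidueField A] algebraMap C (ResidueField (Loc q)) c := by
  simp [psi, Algebra.TensorProduct.lift_tmul]

theorem residue_surj (hR : Function.Surjective (algebraMap A' R₀)) :
    Function.Surjective (psi (A := A) (A' := A') q R₀) ∧ RingHom.ker (psi (A := A) (A' := A') q R₀).toRingHom =
      (RingHom.ker (algebraMap A' R₀)).map (algebraMap A' (A' ⊗[A] C)) ⊔
        q.asIdeal.map (algebraMap C (A' ⊗[A] C)) := by
  haveI := q.isMaximal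
  have hK : Function.Surjective (algebraMap C (ResidueField (Loc q))) := by
    intro z
    obtain ⟨w, rfl⟩ := (q.asIdeal.bijective_algebraMap_quotient_residueField).2 z
    obtain ⟨c, rfl⟩ := Ideal.Quotient.mk_surjective w
    exact ⟨c, rfl⟩
  haveI : TensorProduct.CompatibleSMul (ResidueField A) A R₀ (ResidueField (Loc q)) :=
    inferInstance
  haveI : TensorProduct.CompatibleSMul A (ResidueField A) R₀ (ResidueField (Loc q)) :=
    ⟨fun c m n => by
      obtain ⟨a, rfl⟩ := residue_surjective c
      rw [← ResidueField.algebraMap_eq, algebraMap_smul, algebraMap_smul, smul_tmul]⟩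
  let e : R₀ ⊗[ResidueField A] ResidueField (Loc q) ≃ₐ[A'] R₀ ⊗[A] ResidueField (Loc q) :=
    Algebra.TensorProduct.equivOfCompatibleSMul A (ResidueField A) A' R₀ (ResidueField (Loc q))
  let m := Algebra.TensorProduct.map (IsScalarTower.toAlgHom A A' R₀) (IsScalarTower.toAlgHom A C (ResidueField (Loc q)))
  have hm : ∀ z, e (psi q R₀ z) = m z := fun z => by
    induction z using TensorProduct.induction_on with
    | zero => simp
    | tmul a c => rw [psi_tmul]; rfl
    | add s t hs ht => simp [map_add, hs, ht]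
  refine ⟨fun z => ?_, ?_⟩
  · obtain ⟨w, hw⟩ := Algebra.TensorProduct.map_surjective (IsScalarTower.toAlgHom A A' R₀)
      (IsScalarTower.toAlgHom A C (ResidueField (Loc q))) hR hK (e z)
    exact ⟨w, e.injective ((hm w).trans hw)⟩
  · have hk : RingHom.ker (algebraMap C (ResidueField (Loc q))) = q.asIdeal := Ideal.ker_algebraMap_residueField _
    have := Algebra.TensorProduct.map_ker (IsScalarTower.toAlgHom A A' R₀)
      (IsScalarTower.toAlgHom A C (ResidueField (Loc q))) hR hK
    calc RingHom.ker (psi q R₀).toRingHom = RingHom.ker m := by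
          ext z
          simp only [RingHom.mem_ker, ← hm]
          exact (map_eq_zero_iff e e.injective).symm
      _ = _ := by
          rw [this]
          congr 1
          exact congrArg (Ideal.map _) hk

end Fibre

variable [Algebra (ResidueField A) (A' ⧸ (maximalIdeal A).map (algebraMap A A'))]
  [IsScalarTower A (ResidueField A) (A' ⧸ (maximalIdeal A).map (algebraMap A A'))]

/-- lengths of the closed fibre -/
theorem length_fibre [Module.Flat A A'] [IsNoetherianRing A] [IsNoetherianRing A'] (hA' : ringKrullDim A' = 1)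
    {a : A} (ha : a ∈ nonZeroDivisors A) (ham : a ∈ maximalIdeal A)
    (q : MaximalSpectrum C) (r : MaximalSpectrum (A' ⊗[A] C)) :
    Module.length (Loc r) (Loc r ⧸ (q.asIdeal.map (algebraMap C (A' ⊗[A] C))).map (algebraMap _ (Loc r))) =
      Module.length A' (A' ⧸ (maximalIdeal A).map (algebraMap A A')) *
        locLen r ((A' ⊗[A] C) ⧸ RingHom.ker (psi (A := A) (A' := A') q (ResidueField A')).toRingHom) := by
  have hI : ((maximalIdeal A).map (algebraMap A A')) ≤ maximalIdeal A' := ((local_hom_TFAE (algebraMap A A')).out 0 2 rfl rfl).1 inferInstance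
  haveI : Nontrivial (A' ⧸ ((maximalIdeal A).map (algebraMap A A'))) :=
    Ideal.Quotient.nontrivial_iff.2 fun h => (maximalIdeal.isMaximal A').ne_top (top_le_iff.1 (h ▸ hI))
  haveI : IsLocalRing (A' ⧸ ((maximalIdeal A).map (algebraMap A A'))) := IsLocalRing.of_surjective' (Ideal.Quotient.mk ((maximalIdeal A).map (algebraMap A A'))) Ideal.Quotient.mk_surjective
  haveI : IsLocalHom (Ideal.Quotient.mk ((maximalIdeal A).map (algebraMap A A'))) := IsLocalHom.of_surjective _ Ideal.Quotient.mk_surjective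
  haveI : IsArtinianRing (A' ⧸ ((maximalIdeal A).map (algebraMap A A'))) := by
    haveI : Ring.KrullDimLE 1 A' := Ring.krullDimLE_iff.2 hA'.le
    have hz : algebraMap A A' a ∈ nonZeroDivisors A' := by
      rw [mem_nonZeroDivisors_iff_right]
      intro b hb
      refine Module.Flat.isSMulRegular_of_nonZeroDivisors (M := A') ha (show a • b = a • 0 from ?_)
      rw [smul_zero, Algebra.smul_def, mul_comm, hb]
    haveI : IsArtinianRing (A' ⧸ Ideal.span {algebraMap A A' a}) :=
      isArtinian_of_tower A' (isFiniteLength_iff_isNoetherian_isArtinian.1 (isFiniteLength_quotient_span_singleton A' hz)).2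
    exact Function.Surjective.isArtinianRing (f := Ideal.Quotient.factor (S := Ideal.span {algebraMap A A' a}) (T := ((maximalIdeal A).map (algebraMap A A')))
      ((Ideal.span_singleton_le_iff_mem ((maximalIdeal A).map (algebraMap A A'))).2 (Ideal.mem_map_of_mem _ ham))) (Ideal.Quotient.factor_surjective _)
  set Q : Ideal (A' ⊗[A] C) := q.asIdeal.map (algebraMap C (A' ⊗[A] C))
  have hkerR := residue_surj (A := A) (A' := A') (C := C) q (A' ⧸ ((maximalIdeal A).map (algebraMap A A'))) Ideal.Quotient.mk_surjective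
  have hkerk := residue_surj (A := A) (A' := A') (C := C) q (ResidueField A') residue_surjective
  have hqm : maximalIdeal A ≤ q.asIdeal.comap (algebraMap A C) := by
    haveI := q.isMaximal
    haveI : (q.asIdeal.comap (algebraMap A C)).IsMaximal := Ideal.isMaximal_comap_of_isIntegral_of_isMaximal _
    rw [IsLocalRing.eq_maximalIdeal ‹(q.asIdeal.comap (algebraMap A C)).IsMaximal›]
  have hIQ : ((maximalIdeal A).map (algebraMap A A')).map (algebraMap A' (A' ⊗[A] C)) ≤ Q := by
    rw [Ideal.map_map, ← IsScalarTower.algebraMap_eq A A' (A' ⊗[A] C), IsScalarTower.algebraMap_eq A C (A' ⊗[A] C),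
      ← Ideal.map_map]
    exact Ideal.map_mono (Ideal.map_le_iff_le_comap.2 hqm)
  have hQ : RingHom.ker (psi (A := A) (A' := A') q (A' ⧸ ((maximalIdeal A).map (algebraMap A A')))).toRingHom = Q := by
    rw [hkerR.2, show RingHom.ker (algebraMap A' (A' ⧸ ((maximalIdeal A).map (algebraMap A A')))) = ((maximalIdeal A).map (algebraMap A A')) from Ideal.mk_ker, sup_eq_right.2 hIQ]
  -- the local closed fibre
  let QL : Ideal (Loc r) := Q.map (algebraMap _ (Loc r))
  let φ₁ : (A' ⧸ ((maximalIdeal A).map (algebraMap A A'))) →+* (A' ⊗[A] C) ⧸ Q :=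
    Ideal.quotientMap Q (algebraMap A' (A' ⊗[A] C)) (Ideal.map_le_iff_le_comap.1 hIQ)
  let φ₂ : (A' ⊗[A] C) ⧸ Q →+* Loc r ⧸ QL :=
    Ideal.quotientMap QL (algebraMap (A' ⊗[A] C) (Loc r)) Ideal.le_comap_map
  let e : ((A' ⊗[A] C) ⧸ Q) ≃+* (A' ⧸ ((maximalIdeal A).map (algebraMap A A'))) ⊗[ResidueField A] ResidueField (Loc q) :=
    (Ideal.quotEquivOfEq hQ.symm).trans (RingHom.quotientKerEquivOfSurjective hkerR.1)
  have h1 : φ₁.Flat := by
    have he : φ₁ = e.symm.toRingHom.comp (algebraMap (A' ⧸ ((maximalIdeal A).map (algebraMap A A'))) ((A' ⧸ ((maximalIdeal A).map (algebraMap A A'))) ⊗[ResidueField A] ResidueField (Loc q))) := by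
      refine Ideal.Quotient.ringHom_ext (RingHom.ext fun b => ?_)
      refine e.injective ?_
      show e (Ideal.Quotient.mk Q (algebraMap A' (A' ⊗[A] C) b)) = e (e.symm _)
      rw [e.apply_symm_apply]
      show psi (A := A) (A' := A') q (A' ⧸ ((maximalIdeal A).map (algebraMap A A'))) (algebraMap A' (A' ⊗[A] C) b) = _
      rw [AlgHom.commutes]
      rfl
    rw [he]
    exact RingHom.Flat.comp ((RingHom.flat_algebraMap_iff).2 inferInstance) (RingHom.Flat.of_bijective e.symm.bijective)
  have h2 : φ₂.Flat := by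
    haveI : Module.Flat (A' ⊗[A] C) (Loc r) := IsLocalization.flat (Loc r) r.asIdeal.primeCompl
    let e' : ((A' ⊗[A] C) ⧸ Q) ⊗[A' ⊗[A] C] Loc r ≃ₐ[A' ⊗[A] C] Loc r ⧸ QL :=
      ((Algebra.TensorProduct.comm _ _ _).trans
        ((Algebra.TensorProduct.quotIdealMapEquivTensorQuot (Loc r) Q).restrictScalars (A' ⊗[A] C)).symm)
    have he : φ₂ = e'.toAlgHom.toRingHom.comp (algebraMap ((A' ⊗[A] C) ⧸ Q) (((A' ⊗[A] C) ⧸ Q) ⊗[A' ⊗[A] C] Loc r)) := by
      refine Ideal.Quotient.ringHom_ext (RingHom.ext fun b => ?_)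
      simp only [φ₂, e', RingHom.comp_apply, Ideal.quotientMap_mk]
      show _ = (Algebra.TensorProduct.quotIdealMapEquivTensorQuot (Loc r) Q).symm
        ((1 : Loc r) ⊗ₜ[A' ⊗[A] C] Ideal.Quotient.mk Q b)
      rw [Algebra.TensorProduct.quotIdealMapEquivTensorQuot_symm_tmul, Algebra.smul_def, mul_one]
      rfl
    letI : Algebra ((A' ⊗[A] C) ⧸ Q) (Loc r ⧸ QL) := φ₂.toAlgebra
    let eL : ((A' ⊗[A] C) ⧸ Q) ⊗[A' ⊗[A] C] Loc r ≃ₗ[(A' ⊗[A] C) ⧸ Q] Loc r ⧸ QL :=
      { e'.toAddEquiv with
        map_smul' := fun c z => by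
          obtain ⟨d, rfl⟩ := Ideal.Quotient.mk_surjective c
          show e'.toLinearMap (Ideal.Quotient.mk Q d • z) = φ₂ (Ideal.Quotient.mk Q d) * e'.toLinearMap z
          rw [← Ideal.Quotient.algebraMap_eq, algebraMap_smul, map_smul, Ideal.Quotient.algebraMap_eq,
            Ideal.quotientMap_mk]
          obtain ⟨y, hy⟩ := Ideal.Quotient.mk_surjective (e'.toLinearMap z)
          rw [← hy, ← map_mul]
          exact congrArg (Ideal.Quotient.mk QL) (Algebra.smul_def d y) }
    exact Module.Flat.of_linearEquiv eL.symm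
  have h : (φ₂.comp φ₁).Flat := RingHom.Flat.comp h1 h2
  have hcomp : ∀ x, φ₂.comp φ₁ (Ideal.Quotient.mk _ x) = Ideal.Quotient.mk QL (algebraMap A' (Loc r) x) := fun x => by
    simp only [φ₁, φ₂, RingHom.comp_apply, Ideal.quotientMap_mk]
    rw [← IsScalarTower.algebraMap_apply]
  let R₀ := (A' ⧸ ((maximalIdeal A).map (algebraMap A A')))
  letI : Algebra R₀ (Loc r ⧸ QL) := (φ₂.comp φ₁).toAlgebra
  haveI : Module.Flat R₀ (Loc r ⧸ QL) := h
  have hB := SmoothArtin29.length_baseChange (A := R₀) (B := Loc r ⧸ QL) R₀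
    (isFiniteLength_iff_isNoetherian_isArtinian.mpr ⟨inferInstance, inferInstance⟩)
  rw [(AlgebraTensorModule.rid R₀ (Loc r ⧸ QL) (Loc r ⧸ QL)).length_eq,
    ← (Algebra.TensorProduct.quotIdealMapEquivTensorQuot (Loc r ⧸ QL) (maximalIdeal R₀)).toLinearEquiv.length_eq] at hB
  have e1 : Module.length (Loc r) (Loc r ⧸ QL) = Module.length (Loc r ⧸ QL) (Loc r ⧸ QL) :=
    Module.length_eq_of_surjective (R := Loc r ⧸ QL) (S := Loc r) Ideal.Quotient.mk_surjective
  have e2 : Module.length A' R₀ = Module.length R₀ R₀ :=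
    Module.length_eq_of_surjective (R := R₀) (S := A') Ideal.Quotient.mk_surjective
  rw [e1, e2, hB]
  congr 1
  set J : Ideal (Loc r ⧸ QL) := (maximalIdeal R₀).map (algebraMap R₀ (Loc r ⧸ QL))
  have hJ : J = ((maximalIdeal A').map (algebraMap A' (Loc r))).map (Ideal.Quotient.mk QL) := by
    have hm : maximalIdeal R₀ = (maximalIdeal A').map (Ideal.Quotient.mk _) :=
      (IsLocalRing.map_maximalIdeal_of_surjective _ Ideal.Quotient.mk_surjective).symm
    simp only [J, hm, Ideal.map_map]
    rw [show algebraMap R₀ (Loc r ⧸ QL) = φ₂.comp φ₁ from rfl]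
    congr 1
  rw [locLen, ← (Algebra.TensorProduct.quotIdealMapEquivTensorQuot (Loc r)
    (RingHom.ker (psi (A := A) (A' := A') q (ResidueField A')).toRingHom)).toLinearEquiv.length_eq, hkerk.2,
    show RingHom.ker (algebraMap A' (ResidueField A')) = maximalIdeal A' from Ideal.mk_ker, Ideal.map_sup, Ideal.map_map,
    ← IsScalarTower.algebraMap_eq, sup_comm, hJ]
  rw [← Module.length_eq_of_surjective (R := Loc r ⧸ QL) (S := Loc r) Ideal.Quotient.mk_surjective]
  exact (DoubleQuot.quotQuotEquivQuotSupₐ (Loc r) QL ((maximalIdeal A').map (algebraMap A' (Loc r)))).toLinearEquiv.length_eq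

end Groth.Agent.Tame26
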