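import Groth.Agent.Lib.Tame26.FlatBC28

set_option autoImplicit false
set_option linter.style.haveILetI false
universe u

open IsLocalRing TensorProduct CycAlg

namespace Groth.Agent.Tame26

attribute [local instance] Algebra.TensorProduct.rightAlgebra

variable {A A' C : Type u} [CommRing A] [IsLocalRing A] [CommRing A'] [IsLocalRing A'] [Algebra A A']
  [CommRing C] [Algebra A C] [Module.Finite A C] [IsLocalHom (algebraMap A A')] [Module.Finite A C]

theorem locLen_psi_eq_zero (q : MaximalSpectrum C) (r : MaximalSpectrum (A' ⊗[A] C)) (h : belowT r ≠ q) :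
    locLen r ((A' ⊗[A] C) ⧸ RingHom.ker (psi (A := A) (A' := A') q (ResidueField A')).toRingHom) = 0 := by
  obtain ⟨c, hcq, hcr⟩ := SetLike.not_le_iff_exists.1
    (fun hle => h (MaximalSpectrum.ext (q.isMaximal.eq_of_le (belowT r).isMaximal.ne_top hle).symm))
  set K := RingHom.ker (psi (A := A) (A' := A') q (ResidueField A')).toRingHom
  have hmem : algebraMap C (A' ⊗[A] C) c ∈ K := by
    rw [show K = _ from (residue_surj q (ResidueField A') residue_surjective).2]
    exact Ideal.mem_sup_right (Ideal.mem_map_of_mem _ hcq)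
  haveI := r.isMaximal
  rw [locLen, ← (Algebra.TensorProduct.quotIdealMapEquivTensorQuot (Loc r) K).toLinearEquiv.length_eq,
    Ideal.eq_top_of_isUnit_mem _ (Ideal.mem_map_of_mem (algebraMap _ (Loc r)) hmem)
      (IsLocalization.map_units (Loc r) (⟨_, hcr⟩ : r.asIdeal.primeCompl))]
  haveI : Subsingleton (Loc r ⧸ (⊤ : Ideal (Loc r))) := Ideal.Quotient.subsingleton_iff.2 rfl
  exact Module.length_eq_zero

/-- the norm at one maximal ideal, spread over the maximal ideals of the base change -/
theorem prod_norm_eq [Fintype (MaximalSpectrum (A' ⊗[A] C))] (q : MaximalSpectrum C) (c : C) :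
    ∏ r : MaximalSpectrum (A' ⊗[A] C), Algebra.norm (ResidueField A')
      (residue (Loc r) (algebraMap (A' ⊗[A] C) (Loc r) (algebraMap C _ c))) ^
        (locLen r ((A' ⊗[A] C) ⧸ RingHom.ker (psi (A := A) (A' := A') q (ResidueField A')).toRingHom)).toNat =
      ResidueField.map (algebraMap A A') (Algebra.norm (ResidueField A) (residue (Loc q) (algebraMap C (Loc q) c))) := by
  haveI : IsScalarTower A (ResidueField A) (ResidueField A') := IsScalarTower.of_algebraMap_eq fun a => rfl
  set ψ := psi (A := A) (A' := A') q (ResidueField A')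
  let N := ResidueField A' ⊗[ResidueField A] ResidueField (Loc q)
  haveI := (length_quot_max (A := A) q).1
  letI : Algebra (A' ⊗[A] C) N := ψ.toRingHom.toAlgebra
  haveI : IsScalarTower A' (A' ⊗[A] C) N := IsScalarTower.of_algebraMap_eq fun a => (ψ.commutes a).symm
  have hfl : IsFiniteLength (A' ⊗[A] C) N := by
    have : IsFiniteLength A' N := by
      rw [← Module.length_ne_top_iff, Module.length_eq_of_surjective (R := ResidueField A') (S := A') residue_surjective,
        Module.length_eq_finrank]
      exact ENat.coe_ne_top _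
    obtain ⟨h1, h2⟩ := isFiniteLength_iff_isNoetherian_isArtinian.1 this
    exact isFiniteLength_iff_isNoetherian_isArtinian.2 ⟨isNoetherian_of_tower A' h1, isArtinian_of_tower A' h2⟩
  let g := residue (Loc q) (algebraMap C (Loc q) c)
  have hψ : ψ (algebraMap C _ c) = (1 : ResidueField A') ⊗ₜ g := by
    show psi q (ResidueField A') ((1 : A') ⊗ₜ[A] c) = _
    rw [psi_tmul, map_one]
    rfl
  have hdet := det_eq_prod (A' := A') (algebraMap C (A' ⊗[A] C) c) N hfl
    ((Algebra.lmul (ResidueField A) (ResidueField (Loc q)) g).baseChange (ResidueField A')) (fun n => by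
      show _ = ψ (algebraMap C _ c) * n
      rw [hψ]
      induction n using TensorProduct.induction_on with
      | zero => simp
      | tmul s t =>
        show _ = ((1 : ResidueField A') ⊗ₜ[ResidueField A] g) * (s ⊗ₜ[ResidueField A] t)
        rw [LinearMap.baseChange_tmul, Algebra.TensorProduct.tmul_mul_tmul, one_mul]
        rfl
      | add s t hs ht => rw [map_add, mul_add, hs, ht])
  rw [LinearMap.det_baseChange] at hdet
  show _ = algebraMap (ResidueField A) (ResidueField A') (Algebra.norm (ResidueField A) g)
  rw [Algebra.norm_apply, hdet]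
  refine Finset.prod_congr rfl fun r _ => ?_
  congr 2
  let e : ((A' ⊗[A] C) ⧸ RingHom.ker ψ.toRingHom) ≃ₗ[A' ⊗[A] C] N :=
    (Submodule.quotEquivOfEq _ _ (by ext z; rfl)).trans
      ((Algebra.linearMap (A' ⊗[A] C) N).quotKerEquivOfSurjective (residue_surj q (ResidueField A') residue_surjective).1)
  exact (e.baseChange (A' ⊗[A] C) (Loc r) _ _).length_eq

variable [IsNoetherianRing A] [IsNoetherianRing A'] [Module.Flat A A']

theorem locOrd_locT (hA' : ringKrullDim A' = 1) {a : A} (ha : a ∈ nonZeroDivisors A) (ham : a ∈ maximalIdeal A)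
    (r : MaximalSpectrum (A' ⊗[A] C)) (π : Loc (belowT r)) :
    locOrd r (locT r π) = locOrd (belowT r) π *
      ((Module.length A' (A' ⧸ (maximalIdeal A).map (algebraMap A A'))).toNat *
        (locLen r ((A' ⊗[A] C) ⧸ RingHom.ker (psi (A := A) (A' := A') (belowT r) (ResidueField A')).toRingHom)).toNat) := by
  letI : Algebra (ResidueField A) (A' ⧸ (maximalIdeal A).map (algebraMap A A')) :=
    (Ideal.Quotient.lift (maximalIdeal A) (algebraMap A _) fun x hx => by
      rw [IsScalarTower.algebraMap_apply A A' (A' ⧸ _)]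
      exact Ideal.Quotient.eq_zero_iff_mem.2 (Ideal.mem_map_of_mem _ hx)).toAlgebra
  haveI : IsScalarTower A (ResidueField A) (A' ⧸ (maximalIdeal A).map (algebraMap A A')) :=
    IsScalarTower.of_algebraMap_eq fun x => rfl
  have hfib := length_fibre hA' ha ham (belowT r) r
  letI : Algebra (Loc (belowT r)) (Loc r) := (locT r).toAlgebra
  haveI : Module.Flat (Loc (belowT r)) (Loc r) := locT_flat r
  haveI : IsLocalHom (algebraMap (Loc (belowT r)) (Loc r)) := inferInstanceAs (IsLocalHom (locT r))
  have h := Cyc26.length_quotient_map (Loc (belowT r)) (Loc r) (Ideal.span {π})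
  have hmax : (maximalIdeal (Loc (belowT r))).map (algebraMap (Loc (belowT r)) (Loc r)) =
      ((belowT r).asIdeal.map (algebraMap C (A' ⊗[A] C))).map (algebraMap _ (Loc r)) := by
    rw [← Localization.AtPrime.map_eq_maximalIdeal, Ideal.map_map, Ideal.map_map]
    congr 1
    exact RingHom.ext fun x => locT_to_map r x
  rw [Ideal.map_span, Set.image_singleton, hmax, hfib] at h
  show (Ring.ord (Loc r) (locT r π)).toNat = (Ring.ord (Loc (belowT r)) π).toNat * _
  rw [Ring.ord, Ring.ord, ← ENat.toNat_mul, ← ENat.toNat_mul]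
  exact congrArg ENat.toNat h

theorem symbol_flat (hA : ringKrullDim A = 1) (hA' : ringKrullDim A' = 1) {a b : A} (ha : a ∈ nonZeroDivisors A)
    (hb : b ∈ nonZeroDivisors A) :
    ResidueField.map (algebraMap A A') (tameSymbol A a b) ^
      (Module.length A' (A' ⧸ (maximalIdeal A).map (algebraMap A A'))).toNat =
      tameSymbol A' (algebraMap A A' a) (algebraMap A A' b) := by
  have hnz : ∀ {z : A}, z ∈ nonZeroDivisors A → algebraMap A A' z ∈ nonZeroDivisors A' := fun {z} hz => by
    rw [mem_nonZeroDivisors_iff_right]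
    intro x hx
    refine Module.Flat.isSMulRegular_of_nonZeroDivisors (M := A') hz (show z • x = z • 0 from ?_)
    rw [smul_zero, Algebra.smul_def, mul_comm, hx]
  classical
  by_cases hau : IsUnit a
  · obtain ⟨u, rfl⟩ := hau
    rw [tameSymbol_unit hA.le u hb,
      show algebraMap A A' (u : A) = ((Units.map (algebraMap A A').toMonoidHom u : A'ˣ) : A') from rfl,
      tameSymbol_unit hA'.le _ (hnz hb), map_pow, ResidueField.map_residue, ← pow_mul]
    have h := congrArg ENat.toNat (Cyc26.length_quotient_map A A' (Ideal.span {b}))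
    rw [Ideal.map_span, Set.image_singleton, ENat.toNat_mul] at h
    rw [← h]
    rfl
  · have ham : a ∈ maximalIdeal A := hau
    obtain ⟨C, _, _, hC, π, hπ, hfac⟩ := exists_frame hA.le {a, b} (by
      simp only [Multiset.insert_eq_cons, Multiset.mem_cons, Multiset.mem_singleton]
      rintro x (rfl | rfl) <;> assumption)
    haveI := hC.fin
    haveI := finite_maximalSpectrum A C
    letI := Fintype.ofFinite (MaximalSpectrum C)
    haveI := finite_maximalSpectrum A' (A' ⊗[A] C)
    letI := Fintype.ofFinite (MaximalSpectrum (A' ⊗[A] C))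
    choose u e hu using hfac a (Submonoid.subset_closure (by simp))
    choose v f hv using hfac b (Submonoid.subset_closure (by simp))
    have hπ' : ∀ r : MaximalSpectrum (A' ⊗[A] C), locT r (π (belowT r)) ∈ nonZeroDivisors (Loc r) := fun r => by
      letI : Algebra (Loc (belowT r)) (Loc r) := (locT r).toAlgebra
      haveI : Module.Flat (Loc (belowT r)) (Loc r) := locT_flat r
      rw [mem_nonZeroDivisors_iff_right]
      intro x hx
      refine Module.Flat.isSMulRegular_of_nonZeroDivisors (M := Loc r) (hπ (belowT r))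
        (show π (belowT r) • x = π (belowT r) • 0 from ?_)
      rw [smul_zero, Algebra.smul_def, mul_comm]
      exact hx
    rw [symbol_eq hA.le hC π hπ ha hb u v e f hu hv,
      symbol_eq hA'.le (birat_tensor hC) (fun r => locT r (π (belowT r))) hπ' (hnz ha) (hnz hb)
        (fun r => Units.map (locT r).toMonoidHom (u (belowT r))) (fun r => Units.map (locT r).toMonoidHom (v (belowT r)))
        (fun r => e (belowT r)) (fun r => f (belowT r))
        (fun r => by rw [← locT_base, hu, map_mul, map_pow]; rfl)
        (fun r => by rw [← locT_base, hv, map_mul, map_pow]; rfl),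
      map_prod, ← Finset.prod_pow, ← Finset.prod_fiberwise Finset.univ belowT]
    refine Finset.prod_congr rfl fun q _ => ?_
    obtain ⟨w, hw⟩ := residue_surjective (g (u q) (v q) (e q) (f q))
    obtain ⟨c, hc⟩ : ∃ c : C, residue (Loc q) (algebraMap C (Loc q) c) = g (u q) (v q) (e q) (f q) := by
      haveI := q.isMaximal
      obtain ⟨z, hz⟩ := (q.asIdeal.bijective_algebraMap_quotient_residueField).2 (residue (Loc q) w)
      obtain ⟨c, rfl⟩ := Ideal.Quotient.mk_surjective z
      exact ⟨c, hw ▸ hz⟩
    rw [map_pow, ← pow_mul, ← hc, ← prod_norm_eq (A' := A') q c, ← Finset.prod_pow]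
    rw [Finset.prod_filter]
    refine Finset.prod_congr rfl fun r _ => ?_
    split_ifs with hr
    · subst hr
      rw [← g_map, locOrd_locT hA' ha ham, ← hc, ResidueField.map_residue, locT_to_map, ← pow_mul]
      ring_nf
    · rw [locLen_psi_eq_zero q r hr]
      simp

end Groth.Agent.Tame26
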