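import Groth.Agent.Lib.Tame26.TwoDim
import Groth.Agent.Lib.Tame26.BlowEnd

/-! # The key lemma for tame symbols -/

set_option autoImplicit false
universe u

open IsLocalRing CycAlg

namespace Groth.Agent.Tame26

variable {A : Type u} [CommRing A] [IsLocalRing A] [IsNoetherianRing A]

theorem norm_ne_zero' {K L : Type u} [Field K] [Field L] {_ : Algebra K L} {z : L} (hz : z ≠ 0) :
    Algebra.norm K z ≠ 0 := by
  by_cases h : FiniteDimensional K L
  · exact Algebra.norm_ne_zero_iff.2 hz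
  · rw [Algebra.norm_eq_one_of_not_exists_basis]
    · exact one_ne_zero
    · rintro ⟨s, ⟨b⟩⟩
      exact h (Module.Finite.of_basis b)

theorem resNorm_ne_zero {C : Type u} [CommRing C] [Algebra A C] (q : Ideal A) [q.IsPrime] (r : PrimeSpectrum C)
    (h : r.asIdeal.comap (algebraMap A C) = q) {z} (hz : z ≠ 0) : resNorm q r h z ≠ 0 := by
  unfold resNorm
  exact norm_ne_zero' hz

omit [IsLocalRing A] [IsNoetherianRing A] in
theorem ordFrac_resNorm {C : Type u} [CommRing C] [Algebra A C] (q : Ideal A) [q.IsPrime] (r : PrimeSpectrum C)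
    (h : r.asIdeal.comap (algebraMap A C) = q) (z : ResidueField (Localization.AtPrime r.asIdeal)) :
    ordFrac (A ⧸ q) q.ResidueField (resNorm q r h z) = phi A r z := by
  subst h; rfl

theorem ordFrac_prod {R : Type u} [CommRing R] [IsNoetherianRing R] (hR : ringKrullDim R ≤ 1)
    {K : Type u} [Field K] [Algebra R K] [IsDomain R] [IsFractionRing R K] {ι : Type*} (s : Finset ι) (f : ι → K)
    (hf : ∀ i ∈ s, f i ≠ 0) : ordFrac R K (∏ i ∈ s, f i) = ∑ i ∈ s, ordFrac R K (f i) := by
  classical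
  induction s using Finset.induction_on with
  | empty =>
    have := Lattice26.ordFrac_mul (A := R) (x := (1 : K)) (y := 1) hR one_ne_zero one_ne_zero
    rw [mul_one] at this
    rw [Finset.prod_empty, Finset.sum_empty]
    omega
  | insert i s hi ih =>
    have hs : ∀ j ∈ s, f j ≠ 0 := fun j hj => hf j (Finset.mem_insert_of_mem hj)
    rw [Finset.prod_insert hi, Finset.sum_insert hi,
      Lattice26.ordFrac_mul hR (hf i (Finset.mem_insert_self _ _)) (Finset.prod_ne_zero_iff.2 hs), ih hs]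

theorem good_of_comap (hA : ringKrullDim A ≤ 2) {C : Type u} [CommRing C] [Algebra A C] [Module.Finite A C]
    (hB : Birat A C) {r : PrimeSpectrum C} (hr : Good r) :
    Good (PrimeSpectrum.comap (algebraMap A C) r) := by
  obtain ⟨x, hx, hx'⟩ := exists_nzd_qOf hB hr
  exact ⟨fun hm => qOf_ne_max hr (IsLocalRing.eq_maximalIdeal hm), x, hx, hx'⟩

/-- The key lemma. -/
theorem key_lemma (hA : ringKrullDim A = 2) (a b : A) (ha : a ∈ nonZeroDivisors A) (hb : b ∈ nonZeroDivisors A) :
    ∑ᶠ (q : PrimeSpectrum A) (_ : q.asIdeal.height = 1), ordFrac (A ⧸ q.asIdeal) q.asIdeal.ResidueField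
      (tameSymbol (Localization.AtPrime q.asIdeal) (algebraMap A (Localization.AtPrime q.asIdeal) a)
        (algebraMap A (Localization.AtPrime q.asIdeal) b)) = 0 := by
  classical
  have hA2 : ringKrullDim A ≤ 2 := hA.le
  have hab : a * b ∈ nonZeroDivisors A := Submonoid.mul_mem _ ha hb
  have hfinV := finite_V (A := A) (C := A) hA2 hab
  let Q := hfinV.toFinset
  have hQ : ∀ q, q ∈ Q ↔ Good q ∧ a * b ∈ q.asIdeal := fun q => Set.Finite.mem_toFinset _
  have hgood : ∀ q : PrimeSpectrum A, q.asIdeal.height = 1 → a * b ∈ q.asIdeal → Good q := by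
    refine fun q hq hg => ⟨fun hm => ?_, a * b, hg, hab⟩
    have h2 : ((maximalIdeal A).height : WithBot ℕ∞) = 2 := IsLocalRing.maximalIdeal_height_eq_ringKrullDim.trans hA
    rw [← IsLocalRing.eq_maximalIdeal hm, hq] at h2
    exact absurd (WithBot.coe_eq_coe.1 (h2.trans (by rfl : (2 : WithBot ℕ∞) = ((2 : ℕ∞) : WithBot ℕ∞)))) (by decide)
  have hdimq : ∀ q : PrimeSpectrum A, q.asIdeal.height = 1 → ringKrullDim (Localization.AtPrime q.asIdeal) ≤ 1 := by
    intro q hq
    rw [IsLocalization.AtPrime.ringKrullDim_eq_height q.asIdeal, hq]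
    rfl
  refine (finsum_mem_eq_sum_of_subset (t := Q) (s := {q : PrimeSpectrum A | q.asIdeal.height = 1})
    (fun q => ordFrac (A ⧸ q.asIdeal) q.asIdeal.ResidueField
      (tameSymbol (Localization.AtPrime q.asIdeal) (algebraMap A (Localization.AtPrime q.asIdeal) a)
        (algebraMap A (Localization.AtPrime q.asIdeal) b))) ?_ fun q hq => height_eq_one hA2 ((hQ q).1 hq).1).trans ?_
  · rintro q ⟨hq, hne⟩
    by_contra hqQ
    have hg : a * b ∉ q.asIdeal := fun h => hqQ ((hQ q).2 ⟨hgood q hq h, h⟩)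
    have hau := isUnit_loc q (fun h => hg (Ideal.mul_mem_right b _ h) : a ∉ q.asIdeal)
    have hbu := isUnit_loc q (fun h => hg (Ideal.mul_mem_left _ a h) : b ∉ q.asIdeal)
    haveI := noeth_atPrime A q
    refine hne ?_
    show ordFrac _ _ (tameSymbol _ _ _) = 0
    rw [← hau.unit_spec, tameSymbol_unit (hdimq q hq) _ hbu.mem_nonZeroDivisors,
      show (Module.length (Localization.AtPrime q.asIdeal) (Localization.AtPrime q.asIdeal ⧸
        Ideal.span {algebraMap A (Localization.AtPrime q.asIdeal) b})).toNat = 0 from by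
          rw [show Module.length (Localization.AtPrime q.asIdeal) (Localization.AtPrime q.asIdeal ⧸
            Ideal.span {algebraMap A (Localization.AtPrime q.asIdeal) b}) = 0 from Ring.ord_of_isUnit hbu]; rfl,
      pow_zero]
    unfold ordFrac
    split_ifs with h
    · rw [map_one]; rfl
    · rfl
  obtain ⟨C, _, _, hB, hfr⟩ := exists_blow (a * b) hab a b rfl Q
    (fun q hq => ⟨((hQ q).1 hq).2, dim_loc (A := A) hA2 ((hQ q).1 hq).1⟩)
    (fun q hq q' hq' hle => good_eq_of_le (A := A) hA2 ((hQ q).1 hq).1 ((hQ q').1 hq').1 hle)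
  haveI := hB.fin
  haveI : IsNoetherianRing C := IsNoetherianRing.of_finite A C
  have haC := hB.map_nzd ha
  have hbC := hB.map_nzd hb
  have habC := hB.map_nzd hab
  let S := (finite_V (A := A) hA2 habC).toFinset
  have hS : ∀ r, r ∈ S ↔ Good r ∧ algebraMap A C (a * b) ∈ r.asIdeal := fun r => Set.Finite.mem_toFinset _
  have hdown : ∀ r, Good r → algebraMap A C (a * b) ∈ r.asIdeal → PrimeSpectrum.comap (algebraMap A C) r ∈ Q :=
    fun r hr hg => (hQ _).2 ⟨good_of_comap hA2 hB hr, hg⟩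
  have hfib : ∀ q ∈ Q, ∀ r : PrimeSpectrum C, r ∈ S.filter (fun r => PrimeSpectrum.comap (algebraMap A C) r = q) ↔
      r.asIdeal.comap (algebraMap A C) = q.asIdeal := by
    intro q hq r
    rw [Finset.mem_filter, hS]
    refine ⟨fun h => congrArg PrimeSpectrum.asIdeal h.2, fun h => ?_⟩
    have hg : algebraMap A C (a * b) ∈ r.asIdeal := by
      rw [← Ideal.mem_comap, h]; exact ((hQ q).1 hq).2
    refine ⟨⟨⟨fun hm => ((hQ q).1 hq).1.1 ?_, _, hg, habC⟩, hg⟩, PrimeSpectrum.ext h⟩
    rw [← h]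
    exact Ideal.isMaximal_comap_of_isIntegral_of_isMaximal r.asIdeal
  have hterm : ∀ q ∈ Q, ordFrac (A ⧸ q.asIdeal) q.asIdeal.ResidueField
      (tameSymbol (Localization.AtPrime q.asIdeal) (algebraMap A (Localization.AtPrime q.asIdeal) a)
        (algebraMap A (Localization.AtPrime q.asIdeal) b)) =
      ∑ r ∈ S.filter (fun r => PrimeSpectrum.comap (algebraMap A C) r = q),
        eps A r (algebraMap A C a) (algebraMap A C b) := by
    intro q hq
    letI : Fintype {r : PrimeSpectrum C // r.asIdeal.comap (algebraMap A C) = q.asIdeal} :=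
      Fintype.subtype _ (hfib q hq)
    obtain ⟨y, hy, hyC, hy'⟩ := hB.denom
    have hnz : ∀ {x : A}, x ∈ nonZeroDivisors A →
        algebraMap A (Localization.AtPrime q.asIdeal) x ∈ nonZeroDivisors (Localization.AtPrime q.asIdeal) :=
      fun h => IsLocalization.nonZeroDivisors_le_comap q.asIdeal.primeCompl _ h
    rw [symbol_frame q.asIdeal (dim_loc (A := A) hA2 ((hQ q).1 hq).1) (birat_loc q.asIdeal hB.inj (hnz hy) hyC hy')
      a b (hnz ha) (hnz hb) (fun r => hfr r.1 ⟨q, hq, r.2⟩)]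
    haveI : IsNoetherianRing (A ⧸ q.asIdeal) := inferInstance
    have hdA : ringKrullDim (A ⧸ q.asIdeal) ≤ 1 := dim_quot (C := A) hA2 Birat.refl ((hQ q).1 hq).1
    have hne : ∀ r : {r : PrimeSpectrum C // r.asIdeal.comap (algebraMap A C) = q.asIdeal},
        resNorm q.asIdeal r.1 r.2 (tameSymbol (Localization.AtPrime r.1.asIdeal)
          (algebraMap C _ (algebraMap A C a)) (algebraMap C _ (algebraMap A C b))) ≠ 0 := fun r =>
      resNorm_ne_zero _ _ _ (symb_ne_zero hA2 hB ((hS _).1 (Finset.mem_filter.1 ((hfib q hq r.1).2 r.2)).1).1 haC hbC)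
    rw [ordFrac_prod (K := q.asIdeal.ResidueField) hdA _ _ (fun r _ => hne r),
      Finset.sum_subtype _ (hfib q hq)]
    exact Finset.sum_congr rfl fun r _ => ordFrac_resNorm _ _ _ _
  rw [Finset.sum_congr rfl hterm, Finset.sum_fiberwise_of_maps_to
    (fun r hr => hdown r ((hS r).1 hr).1 ((hS r).1 hr).2)]
  rw [← sigma_eq_sum hA2 hB haC hbC S (fun r hr => ((hS r).1 hr).1)
    (fun r hr => (hS r).2 ⟨hr.1, by rw [map_mul]; exact Ideal.mul_mem_right _ _ hr.2⟩)
    (fun r hr => (hS r).2 ⟨hr.1, by rw [map_mul]; exact Ideal.mul_mem_left _ _ hr.2⟩)]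
  refine sigma_eq_zero hA2 hB haC hbC fun r hr har _ => ?_
  obtain ⟨π, -, u, v, e, f, h1, h2⟩ := hfr r ⟨_, hdown r hr (by rw [map_mul]; exact Ideal.mul_mem_right _ _ har), rfl⟩
  exact ⟨π, u, v, e, f, h1, h2⟩

end Groth.Agent.Tame26
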