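import Groth.Agent.Lib.Tame26.Value

/-! # The laws of the tame symbol -/

set_option autoImplicit false
universe u

open IsLocalRing CycAlg

namespace Groth.Agent.Tame26

variable {A : Type u} [CommRing A] [IsLocalRing A] [IsNoetherianRing A]

/-- A birational extension on which given elements factor through one element at each maximal ideal. -/
theorem exists_frame (hA : ringKrullDim A ≤ 1) (s : Multiset A) (hs : ∀ a ∈ s, a ∈ nonZeroDivisors A) :
    ∃ (C : Type u) (_ : CommRing C) (_ : Algebra A C), Birat A C ∧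
      ∃ π : (q : MaximalSpectrum C) → Loc q, (∀ q, π q ∈ nonZeroDivisors (Loc q)) ∧
        ∀ a ∈ Submonoid.closure {x : A | x ∈ s}, ∀ q, ∃ (v : (Loc q)ˣ) (e : ℕ),
          algebraMap A (Loc q) a = (v : Loc q) * π q ^ e := by
  classical
  obtain ⟨C, _, _, i2, _, hC, t, ht, hcop, hgen⟩ := exists_coprime_factors hA (Birat.refl (A := A)) s hs
  choose π hπ hfac using fun q : MaximalSpectrum C => exists_pi t ht hcop q.asIdeal
  refine ⟨C, inferInstance, i2, hC, π, hπ, fun a ha q => ?_⟩
  have hmem : algebraMap A C a ∈ Submonoid.closure {y : C | y ∈ t} := by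
    induction ha using Submonoid.closure_induction with
    | mem x hx => exact hgen x hx
    | one => rw [map_one]; exact Submonoid.one_mem _
    | mul x y _ _ hx hy => rw [map_mul]; exact Submonoid.mul_mem _ hx hy
  obtain ⟨v, e, he⟩ := hfac q _ hmem
  exact ⟨v, e, (IsScalarTower.algebraMap_apply A C (Loc q) a).trans he⟩

/-- The residue entering a local factor. -/
noncomputable def g {S : Type u} [CommRing S] [IsLocalRing S] (u v : Sˣ) (e f : ℕ) : ResidueField S :=
  (-1 : ResidueField S) ^ (e * f) * residue S (u : S) ^ f * (residue S (v : S) ^ e)⁻¹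

theorem residue_unit_ne_zero {S : Type u} [CommRing S] [IsLocalRing S] (v : Sˣ) : residue S (v : S) ≠ 0 :=
  fun h => (residue_eq_zero_iff _).1 h v.isUnit

theorem g_ne_zero {S : Type u} [CommRing S] [IsLocalRing S] (u v : Sˣ) (e f : ℕ) : g u v e f ≠ 0 := by
  simp [g, residue_unit_ne_zero]

/-- The symbol computed on a frame. -/
theorem symbol_eq (hA : ringKrullDim A ≤ 1) {C : Type u} [CommRing C] [Algebra A C] [Module.Finite A C]
    [Fintype (MaximalSpectrum C)] (hC : Birat A C)
    (π : (q : MaximalSpectrum C) → Loc q) (hπ : ∀ q, π q ∈ nonZeroDivisors (Loc q))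
    {a b : A} (ha : a ∈ nonZeroDivisors A) (hb : b ∈ nonZeroDivisors A)
    (u v : (q : MaximalSpectrum C) → (Loc q)ˣ) (e f : MaximalSpectrum C → ℕ)
    (hu : ∀ q, algebraMap A (Loc q) a = (u q : Loc q) * π q ^ e q)
    (hv : ∀ q, algebraMap A (Loc q) b = (v q : Loc q) * π q ^ f q) :
    tameSymbol A a b = ∏ q : MaximalSpectrum C,
      Algebra.norm (ResidueField A) (g (u q) (v q) (e q) (f q)) ^ locOrd q (π q) := by
  let D : TameData A a b :=
    { B := C
      isFinExt := isFinExt_of_birat hA hC
      isLocalHom := fun q => isLocalHom_atPrime q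
      π := π
      π_mem := hπ
      u₁ := u
      u₂ := v
      e₁ := e
      e₂ := f
      fac₁ := hu
      fac₂ := hv }
  rw [tameSymbol_eq hA ha hb D]
  rw [TameData.value]
  exact finprod_eq_prod_of_fintype _

theorem sum_deg (hA : ringKrullDim A ≤ 1) {C : Type u} [CommRing C] [Algebra A C] [Module.Finite A C]
    [Fintype (MaximalSpectrum C)] (hC : Birat A C) (π : (q : MaximalSpectrum C) → Loc q)
    (hπ : ∀ q, π q ∈ nonZeroDivisors (Loc q)) {b : A} (hb : b ∈ nonZeroDivisors A)
    (v : (q : MaximalSpectrum C) → (Loc q)ˣ) (f : MaximalSpectrum C → ℕ)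
    (hv : ∀ q, algebraMap A (Loc q) b = (v q : Loc q) * π q ^ f q) :
    ∑ q : MaximalSpectrum C, deg A q * (f q * locOrd q (π q)) =
      (Module.length A (A ⧸ Ideal.span {b})).toNat := by
  rw [show Module.length A (A ⧸ Ideal.span {b}) = len A b from rfl, ← len_algebraMap hA Birat.refl hC hb,
    len_eq_sum (A := A) hA (hC.map_nzd hb)]
  refine Finset.sum_congr rfl fun q _ => ?_
  rw [← locOrd_mul_pow (A := A) hA q (v q) (hπ q), ← hv q, IsScalarTower.algebraMap_apply A C (Loc q)]

theorem norm_base {C : Type u} [CommRing C] [Algebra A C] [Module.Finite A C] (q : MaximalSpectrum C)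
    (x : ResidueField A) : Algebra.norm (ResidueField A) (algebraMap (ResidueField A) (ResidueField (Loc q)) x) =
      x ^ deg A q := Algebra.norm_algebraMap x

theorem sign_congr {R : Type*} [Ring R] {m n : ℕ} (h : m % 2 = n % 2) : (-1 : R) ^ m = (-1 : R) ^ n := by
  rw [neg_one_pow_eq_pow_mod_two, h, ← neg_one_pow_eq_pow_mod_two]

theorem tameSymbol_ne_zero (hA : ringKrullDim A ≤ 1) {a b : A} (ha : a ∈ nonZeroDivisors A)
    (hb : b ∈ nonZeroDivisors A) : tameSymbol A a b ≠ 0 := by
  obtain ⟨C, _, _, hC, π, hπ, hfac⟩ := exists_frame hA {a, b} (by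
    simp only [Multiset.insert_eq_cons, Multiset.mem_cons, Multiset.mem_singleton]
    rintro x (rfl | rfl) <;> assumption)
  haveI := hC.fin
  haveI := finite_maximalSpectrum A C
  letI := Fintype.ofFinite (MaximalSpectrum C)
  choose u e hu using hfac a (Submonoid.subset_closure (by simp))
  choose v f hv using hfac b (Submonoid.subset_closure (by simp))
  rw [symbol_eq hA hC π hπ ha hb u v e f hu hv, Finset.prod_ne_zero_iff]
  intro q _
  haveI := (length_quot_max (A := A) q).1
  exact pow_ne_zero _ (Algebra.norm_ne_zero_iff.2 (g_ne_zero _ _ _ _))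

theorem tameSymbol_mul (hA : ringKrullDim A ≤ 1) {a a' b : A} (ha : a ∈ nonZeroDivisors A)
    (ha' : a' ∈ nonZeroDivisors A) (hb : b ∈ nonZeroDivisors A) :
    tameSymbol A (a * a') b = tameSymbol A a b * tameSymbol A a' b ∧
      tameSymbol A b (a * a') = tameSymbol A b a * tameSymbol A b a' := by
  obtain ⟨C, _, _, hC, π, hπ, hfac⟩ := exists_frame hA {a, a', b} (by
    simp only [Multiset.insert_eq_cons, Multiset.mem_cons, Multiset.mem_singleton]
    rintro x (rfl | rfl | rfl) <;> assumption)
  haveI := hC.fin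
  haveI := finite_maximalSpectrum A C
  letI := Fintype.ofFinite (MaximalSpectrum C)
  choose u e hu using hfac a (Submonoid.subset_closure (by simp))
  choose u' e' hu' using hfac a' (Submonoid.subset_closure (by simp))
  choose v f hv using hfac b (Submonoid.subset_closure (by simp))
  have huu : ∀ q, algebraMap A (Loc q) (a * a') = ((u q * u' q : (Loc q)ˣ) : Loc q) * π q ^ (e q + e' q) := fun q => by
    rw [map_mul, hu, hu', Units.val_mul, pow_add]; ring
  have haa := Submonoid.mul_mem _ ha ha'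
  rw [symbol_eq hA hC π hπ haa hb _ v _ f huu hv, symbol_eq hA hC π hπ hb haa v _ f _ hv huu,
    symbol_eq hA hC π hπ ha hb u v e f hu hv, symbol_eq hA hC π hπ ha' hb u' v e' f hu' hv,
    symbol_eq hA hC π hπ hb ha v u f e hv hu, symbol_eq hA hC π hπ hb ha' v u' f e' hv hu',
    ← Finset.prod_mul_distrib, ← Finset.prod_mul_distrib]
  constructor <;>
  · refine Finset.prod_congr rfl fun q _ => ?_
    rw [← mul_pow, ← map_mul]
    congr 2
    simp only [g, Units.val_mul, map_mul, mul_pow, add_mul, mul_add, pow_add, mul_inv]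
    ring

theorem tameSymbol_self (hA : ringKrullDim A ≤ 1) {b : A} (hb : b ∈ nonZeroDivisors A) :
    tameSymbol A b b = (-1) ^ (Module.length A (A ⧸ Ideal.span {b})).toNat := by
  obtain ⟨C, _, _, hC, π, hπ, hfac⟩ := exists_frame hA {b} (by
    simp only [Multiset.mem_singleton]; rintro x rfl; assumption)
  haveI := hC.fin
  haveI := finite_maximalSpectrum A C
  letI := Fintype.ofFinite (MaximalSpectrum C)
  choose v f hv using hfac b (Submonoid.subset_closure (by simp))
  rw [symbol_eq hA hC π hπ hb hb v v f f hv hv, ← sum_deg hA hC π hπ hb v f hv, ← Finset.prod_pow_eq_pow_sum]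
  refine Finset.prod_congr rfl fun q _ => ?_
  have h1 : g (v q) (v q) (f q) (f q) =
      algebraMap (ResidueField A) (ResidueField (Loc q)) ((-1) ^ (f q * f q)) := by
    rw [g, mul_assoc, mul_inv_cancel₀ (pow_ne_zero _ (residue_unit_ne_zero _)), mul_one, map_pow, map_neg, map_one]
  rw [h1, norm_base, ← pow_mul, ← pow_mul]
  refine sign_congr ?_
  have hz : ∀ x : ZMod 2, x * x = x := by decide
  rw [← ZMod.natCast_eq_natCast_iff']
  push_cast
  simp only [hz]
  ring

theorem tameSymbol_unit (hA : ringKrullDim A ≤ 1) (c : Aˣ) {b : A} (hb : b ∈ nonZeroDivisors A) :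
    tameSymbol A (c : A) b = residue A (c : A) ^ (Module.length A (A ⧸ Ideal.span {b})).toNat := by
  obtain ⟨C, _, _, hC, π, hπ, hfac⟩ := exists_frame hA {b} (by
    simp only [Multiset.mem_singleton]; rintro x rfl; assumption)
  haveI := hC.fin
  haveI := finite_maximalSpectrum A C
  letI := Fintype.ofFinite (MaximalSpectrum C)
  choose v f hv using hfac b (Submonoid.subset_closure (by simp))
  have hu : ∀ q, algebraMap A (Loc q) (c : A) =
      ((Units.map (algebraMap A (Loc q)).toMonoidHom c : (Loc q)ˣ) : Loc q) * π q ^ 0 := fun q => by simp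
  rw [symbol_eq hA hC π hπ c.isUnit.mem_nonZeroDivisors hb (fun q => Units.map (algebraMap A (Loc q)).toMonoidHom c)
    v (fun _ => 0) f hu hv, ← sum_deg hA hC π hπ hb v f hv, ← Finset.prod_pow_eq_pow_sum]
  refine Finset.prod_congr rfl fun q _ => ?_
  have h1 : g (Units.map (algebraMap A (Loc q)).toMonoidHom c) (v q) 0 (f q) =
      algebraMap (ResidueField A) (ResidueField (Loc q)) (residue A (c : A) ^ f q) := by
    simp only [g, zero_mul, pow_zero, one_mul, inv_one, mul_one, map_pow]
    rfl
  rw [h1, norm_base, ← pow_mul, ← pow_mul]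
  ring_nf

/-- Equal monomials in a nonunit nonzerodivisor. -/
theorem monomial_inj {S : Type u} [CommRing S] {π : S} (hπ : π ∈ nonZeroDivisors S) (hn : ¬ IsUnit π) {u w : S}
    (hu : IsUnit u) (hw : IsUnit w) {n m : ℕ} (h : u * π ^ n = w * π ^ m) : n = m ∧ u = w := by
  wlog hle : n ≤ m generalizing u w n m
  · obtain ⟨h1, h2⟩ := this hw hu h.symm (le_of_not_ge hle)
    exact ⟨h1.symm, h2.symm⟩
  obtain ⟨k, rfl⟩ := Nat.exists_eq_add_of_le hle
  rw [show w * π ^ (n + k) = (w * π ^ k) * π ^ n by ring] at h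
  have h' := (mul_cancel_right_mem_nonZeroDivisors (pow_mem hπ n)).1 h
  rcases Nat.eq_zero_or_pos k with rfl | hk
  · simpa using h'
  · rw [h', IsUnit.mul_iff, isUnit_pow_iff hk.ne'] at hu
    exact absurd hu.2 hn

theorem lt_identity {K : Type*} [Field K] {U V : K} (hU : U ≠ 0) (hV : V ≠ 0) (e f : ℕ) :
    (-1) ^ (e * e) * U ^ e * ((-U) ^ e)⁻¹ * ((-1) ^ (f * f) * V ^ f * (V ^ f)⁻¹) =
      (-1) ^ (f * e) * V ^ e * ((-U) ^ f)⁻¹ * ((-1) ^ (e * f) * U ^ f * (V ^ e)⁻¹) := by
  have key : ∀ n : ℕ, ((-U) ^ n)⁻¹ = (-1) ^ n * (U ^ n)⁻¹ := fun n => by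
    rw [neg_pow U n, mul_inv, ← inv_pow (-1 : K), inv_neg_one]
  rw [key, key]
  calc _ = (-1 : K) ^ (e * e + e + f * f) := by
        rw [pow_add, pow_add]; field_simp
    _ = (-1) ^ (f * e + f + e * f) := by
        refine sign_congr ?_
        have hz : ∀ x y : ZMod 2, x * x + x + y * y = y * x + y + x * y := by decide
        rw [← ZMod.natCast_eq_natCast_iff']
        push_cast
        exact hz _ _
    _ = _ := by
        rw [pow_add, pow_add]; field_simp

theorem steinberg_local {S : Type u} [CommRing S] [IsLocalRing S] {π : S} (hπ : π ∈ nonZeroDivisors S)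
    (hn : ¬ IsUnit π) (u v w : Sˣ) (e f k : ℕ) (h : (v : S) * π ^ f - (u : S) * π ^ e = (w : S) * π ^ k) :
    g u w e k * g v v f f = g v w f k * g u v e f := by
  have hu := residue_unit_ne_zero u
  have hv := residue_unit_ne_zero v
  have hw := residue_unit_ne_zero w
  have hπ0 : residue S π = 0 := (residue_eq_zero_iff _).2 ((mem_maximalIdeal _).2 hn)
  have hpow : ∀ d : ℕ, π ^ (d + 1) ∈ maximalIdeal S := fun d =>
    Ideal.pow_mem_of_mem _ ((mem_maximalIdeal _).2 hn) _ (Nat.succ_pos d)
  have hred : ∀ (x : S), x ∈ maximalIdeal S → ∀ y : Sˣ, IsUnit ((y : S) + x) := fun x hx y => by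
    by_contra hh
    have := Ideal.sub_mem _ ((mem_maximalIdeal _).2 hh) hx
    rw [add_sub_cancel_right] at this
    exact (mem_maximalIdeal _).1 this y.isUnit
  simp only [g]
  rcases lt_trichotomy e f with hlt | rfl | hlt
  · obtain ⟨d, rfl⟩ := Nat.exists_eq_add_of_lt hlt
    have hU := hred _ (Ideal.mul_mem_left _ (v : S) (hpow d)) (-u)
    have h' : (((-u : Sˣ) : S) + v * π ^ (d + 1)) * π ^ e = (w : S) * π ^ k := by
      rw [← h, Units.val_neg]; ring
    obtain ⟨rfl, hwe⟩ := monomial_inj hπ hn hU w.isUnit h'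
    have hwr : residue S (w : S) = - residue S (u : S) := by rw [← hwe]; simp [hπ0]
    rw [hwr]
    exact lt_identity hu hv e (e + d + 1)
  · by_cases hd : IsUnit ((v : S) - u)
    · have h' : ((v : S) - u) * π ^ e = (w : S) * π ^ k := by rw [← h]; ring
      obtain ⟨rfl, -⟩ := monomial_inj hπ hn hd w.isUnit h'
      field_simp
    · have : residue S (v : S) = residue S (u : S) :=
        sub_eq_zero.1 ((map_sub _ _ _).symm.trans ((residue_eq_zero_iff _).2 ((mem_maximalIdeal _).2 hd)))
      rw [this]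
  · obtain ⟨d, rfl⟩ := Nat.exists_eq_add_of_lt hlt
    have hU := hred _ (Ideal.mul_mem_left _ (-(u : S)) (hpow d)) v
    have h' : ((v : S) + -(u : S) * π ^ (d + 1)) * π ^ f = (w : S) * π ^ k := by
      rw [← h]; ring
    obtain ⟨rfl, hwe⟩ := monomial_inj hπ hn hU w.isUnit h'
    have hwr : residue S (w : S) = residue S (v : S) := by rw [← hwe]; simp [hπ0]
    rw [hwr]
    field_simp

theorem tameSymbol_steinberg (hA : ringKrullDim A ≤ 1) {a b : A} (ha : a ∈ nonZeroDivisors A)
    (hb : b ∈ nonZeroDivisors A) (hba : b - a ∈ nonZeroDivisors A) :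
    tameSymbol A a (b - a) * tameSymbol A b b = tameSymbol A b (b - a) * tameSymbol A a b := by
  obtain ⟨C, _, _, hC, π, hπ, hfac⟩ := exists_frame hA {a, b, b - a} (by
    simp only [Multiset.insert_eq_cons, Multiset.mem_cons, Multiset.mem_singleton]
    rintro x (rfl | rfl | rfl) <;> assumption)
  haveI := hC.fin
  haveI := finite_maximalSpectrum A C
  letI := Fintype.ofFinite (MaximalSpectrum C)
  choose u e hu using hfac a (Submonoid.subset_closure (by simp))
  choose v f hv using hfac b (Submonoid.subset_closure (by simp))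
  choose w k hw using hfac (b - a) (Submonoid.subset_closure (by simp))
  rw [symbol_eq hA hC π hπ ha hba u w e k hu hw, symbol_eq hA hC π hπ hb hb v v f f hv hv,
    symbol_eq hA hC π hπ hb hba v w f k hv hw, symbol_eq hA hC π hπ ha hb u v e f hu hv,
    ← Finset.prod_mul_distrib, ← Finset.prod_mul_distrib]
  refine Finset.prod_congr rfl fun q _ => ?_
  by_cases hn : IsUnit (π q)
  · simp [locOrd_isUnit q hn]
  rw [← mul_pow, ← mul_pow, ← map_mul, ← map_mul,
    steinberg_local (hπ q) hn (u q) (v q) (w q) (e q) (f q) (k q) (by rw [← hv, ← hu, ← map_sub, hw])]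

end Groth.Agent.Tame26
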