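import Groth.Agent.Lib.Tame26.LocFrame
import Groth.Agent.Lib.Herbrand26.DimOne

/-! # Lengths over the base of multiplication on a module over a finite extension -/

set_option autoImplicit false
universe u

open IsLocalRing CycAlg
open scoped Pointwise

namespace Groth.Agent.Tame26

variable {A : Type u} [CommRing A] [IsLocalRing A] [IsNoetherianRing A] {C : Type u} [CommRing C] [Algebra A C]
  [Module.Finite A C]

omit [IsNoetherianRing A] in
theorem length_ne_top_of_isFiniteLength {M : Type u} [AddCommGroup M] [Module C M] (hM : IsFiniteLength C M) :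
    ∀ [Module A M] [IsScalarTower A C M], Module.length A M ≠ ⊤ := by
  induction hM with
  | @of_subsingleton M _ _ _ => intro _ _; rw [Module.length_eq_zero]; exact ENat.zero_ne_top
  | @of_simple_quotient M _ _ N hs _ ih =>
    intro _ _
    obtain ⟨J, hJ, ⟨e⟩⟩ := isSimpleModule_iff_quot_maximal.1 hs
    rw [Module.length_eq_add_of_exact (N.subtype.restrictScalars A) (N.mkQ.restrictScalars A)
        (Submodule.subtype_injective _) (Submodule.mkQ_surjective _) (LinearMap.exact_subtype_mkQ N),
      (e.restrictScalars A).length_eq, (length_quot_max (A := A) (⟨J, hJ⟩ : MaximalSpectrum C)).2]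
    exact WithTop.add_ne_top.2 ⟨ih, ENat.natCast_ne_top _⟩

/-- Length of cokernel minus length of kernel. -/
noncomputable def echar (A : Type u) [CommRing A] {C : Type u} [CommRing C] [Algebra A C] (N : Type u)
    [AddCommGroup N] [Module C N] [Module A N] [IsScalarTower A C N] (x : C) : ℤ :=
  ((Module.length A (N ⧸ x • (⊤ : Submodule C N))).toNat : ℤ) -
    ((Module.length A (LinearMap.ker (LinearMap.lsmul C N x))).toNat : ℤ)

/-- The length formula. -/
theorem echar_eq (M : Type u) [AddCommGroup M] [Module C M] [Module.Finite C M] (x : C)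
    (S : Finset (PrimeSpectrum C)) (hS : ∀ p, p ∈ S ↔ p ∈ Module.support C M ∧ ¬ p.asIdeal.IsMaximal)
    (hx : ∀ p ∈ S, x ∉ p.asIdeal) (hmin : ∀ p ∈ S, ∀ q ∈ Module.support C M, q ≤ p → q = p) :
    ∀ [Module A M] [IsScalarTower A C M], echar A (C := C) M x =
      ∑ p ∈ S, ((Module.length A (C ⧸ (p.asIdeal ⊔ Ideal.span {x}))).toNat : ℤ) * ((Herbrand26.locLen p M).toNat : ℤ) ∧
      ∀ p ∈ S, Herbrand26.locLen p M ≠ ⊤ := by
  haveI : IsNoetherianRing C := IsNoetherianRing.of_finite A C
  have hfinA : ∀ (N : Type u) [AddCommGroup N] [Module C N] [Module.Finite C N] [Module A N] [IsScalarTower A C N],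
      Module.support C N ⊆ Module.support C M →
      Module.length A (N ⧸ x • (⊤ : Submodule C N)) ≠ ⊤ ∧
        Module.length A (LinearMap.ker (LinearMap.lsmul C N x)) ≠ ⊤ := by
    intro N _ _ _ _ _ hN
    haveI : IsNoetherian C N := isNoetherian_of_isNoetherianRing_of_finite C N
    have key : ∀ (Q : Type u) [AddCommGroup Q] [Module C Q] [Module.Finite C Q],
        Module.support C Q ⊆ Module.support C N → x ∈ Module.annihilator C Q → IsFiniteLength C Q := by
      intro Q _ _ _ hs hann
      refine HilbSam.isFiniteLength_of_support fun p hp => by_contra fun hne => ?_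
      refine hx p ((hS p).2 ⟨hN (hs hp), hne⟩) ?_
      rw [Module.support_eq_zeroLocus, PrimeSpectrum.mem_zeroLocus] at hp
      exact hp hann
    refine ⟨length_ne_top_of_isFiniteLength (key _ (Module.support_subset_of_surjective _ (Submodule.mkQ_surjective _)) ?_),
      length_ne_top_of_isFiniteLength (key _ (Module.support_subset_of_injective _ (Submodule.subtype_injective _)) ?_)⟩
    · rw [Module.mem_annihilator]
      intro z
      obtain ⟨y, rfl⟩ := Submodule.Quotient.mk_surjective _ z
      rw [← Submodule.Quotient.mk_smul, Submodule.Quotient.mk_eq_zero]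
      exact Submodule.smul_mem_pointwise_smul y x ⊤ trivial
    · rw [Module.mem_annihilator]
      rintro ⟨z, hz⟩
      exact Subtype.ext hz
  suffices H : ∀ (N : Type u) [AddCommGroup N] [Module C N] [Module.Finite C N],
      Module.support C N ⊆ Module.support C M → ∀ [Module A N] [IsScalarTower A C N],
      echar A (C := C) N x = ∑ p ∈ S, ((Module.length A (C ⧸ (p.asIdeal ⊔ Ideal.span {x}))).toNat : ℤ) *
          ((Herbrand26.locLen p N).toNat : ℤ) ∧ ∀ p ∈ S, Herbrand26.locLen p N ≠ ⊤ from
    by intro _ _; exact H M subset_rfl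
  intro N _ _ i
  induction i using IsNoetherianRing.induction_on_isQuotientEquivQuotientPrime C with
  | subsingleton N =>
    intro _ _ _
    have h0 : ∀ p : PrimeSpectrum C, Herbrand26.locLen p N = 0 := fun p =>
      Herbrand26.locLen_eq_zero (Module.notMem_support_iff.2 inferInstance)
    refine ⟨?_, fun p _ => by rw [h0]; exact ENat.zero_ne_top⟩
    rw [echar, Module.length_eq_zero, Module.length_eq_zero]
    simp [h0]
  | quotient N q e =>
    intro hN _ _
    have hsup : ∀ p, p ∈ Module.support C N ↔ q.asIdeal ≤ p.asIdeal := fun p => by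
      rw [LinearEquiv.support_eq e, Module.support_eq_zeroLocus, Ideal.annihilator_quotient, PrimeSpectrum.mem_zeroLocus]
      rfl
    have hqM : q ∈ Module.support C M := hN ((hsup q).2 le_rfl)
    have hloc : ∀ p ∈ S, p ≠ q → Herbrand26.locLen p N = 0 := fun p hp hpq => Herbrand26.locLen_eq_zero fun h =>
      hpq (hmin p hp q hqM ((PrimeSpectrum.asIdeal_le_asIdeal _ _).1 ((hsup p).1 h))).symm
    have hlocq : ∀ p, p = q → Herbrand26.locLen p N = 1 := by
      rintro p rfl
      rw [← Herbrand26.locLen_quotient_self p]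
      have hex : Function.Exact (0 : PUnit.{u+1} →ₗ[C] N) e.toLinearMap := fun n =>
        ⟨fun h => ⟨0, (e.map_eq_zero_iff.1 h).symm⟩, fun ⟨w, h⟩ => by subst h; simp⟩
      exact (Herbrand26.locLen_add p (0 : PUnit.{u+1} →ₗ[C] N) e.toLinearMap (fun a b _ => Subsingleton.elim a b)
        e.surjective hex).trans (by
          rw [Herbrand26.locLen_eq_zero (N := PUnit.{u+1}) (Module.notMem_support_iff.2 inferInstance), zero_add])
    refine ⟨?_, fun p hp => ?_⟩
    swap
    · by_cases h : p = q
      · rw [hlocq p h]; exact ENat.one_ne_top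
      · rw [hloc p hp h]; exact ENat.zero_ne_top
    have hlenEq : Module.length A (N ⧸ x • (⊤ : Submodule C N)) =
        Module.length A (C ⧸ (q.asIdeal ⊔ Ideal.span {x})) := by
      let g : N →ₗ[C] C ⧸ (q.asIdeal ⊔ Ideal.span {x}) :=
        (Submodule.factor (le_sup_left : q.asIdeal ≤ q.asIdeal ⊔ Ideal.span {x})).comp e.toLinearMap
      have hg : Function.Surjective g :=
        (Submodule.factor_surjective (le_sup_left : q.asIdeal ≤ q.asIdeal ⊔ Ideal.span {x})).comp e.surjective
      have hk : LinearMap.ker g = x • (⊤ : Submodule C N) := by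
        ext n
        obtain ⟨r, hr⟩ := Ideal.Quotient.mk_surjective (e n)
        have hgn : g n = Ideal.Quotient.mk _ r := by
          show Submodule.factor (le_sup_left : q.asIdeal ≤ q.asIdeal ⊔ Ideal.span {x}) (e n) = _
          rw [← hr]; rfl
        rw [LinearMap.mem_ker, hgn, Ideal.Quotient.eq_zero_iff_mem, Submodule.mem_smul_pointwise_iff_exists]
        constructor
        · intro h
          obtain ⟨a, ha, b, hb, hab⟩ := Submodule.mem_sup.1 h
          obtain ⟨c, rfl⟩ := Ideal.mem_span_singleton'.1 hb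
          refine ⟨e.symm (Ideal.Quotient.mk _ c), trivial, e.injective ?_⟩
          rw [map_smul, e.apply_symm_apply, ← hr, ← hab, map_add, Ideal.Quotient.eq_zero_iff_mem.2 ha, zero_add,
            Algebra.smul_def, Ideal.Quotient.algebraMap_eq, ← map_mul, mul_comm]
        · rintro ⟨m, -, rfl⟩
          obtain ⟨c, hc⟩ := Ideal.Quotient.mk_surjective (e m)
          rw [map_smul, ← hc, Algebra.smul_def, Ideal.Quotient.algebraMap_eq, ← map_mul, Ideal.Quotient.eq] at hr
          have : r = (r - x * c) + x * c := by ring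
          rw [this]
          exact Submodule.add_mem _ (Ideal.mem_sup_left hr)
            (Ideal.mem_sup_right (Ideal.mul_mem_right _ _ (Ideal.subset_span rfl)))
      rw [← hk]
      exact ((g.quotKerEquivOfSurjective hg).restrictScalars A).length_eq
    have hker_top : x ∈ q.asIdeal → LinearMap.ker (LinearMap.lsmul C N x) = ⊤ := fun h => by
      rw [eq_top_iff]; intro n _
      rw [LinearMap.mem_ker, LinearMap.lsmul_apply]
      apply e.injective
      obtain ⟨r, hr⟩ := Ideal.Quotient.mk_surjective (e n)
      rw [map_smul, map_zero, ← hr, Algebra.smul_def, Ideal.Quotient.algebraMap_eq, ← map_mul,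
        Ideal.Quotient.eq_zero_iff_mem]
      exact Ideal.mul_mem_right _ _ h
    have hker_bot : x ∉ q.asIdeal → LinearMap.ker (LinearMap.lsmul C N x) = ⊥ := fun h => by
      rw [eq_bot_iff]; intro n hn
      rw [LinearMap.mem_ker, LinearMap.lsmul_apply] at hn
      apply e.injective
      obtain ⟨r, hr⟩ := Ideal.Quotient.mk_surjective (e n)
      have := congrArg e hn
      rw [map_smul, map_zero, ← hr, Algebra.smul_def, Ideal.Quotient.algebraMap_eq, ← map_mul,
        Ideal.Quotient.eq_zero_iff_mem] at this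
      rw [map_zero, ← hr, Ideal.Quotient.eq_zero_iff_mem]
      exact (q.2.mem_or_mem this).resolve_left h
    rw [echar, hlenEq]
    by_cases hq : q.asIdeal.IsMaximal
    · rw [Finset.sum_eq_zero (fun p hp => by
        rw [hloc p hp fun h => ((hS p).1 hp).2 (h ▸ hq)]; simp)]
      by_cases hxq : x ∈ q.asIdeal
      · rw [hker_top hxq, ((Submodule.topEquiv : (⊤ : Submodule C N) ≃ₗ[C] N).restrictScalars A).length_eq,
          sup_eq_left.2 ((Ideal.span_singleton_le_iff_mem _).2 hxq), (e.restrictScalars A).length_eq, sub_self]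
      · rw [hker_bot hxq, Module.length_eq_zero (M := (⊥ : Submodule C N)),
          show q.asIdeal ⊔ Ideal.span {x} = ⊤ from hq.out.2 _ (lt_of_le_of_ne le_sup_left fun h =>
            hxq (h ▸ Ideal.mem_sup_right (Ideal.subset_span rfl)))]
        haveI : Subsingleton (C ⧸ (⊤ : Ideal C)) := Ideal.Quotient.subsingleton_iff.2 rfl
        rw [Module.length_eq_zero]
        simp
    · have hqS : q ∈ S := (hS q).2 ⟨hqM, hq⟩
      rw [Finset.sum_eq_single q (fun p hp hpq => by rw [hloc p hp hpq]; simp) (fun h => absurd hqS h),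
        hker_bot (hx q hqS), Module.length_eq_zero (M := (⊥ : Submodule C N)), hlocq q rfl]
      simp
  | exact N₁ N₂ N₃ f g hf hg hfg ih1 ih3 =>
    intro hN _ _
    letI : Module A N₁ := Module.compHom N₁ (algebraMap A C)
    haveI : IsScalarTower A C N₁ := IsScalarTower.of_algebraMap_smul fun _ _ => rfl
    letI : Module A N₃ := Module.compHom N₃ (algebraMap A C)
    haveI : IsScalarTower A C N₃ := IsScalarTower.of_algebraMap_smul fun _ _ => rfl
    have hsup := Module.support_of_exact hfg hf hg
    have hN1 : Module.support C N₁ ⊆ Module.support C M := fun p hp => hN (hsup ▸ Or.inl hp)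
    have hN3 : Module.support C N₃ ⊆ Module.support C M := fun p hp => hN (hsup ▸ Or.inr hp)
    obtain ⟨h1, l1⟩ := ih1 hN1
    obtain ⟨h3, l3⟩ := ih3 hN3
    obtain ⟨a1t, b1t⟩ := hfinA N₁ hN1
    obtain ⟨a2t, b2t⟩ := hfinA N₂ hN
    obtain ⟨a3t, b3t⟩ := hfinA N₃ hN3
    refine ⟨?_, fun p hp => by rw [Herbrand26.locLen_add p f g hf hg hfg]; exact WithTop.add_ne_top.2 ⟨l1 p hp, l3 p hp⟩⟩
    have hsum : ∑ p ∈ S, ((Module.length A (C ⧸ (p.asIdeal ⊔ Ideal.span {x}))).toNat : ℤ) *
        ((Herbrand26.locLen p N₂).toNat : ℤ) = echar A N₁ x + echar A N₃ x := by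
      rw [h1, h3, ← Finset.sum_add_distrib]
      refine Finset.sum_congr rfl fun p hp => ?_
      rw [Herbrand26.locLen_add p f g hf hg hfg, ENat.toNat_add (l1 p hp) (l3 p hp)]
      push_cast
      ring
    rw [hsum]
    let φ : ∀ (N : Type u) [AddCommGroup N] [Module C N] [Module A N] [IsScalarTower A C N], N →ₗ[A] N :=
      fun N _ _ _ _ => (LinearMap.lsmul C N x).restrictScalars A
    have ek : ∀ (N : Type u) [AddCommGroup N] [Module C N] [Module A N] [IsScalarTower A C N],
        Module.length A (perH (φ N) 0) = Module.length A (LinearMap.ker (LinearMap.lsmul C N x)) := by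
      intro N _ _ _ _
      rw [LinearEquiv.length_eq (Submodule.quotEquivOfEqBot _ (by
        rw [LinearMap.range_zero, Submodule.submoduleOf, Submodule.comap_bot, Submodule.ker_subtype]))]
      let E : LinearMap.ker (φ N) ≃ₗ[A] LinearMap.ker (LinearMap.lsmul C N x) :=
        { toFun := fun z => ⟨z.1, z.2⟩, invFun := fun z => ⟨z.1, z.2⟩, map_add' := fun _ _ => rfl,
          map_smul' := fun _ _ => rfl, left_inv := fun _ => rfl, right_inv := fun _ => rfl }
      exact E.length_eq
    have ea : ∀ (N : Type u) [AddCommGroup N] [Module C N] [Module A N] [IsScalarTower A C N],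
        Module.length A (perH (0 : N →ₗ[A] N) (φ N)) = Module.length A (N ⧸ x • (⊤ : Submodule C N)) := by
      intro N _ _ _ _
      let h : N →ₗ[A] perH (0 : N →ₗ[A] N) (φ N) :=
        (Submodule.mkQ _).comp (LinearMap.codRestrict _ LinearMap.id fun n => LinearMap.zero_apply n)
      have hs : Function.Surjective h := fun z => by
        obtain ⟨y, hy, rfl⟩ := Herbrand26.mk_surjective z
        exact ⟨y, rfl⟩
      have hk : LinearMap.ker h = (x • (⊤ : Submodule C N)).restrictScalars A := by
        ext n
        rw [LinearMap.mem_ker, Submodule.restrictScalars_mem]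
        show Herbrand26.mk (0 : N →ₗ[A] N) (φ N) n rfl = 0 ↔ _
        rw [Herbrand26.mk_eq_zero, Submodule.mem_smul_pointwise_iff_exists]
        exact ⟨fun ⟨y, hy⟩ => ⟨y, trivial, hy⟩, fun ⟨y, _, hy⟩ => ⟨y, hy⟩⟩
      rw [← ((h.quotKerEquivOfSurjective hs)).length_eq, (Submodule.quotEquivOfEq _ _ hk).length_eq]
      exact (Submodule.Quotient.restrictScalarsEquiv A _).length_eq
    have hF : ∀ (N : Type u) [AddCommGroup N] [Module C N] [Module A N] [IsScalarTower A C N],
        Module.length A (N ⧸ x • (⊤ : Submodule C N)) ≠ ⊤ →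
        Module.length A (LinearMap.ker (LinearMap.lsmul C N x)) ≠ ⊤ →
        FinCoh A (φ N) 0 := fun N _ _ _ _ h h' => ⟨by rw [ek]; exact h'.lt_top, by rw [ea]; exact h.lt_top⟩
    obtain ⟨-, -, -, hh⟩ := Herbrand26.shortExact (φ₁ := φ N₁) (ψ₁ := 0) (φ₂ := φ N₂) (ψ₂ := 0) (φ₃ := φ N₃) (ψ₃ := 0)
      ⟨LinearMap.comp_zero _, LinearMap.zero_comp _⟩
      (f₁ := f.restrictScalars A) (g₁ := f.restrictScalars A) (f₂ := g.restrictScalars A) (g₂ := g.restrictScalars A)
      (by ext z; simp [φ]) (by simp) (by ext z; simp [φ]) (by simp) hf hf hg hg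
      (by ext z; exact (hfg z).symm) (by ext z; exact (hfg z).symm) (Or.inl ⟨hF N₁ a1t b1t, hF N₂ a2t b2t⟩)
    unfold CycAlg.herbrand at hh
    rw [ek, ek, ek, ea, ea, ea] at hh
    simp only [echar]
    omega

end Groth.Agent.Tame26
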