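import Groth.Agent.Lib.Tame26.Laws

/-! # Tame symbols from frames on a localised finite extension -/

set_option autoImplicit false
universe u

open IsLocalRing CycAlg

namespace Groth.Agent.Tame26

theorem g_map {S T : Type u} [CommRing S] [IsLocalRing S] [CommRing T] [IsLocalRing T] (φ : S →+* T) [IsLocalHom φ]
    (u v : Sˣ) (e f : ℕ) :
    ResidueField.map φ (g u v e f) = g (Units.map φ.toMonoidHom u) (Units.map φ.toMonoidHom v) e f := by
  simp [g, ResidueField.map_residue]

theorem ord_ringEquiv {S T : Type u} [CommRing S] [CommRing T] (e : S ≃+* T) (x : S) :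
    Ring.ord T (e x) = Ring.ord S x := by
  let Q : (S ⧸ Ideal.span {x}) ≃+* (T ⧸ Ideal.span {e x}) := Ideal.quotientEquiv (Ideal.span {x}) (Ideal.span {e x}) e
    (by rw [Ideal.map_span, Set.image_singleton]; rfl)
  refine (Cyc26.length_eq_of_semilinear (R := S) (S := T) (M := S ⧸ Ideal.span {x}) (N := T ⧸ Ideal.span {e x})
    e.toRingHom e.surjective Q.toAddEquiv fun r m => ?_).symm
  obtain ⟨m, rfl⟩ := Ideal.Quotient.mk_surjective m
  show Q (Ideal.Quotient.mk _ (r * m)) = e r • Q (Ideal.Quotient.mk _ m)
  simp [Q, Algebra.smul_def]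

/-- The symbol of a local ring on which the two elements are monomials in one element. -/
theorem symbol_local {S : Type u} [CommRing S] [IsLocalRing S] [IsNoetherianRing S] (hS : ringKrullDim S ≤ 1)
    {π : S} (hπ : π ∈ nonZeroDivisors S) (u v : Sˣ) (e f : ℕ) {a b : S} (ha : a = (u : S) * π ^ e)
    (hb : b = (v : S) * π ^ f) : tameSymbol S a b = g u v e f ^ (Ring.ord S π).toNat := by
  haveI := finite_maximalSpectrum S S
  letI := Fintype.ofFinite (MaximalSpectrum S)
  have ha' : a ∈ nonZeroDivisors S := ha ▸ Submonoid.mul_mem _ u.isUnit.mem_nonZeroDivisors (pow_mem hπ e)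
  have hb' : b ∈ nonZeroDivisors S := hb ▸ Submonoid.mul_mem _ v.isUnit.mem_nonZeroDivisors (pow_mem hπ f)
  rw [symbol_eq hS (Birat.refl (A := S)) (fun q => algebraMap S (Loc q) π) (fun q => map_nzd_loc q hπ) ha' hb'
    (fun q => Units.map (algebraMap S (Loc q)).toMonoidHom u) (fun q => Units.map (algebraMap S (Loc q)).toMonoidHom v)
    (fun _ => e) (fun _ => f) (fun q => by rw [ha, map_mul, map_pow]; rfl) (fun q => by rw [hb, map_mul, map_pow]; rfl),
    show (Ring.ord S π).toNat = (len S π).toNat from rfl, len_eq_sum (A := S) hS hπ, ← Finset.prod_pow_eq_pow_sum]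
  refine Finset.prod_congr rfl fun q _ => ?_
  rw [← g_map, show ResidueField.map (algebraMap S (Loc q)) (g u v e f) =
    algebraMap (ResidueField S) (ResidueField (Loc q)) (g u v e f) from rfl, norm_base, ← pow_mul]

section Frame

variable {A C : Type u} [CommRing A] [CommRing C] [Algebra A C] (q : Ideal A) [q.IsPrime]

/-- The norm between the residue fields at primes lying over one another. -/
noncomputable def resNorm (r : PrimeSpectrum C) (h : r.asIdeal.comap (algebraMap A C) = q) :
    ResidueField (Localization.AtPrime r.asIdeal) → ResidueField (Localization.AtPrime q) := fun z =>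
  haveI : IsLocalHom (Localization.localRingHom q r.asIdeal (algebraMap A C) h.symm) :=
    Localization.isLocalHom_localRingHom _ _ _ h.symm
  letI := (ResidueField.map (Localization.localRingHom q r.asIdeal (algebraMap A C) h.symm)).toAlgebra
  Algebra.norm (ResidueField (Localization.AtPrime q)) z

/-- The localised extension. -/
abbrev LocExt (C : Type u) [CommRing C] [Algebra A C] : Type u :=
  Localization (Algebra.algebraMapSubmonoid C q.primeCompl)

theorem finite_locExt [Module.Finite A C] : Module.Finite (Localization.AtPrime q) (LocExt q C) :=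
  Module.Finite.of_isLocalization A C q.primeCompl

theorem birat_loc [Module.Finite A C] (hinj : Function.Injective (algebraMap A C)) {s : A}
    (hs : algebraMap A (Localization.AtPrime q) s ∈ nonZeroDivisors (Localization.AtPrime q))
    (hsC : algebraMap A C s ∈ nonZeroDivisors C) (hsmul : ∀ c : C, ∃ a, algebraMap A C a = algebraMap A C s * c) :
    Birat (Localization.AtPrime q) (LocExt q C) := by
  have halg : ∀ a : A, algebraMap (Localization.AtPrime q) (LocExt q C) (algebraMap A _ a) =
      algebraMap C (LocExt q C) (algebraMap A C a) := fun a => by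
    rw [← IsScalarTower.algebraMap_apply A (Localization.AtPrime q) (LocExt q C), IsScalarTower.algebraMap_apply A C (LocExt q C)]
  refine ⟨?_, finite_locExt q, algebraMap A _ s, hs, ?_, fun x => ?_⟩
  · haveI : IsLocalization (Submonoid.map (algebraMap A C) q.primeCompl) (LocExt q C) :=
      (inferInstance : IsLocalization (Algebra.algebraMapSubmonoid C q.primeCompl) (LocExt q C))
    exact IsLocalization.map_injective_of_injective (M := q.primeCompl) (g := algebraMap A C)
      (S := Localization.AtPrime q) (Q := LocExt q C) hinj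
  · rw [halg]
    exact IsLocalization.nonZeroDivisors_le_comap (Algebra.algebraMapSubmonoid C q.primeCompl) _ hsC
  · obtain ⟨⟨c, ⟨_, t, ht, rfl⟩⟩, hx⟩ := IsLocalization.surj (Algebra.algebraMapSubmonoid C q.primeCompl) x
    obtain ⟨a, ha⟩ := hsmul c
    refine ⟨IsLocalization.mk' _ a (⟨t, ht⟩ : q.primeCompl), ?_⟩
    refine (IsLocalization.map_units (LocExt q C) (⟨algebraMap A C t, t, ht, rfl⟩ :
      Algebra.algebraMapSubmonoid C q.primeCompl)).mul_right_cancel ?_
    show _ * algebraMap C (LocExt q C) (algebraMap A C t) = _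
    rw [← halg t, ← map_mul, IsLocalization.mk'_spec, halg, halg, ha, map_mul, mul_assoc, halg t]
    exact congrArg _ hx.symm

variable [IsNoetherianRing A]

/-- The tame symbol at `q` is the product of the norms of the local symbols over `q`. -/
theorem symbol_frame (hdim : ringKrullDim (Localization.AtPrime q) ≤ 1) [Module.Finite A C]
    (hbir : Birat (Localization.AtPrime q) (LocExt q C))
    [Fintype {r : PrimeSpectrum C // r.asIdeal.comap (algebraMap A C) = q}]
    (a b : A) (ha : algebraMap A (Localization.AtPrime q) a ∈ nonZeroDivisors (Localization.AtPrime q))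
    (hb : algebraMap A (Localization.AtPrime q) b ∈ nonZeroDivisors (Localization.AtPrime q))
    (hfac : ∀ r : {r : PrimeSpectrum C // r.asIdeal.comap (algebraMap A C) = q},
      ∃ π ∈ nonZeroDivisors (Localization.AtPrime r.1.asIdeal), ∃ (u v : (Localization.AtPrime r.1.asIdeal)ˣ) (e f : ℕ),
        algebraMap C (Localization.AtPrime r.1.asIdeal) (algebraMap A C a) = (u : Localization.AtPrime r.1.asIdeal) * π ^ e ∧
        algebraMap C (Localization.AtPrime r.1.asIdeal) (algebraMap A C b) = (v : Localization.AtPrime r.1.asIdeal) * π ^ f) :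
    tameSymbol (Localization.AtPrime q) (algebraMap A _ a) (algebraMap A _ b) =
      ∏ r : {r : PrimeSpectrum C // r.asIdeal.comap (algebraMap A C) = q}, resNorm q r.1 r.2
        (tameSymbol (Localization.AtPrime r.1.asIdeal) (algebraMap C _ (algebraMap A C a))
          (algebraMap C _ (algebraMap A C b))) := by
  classical
  haveI := hbir.fin
  haveI := finite_maximalSpectrum (Localization.AtPrime q) (LocExt q C)
  letI := Fintype.ofFinite (MaximalSpectrum (LocExt q C))
  haveI : IsNoetherianRing C := IsNoetherianRing.of_finite A C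
  let M := Algebra.algebraMapSubmonoid C q.primeCompl
  have hq : (maximalIdeal (Localization.AtPrime q)).comap (algebraMap A (Localization.AtPrime q)) = q :=
    IsLocalization.AtPrime.comap_maximalIdeal (Localization.AtPrime q) q
  have hover : ∀ r' : MaximalSpectrum (LocExt q C),
      (r'.asIdeal.comap (algebraMap C (LocExt q C))).comap (algebraMap A C) = q := fun r' => by
    haveI := r'.isMaximal
    haveI : (r'.asIdeal.comap (algebraMap (Localization.AtPrime q) (LocExt q C))).IsMaximal :=
      Ideal.isMaximal_comap_of_isIntegral_of_isMaximal _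
    rw [Ideal.comap_comap, ← IsScalarTower.algebraMap_eq, IsScalarTower.algebraMap_eq A (Localization.AtPrime q) (LocExt q C),
      ← Ideal.comap_comap, IsLocalRing.eq_maximalIdeal ‹(r'.asIdeal.comap _).IsMaximal›, hq]
  let Φ : MaximalSpectrum (LocExt q C) → {r : PrimeSpectrum C // r.asIdeal.comap (algebraMap A C) = q} := fun r' =>
    ⟨⟨r'.asIdeal.comap (algebraMap C (LocExt q C)), Ideal.IsPrime.comap _⟩, hover r'⟩
  have hΦ : Function.Bijective Φ := by
    refine ⟨fun r s h => MaximalSpectrum.ext ?_, fun r => ?_⟩
    · rw [← IsLocalization.map_comap M (LocExt q C) r.asIdeal, ← IsLocalization.map_comap M (LocExt q C) s.asIdeal]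
      exact congrArg (Ideal.map _) (congrArg PrimeSpectrum.asIdeal (congrArg Subtype.val h))
    · have hdisj : Disjoint (M : Set C) r.1.asIdeal := by
        rw [Set.disjoint_left]
        rintro _ ⟨t, ht, rfl⟩ htr
        exact ht (by rw [← r.2]; exact htr)
      haveI hp := IsLocalization.isPrime_of_isPrime_disjoint M (LocExt q C) r.1.asIdeal r.1.2 hdisj
      have hcm : (r.1.asIdeal.map (algebraMap C (LocExt q C))).comap (algebraMap C (LocExt q C)) = r.1.asIdeal :=
        IsLocalization.under_map_of_isPrime_disjoint M (LocExt q C) r.1.2 hdisj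
      haveI : ((r.1.asIdeal.map (algebraMap C (LocExt q C))).comap (algebraMap (Localization.AtPrime q) (LocExt q C))).IsMaximal := by
        have e : ((r.1.asIdeal.map (algebraMap C (LocExt q C))).comap
            (algebraMap (Localization.AtPrime q) (LocExt q C))).comap (algebraMap A _) = q := by
          rw [Ideal.comap_comap, ← IsScalarTower.algebraMap_eq, IsScalarTower.algebraMap_eq A C (LocExt q C),
            ← Ideal.comap_comap, hcm, r.2]
        rw [← IsLocalization.map_comap q.primeCompl (Localization.AtPrime q)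
          ((r.1.asIdeal.map (algebraMap C (LocExt q C))).comap _), Ideal.under_def, e,
          Localization.AtPrime.map_eq_maximalIdeal]
        exact IsLocalRing.maximalIdeal.isMaximal _
      exact ⟨⟨r.1.asIdeal.map (algebraMap C (LocExt q C)),
          @Ideal.isMaximal_of_isIntegral_of_isMaximal_comap (Localization.AtPrime q) _ (LocExt q C) _ _ _
            (r.1.asIdeal.map (algebraMap C (LocExt q C))) hp ‹_›⟩,
        Subtype.ext (PrimeSpectrum.ext hcm)⟩
  choose π hπ u v e f hu hv using hfac
  let E : ∀ r' : MaximalSpectrum (LocExt q C), Localization.AtPrime (Φ r').1.asIdeal ≃ₐ[C] Loc r' := fun r' =>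
    IsLocalization.localizationLocalizationAtPrimeIsoLocalization M r'.asIdeal
  have hE : ∀ (r' : MaximalSpectrum (LocExt q C)) (x : A),
      algebraMap (Localization.AtPrime q) (Loc r') (algebraMap A _ x) =
        E r' (algebraMap C _ (algebraMap A C x)) := fun r' x => by
    rw [AlgEquiv.commutes, IsScalarTower.algebraMap_apply (Localization.AtPrime q) (LocExt q C) (Loc r'),
      IsScalarTower.algebraMap_apply C (LocExt q C) (Loc r'), ← IsScalarTower.algebraMap_apply A _ (LocExt q C),
      IsScalarTower.algebraMap_apply A C (LocExt q C)]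
  have hfu : ∀ r', algebraMap (Localization.AtPrime q) (Loc r') (algebraMap A _ a) =
      ((Units.map (E r').toRingEquiv.toRingHom.toMonoidHom (u (Φ r')) : (Loc r')ˣ) : Loc r') * E r' (π (Φ r')) ^ e (Φ r') :=
    fun r' => by rw [hE, hu, map_mul, map_pow]; rfl
  have hfv : ∀ r', algebraMap (Localization.AtPrime q) (Loc r') (algebraMap A _ b) =
      ((Units.map (E r').toRingEquiv.toRingHom.toMonoidHom (v (Φ r')) : (Loc r')ˣ) : Loc r') * E r' (π (Φ r')) ^ f (Φ r') :=
    fun r' => by rw [hE, hv, map_mul, map_pow]; rfl
  have hEπ : ∀ r', E r' (π (Φ r')) ∈ nonZeroDivisors (Loc r') := fun r' => by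
    refine mem_nonZeroDivisors_iff_right.2 fun x hx => (E r').symm.injective ?_
    rw [map_zero]
    refine (mem_nonZeroDivisors_iff_right.1 (hπ (Φ r'))) _ ((E r').injective ?_)
    rw [map_mul, AlgEquiv.apply_symm_apply, hx, map_zero]
  rw [symbol_eq hdim hbir (fun r' => E r' (π (Φ r'))) hEπ ha hb _ _ _ _ hfu hfv,
    ← (Equiv.ofBijective Φ hΦ).prod_comp (fun r : {r : PrimeSpectrum C // r.asIdeal.comap (algebraMap A C) = q} =>
      resNorm q r.1 r.2 (tameSymbol (Localization.AtPrime r.1.asIdeal) (algebraMap C _ (algebraMap A C a))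
          (algebraMap C _ (algebraMap A C b))))]
  refine Finset.prod_congr rfl fun r' _ => ?_
  show _ = resNorm q (Φ r').1 (Φ r').2 (tameSymbol (Localization.AtPrime (Φ r').1.asIdeal)
    (algebraMap C _ (algebraMap A C a)) (algebraMap C _ (algebraMap A C b)))
  haveI : IsNoetherianRing (Localization.AtPrime (Φ r').1.asIdeal) :=
    IsLocalization.isNoetherianRing (Φ r').1.asIdeal.primeCompl _ inferInstance
  haveI := dimLE_loc (A := Localization.AtPrime q) hdim r'
  have hdr : ringKrullDim (Localization.AtPrime (Φ r').1.asIdeal) ≤ 1 :=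
    (ringKrullDim_eq_of_ringEquiv (E r').toRingEquiv).trans_le (Ring.krullDimLE_iff.1 inferInstance)
  haveI : IsLocalHom (Localization.localRingHom q (Φ r').1.asIdeal (algebraMap A C) (Φ r').2.symm) :=
    Localization.isLocalHom_localRingHom _ _ _ (Φ r').2.symm
  letI := (ResidueField.map (Localization.localRingHom q (Φ r').1.asIdeal (algebraMap A C) (Φ r').2.symm)).toAlgebra
  haveI : IsLocalHom (E r').toRingEquiv.toRingHom := ⟨fun x hx => by simpa using hx.map (E r').symm⟩
  rw [symbol_local hdr (hπ (Φ r')) (u (Φ r')) (v (Φ r')) (e (Φ r')) (f (Φ r')) (hu (Φ r')) (hv (Φ r'))]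
  show _ = Algebra.norm (ResidueField (Localization.AtPrime q)) _
  rw [map_pow, show locOrd r' (E r' (π (Φ r'))) = (Ring.ord _ (π (Φ r'))).toNat from
    congrArg ENat.toNat (ord_ringEquiv (E r').toRingEquiv (π (Φ r')))]
  congr 1
  have hcomm : (E r').toRingEquiv.toRingHom.comp
      (Localization.localRingHom q (Φ r').1.asIdeal (algebraMap A C) (Φ r').2.symm) =
      algebraMap (Localization.AtPrime q) (Loc r') := by
    refine IsLocalization.ringHom_ext q.primeCompl (RingHom.ext fun x => ?_)
    show E r' (Localization.localRingHom q (Φ r').1.asIdeal (algebraMap A C) (Φ r').2.symm (algebraMap A _ x)) = _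
    rw [Localization.localRingHom_to_map, RingHom.comp_apply, hE]
  let Ē : ResidueField (Localization.AtPrime (Φ r').1.asIdeal) ≃ₐ[ResidueField (Localization.AtPrime q)]
      ResidueField (Loc r') := AlgEquiv.ofRingEquiv (f := ResidueField.mapEquiv (E r').toRingEquiv) (fun x => by
    obtain ⟨x, rfl⟩ := residue_surjective x
    show residue (Loc r') ((E r').toRingEquiv.toRingHom
      (Localization.localRingHom q (Φ r').1.asIdeal (algebraMap A C) (Φ r').2.symm x)) = residue (Loc r') (algebraMap _ _ x)
    exact congrArg (residue (Loc r')) (RingHom.congr_fun hcomm x))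
  rw [← Algebra.norm_eq_of_algEquiv Ē (g (u (Φ r')) (v (Φ r')) (e (Φ r')) (f (Φ r')))]
  exact congrArg _ (g_map (E r').toRingEquiv.toRingHom _ _ _ _).symm

end Frame

end Groth.Agent.Tame26
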