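import Groth.Agent.Lib.Tame26.Length

/-! # Orders of norms from the height one primes of a finite extension of a two dimensional ring -/

set_option autoImplicit false
universe u

open IsLocalRing CycAlg

namespace Groth.Agent.Tame26

/-- The symbol is antisymmetric. -/
theorem tameSymbol_antisymm {A : Type u} [CommRing A] [IsLocalRing A] [IsNoetherianRing A] (hA : ringKrullDim A ≤ 1)
    {a b : A} (ha : a ∈ nonZeroDivisors A) (hb : b ∈ nonZeroDivisors A) :
    tameSymbol A a b * tameSymbol A b a = 1 := by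
  haveI := (Birat.refl (A := A)).fin
  have hab := Submonoid.mul_mem _ ha hb
  have h := tameSymbol_self hA hab
  have hlen : (Module.length A (A ⧸ Ideal.span {a * b})).toNat =
      (Module.length A (A ⧸ Ideal.span {a})).toNat + (Module.length A (A ⧸ Ideal.span {b})).toNat := by
    rw [show Module.length A (A ⧸ Ideal.span {a * b}) = len A (a * b) from rfl, len_mul (A := A) a hb,
      ENat.toNat_add (len_ne_top hA ha) (len_ne_top hA hb)]
  rw [(tameSymbol_mul hA ha hb hab).1, (tameSymbol_mul hA ha hb ha).2, (tameSymbol_mul hA ha hb hb).2,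
    tameSymbol_self hA ha, tameSymbol_self hA hb, hlen, pow_add] at h
  have hne : ((-1 : ResidueField A) ^ (Module.length A (A ⧸ Ideal.span {a})).toNat) *
      (-1 : ResidueField A) ^ (Module.length A (A ⧸ Ideal.span {b})).toNat ≠ 0 :=
    mul_ne_zero (pow_ne_zero _ (neg_ne_zero.2 one_ne_zero)) (pow_ne_zero _ (neg_ne_zero.2 one_ne_zero))
  refine mul_left_cancel₀ hne ?_
  linear_combination h

variable (A : Type u) [CommRing A] {C : Type u} [CommRing C] [Algebra A C]

/-- The prime below. -/
abbrev qOf (r : PrimeSpectrum C) : Ideal A := r.asIdeal.comap (algebraMap A C)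

/-- The order of the norm. -/
noncomputable def phi (r : PrimeSpectrum C) (z : ResidueField (Localization.AtPrime r.asIdeal)) : ℤ :=
  CycAlg.ordFrac (A ⧸ qOf A r) (qOf A r).ResidueField (resNorm (qOf A r) r rfl z)

/-- A prime which is not maximal and contains a nonzerodivisor. -/
def Good (r : PrimeSpectrum C) : Prop := ¬ r.asIdeal.IsMaximal ∧ ∃ x ∈ r.asIdeal, x ∈ nonZeroDivisors C

variable {A} [IsLocalRing A] [IsNoetherianRing A] [Module.Finite A C]

omit [IsLocalRing A] [IsNoetherianRing A] in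
theorem ringKrullDim_le_of_finite : ringKrullDim C ≤ ringKrullDim A :=
  Order.krullDim_le_of_strictMono (fun p : PrimeSpectrum C => PrimeSpectrum.comap (algebraMap A C) p)
    fun p p' h => Ideal.IsIntegral.comap_lt_comap (A := C) (R := A) (I := p.asIdeal) (J := p'.asIdeal) h

theorem height_eq_one (hA : ringKrullDim A ≤ 2) {r : PrimeSpectrum C} (hr : Good r) : r.asIdeal.height = 1 := by
  haveI : IsNoetherianRing C := IsNoetherianRing.of_finite A C
  obtain ⟨n, hn, hrn⟩ := Ideal.exists_le_maximal r.asIdeal r.2.ne_top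
  haveI := hn
  have h1 : r.asIdeal.height < n.height := Ideal.height_strict_mono_of_isPrime
    (lt_of_le_of_ne hrn fun e => hr.1 (e ▸ hn))
  have h2 : (n.height : WithBot ℕ∞) ≤ 2 :=
    Ideal.height_le_ringKrullDim_of_isPrime.trans ((ringKrullDim_le_of_finite (A := A)).trans hA)
  have h2' : n.height ≤ 2 := WithBot.coe_le_coe.1 (h2.trans_eq rfl)
  have h0 : r.asIdeal.height ≠ 0 := fun h => by
    obtain ⟨x, hx, hx'⟩ := hr.2
    exact Set.disjoint_left.1 (Ideal.disjoint_nonZeroDivisors_of_mem_minimalPrimes (Ideal.height_eq_zero_iff.1 h)) hx hx'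
  obtain ⟨m, hm⟩ := ENat.ne_top_iff_exists.1 (ne_top_of_le_ne_top (by decide : (2 : ℕ∞) ≠ ⊤) (h1.le.trans h2'))
  rw [← hm] at h1 h0 ⊢
  have h3 := h1.trans_le h2'
  norm_cast at h3 h0 ⊢
  omega

theorem dim_loc (hA : ringKrullDim A ≤ 2) {r : PrimeSpectrum C} (hr : Good r) :
    ringKrullDim (Localization.AtPrime r.asIdeal) ≤ 1 := by
  rw [IsLocalization.AtPrime.ringKrullDim_eq_height r.asIdeal, height_eq_one hA hr]
  rfl

theorem noeth_atPrime (A : Type u) [CommRing A] [IsNoetherianRing A] [Algebra A C] [Module.Finite A C]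
    (r : PrimeSpectrum C) : IsNoetherianRing (Localization.AtPrime r.asIdeal) := by
  haveI : IsNoetherianRing C := IsNoetherianRing.of_finite A C
  exact IsLocalization.isNoetherianRing r.asIdeal.primeCompl _ inferInstance

theorem qOf_ne_max {r : PrimeSpectrum C} (hr : Good r) : qOf A r ≠ maximalIdeal A := fun h => by
  haveI : (r.asIdeal.comap (algebraMap A C)).IsMaximal := by
    rw [show r.asIdeal.comap (algebraMap A C) = maximalIdeal A from h]; exact maximalIdeal.isMaximal A
  exact hr.1 (Ideal.isMaximal_of_isIntegral_of_isMaximal_comap (R := A) r.asIdeal ‹_›)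

theorem exists_nzd_qOf (hB : Birat A C) {r : PrimeSpectrum C} (hr : Good r) :
    ∃ g ∈ qOf A r, g ∈ nonZeroDivisors A := by
  obtain ⟨x, hx, hx'⟩ := hr.2
  obtain ⟨g, hg, z, hgz⟩ := hB.exists_mem hx'
  exact ⟨g, Ideal.mem_comap.2 (hgz ▸ r.asIdeal.mul_mem_right z hx), hg⟩

theorem dim_quot (hA : ringKrullDim A ≤ 2) (hB : Birat A C) {r : PrimeSpectrum C} (hr : Good r) :
    ringKrullDim (A ⧸ qOf A r) ≤ 1 := by
  obtain ⟨g, hgq, hg⟩ := exists_nzd_qOf hB hr
  have h1 := ringKrullDim_quotient_succ_le_of_nonZeroDivisor hg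
  have h2 : ringKrullDim (A ⧸ qOf A r) ≤ ringKrullDim (A ⧸ Ideal.span {g}) :=
    ringKrullDim_le_of_surjective (Ideal.Quotient.factor ((Ideal.span_singleton_le_iff_mem _).2 hgq))
      (Ideal.Quotient.factor_surjective _)
  refine h2.trans ((ENat.WithBot.add_le_add_one_right_iff).1 ?_)
  exact h1.trans (hA.trans_eq one_add_one_eq_two.symm)

theorem phi_residue (hA : ringKrullDim A ≤ 2) (hB : Birat A C) {r : PrimeSpectrum C} (hr : Good r) :
    (∀ z w, z ≠ 0 → w ≠ 0 → phi A r (z * w) = phi A r z + phi A r w) ∧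
    ∀ c : C, c ∉ r.asIdeal → phi A r (residue _ (algebraMap C (Localization.AtPrime r.asIdeal) c)) =
      ((Module.length A (C ⧸ (r.asIdeal ⊔ Ideal.span {c}))).toNat : ℤ) := by
  let K := (qOf A r).ResidueField
  let L := ResidueField (Localization.AtPrime r.asIdeal)
  haveI : IsLocalHom (Localization.localRingHom (qOf A r) r.asIdeal (algebraMap A C) rfl) :=
    Localization.isLocalHom_localRingHom _ _ _ rfl
  letI : Algebra K L := (ResidueField.map (Localization.localRingHom (qOf A r) r.asIdeal (algebraMap A C) rfl)).toAlgebra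
  let B := C ⧸ r.asIdeal
  letI : Algebra (A ⧸ qOf A r) B := (Ideal.quotientMap r.asIdeal (algebraMap A C) le_rfl).toAlgebra
  haveI : IsScalarTower A (A ⧸ qOf A r) B := IsScalarTower.of_algebraMap_eq fun _ => rfl
  haveI : Module.Finite (A ⧸ qOf A r) B := Module.Finite.of_restrictScalars_finite A _ _
  letI : Algebra B L := inferInstanceAs (Algebra (C ⧸ r.asIdeal) r.asIdeal.ResidueField)
  haveI : IsFractionRing B L := inferInstanceAs (IsFractionRing (C ⧸ r.asIdeal) r.asIdeal.ResidueField)
  letI : Algebra (A ⧸ qOf A r) L := ((algebraMap B L).comp (algebraMap (A ⧸ qOf A r) B)).toAlgebra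
  haveI : IsScalarTower (A ⧸ qOf A r) B L := IsScalarTower.of_algebraMap_eq fun _ => rfl
  haveI : IsScalarTower (A ⧸ qOf A r) K L := IsScalarTower.of_algebraMap_eq fun x => by
    obtain ⟨a, rfl⟩ := Ideal.Quotient.mk_surjective x
    show residue (Localization.AtPrime r.asIdeal) (algebraMap C _ (algebraMap A C a)) =
      ResidueField.map (Localization.localRingHom (qOf A r) r.asIdeal (algebraMap A C) rfl)
        (residue (Localization.AtPrime (qOf A r)) (algebraMap A _ a))
    rw [ResidueField.map_residue, Localization.localRingHom_to_map]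
  have hinj : Function.Injective (algebraMap (A ⧸ qOf A r) B) :=
    Ideal.quotientMap_injective
  haveI : FaithfulSMul (A ⧸ qOf A r) B := (faithfulSMul_iff_algebraMap_injective _ _).2 hinj
  haveI : Algebra.IsIntegral (A ⧸ qOf A r) B := Algebra.IsIntegral.of_finite _ _
  haveI : Algebra.IsAlgebraic (A ⧸ qOf A r) B := Algebra.IsIntegral.isAlgebraic
  haveI : FiniteDimensional K L := Module.Finite.of_isLocalization (A ⧸ qOf A r) B (nonZeroDivisors (A ⧸ qOf A r))
  have hd := dim_quot hA hB hr
  refine ⟨fun z w hz hw => ?_, fun c hc => ?_⟩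
  · show CycAlg.ordFrac _ K (Algebra.norm K (z * w : L)) = CycAlg.ordFrac _ K (Algebra.norm K (z : L)) + CycAlg.ordFrac _ K (Algebra.norm K (w : L))
    rw [map_mul]
    exact Lattice26.ordFrac_mul hd (Algebra.norm_ne_zero_iff.2 hz) (Algebra.norm_ne_zero_iff.2 hw)
  · have hc0 : Ideal.Quotient.mk r.asIdeal c ≠ 0 := fun h => hc (Ideal.Quotient.eq_zero_iff_mem.1 h)
    show CycAlg.ordFrac _ K (Algebra.norm K (algebraMap B L (Ideal.Quotient.mk r.asIdeal c))) = _
    rw [← (Cyc26.length_quot_eq_ord_norm (A ⧸ qOf A r) hd B hinj K L (Ideal.Quotient.mk r.asIdeal c) hc0).2]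
    congr 2
    rw [← Module.length_eq_of_surjective (R := A ⧸ qOf A r) (S := A)
      (M := B ⧸ Ideal.span {Ideal.Quotient.mk r.asIdeal c}) Ideal.Quotient.mk_surjective]
    rw [show Ideal.span {Ideal.Quotient.mk r.asIdeal c} = (Ideal.span {c}).map (Ideal.Quotient.mk r.asIdeal) by
      rw [Ideal.map_span, Set.image_singleton]]
    exact (DoubleQuot.quotQuotEquivQuotSupₐ A r.asIdeal (Ideal.span {c})).toLinearEquiv.length_eq

theorem phi_mul (hA : ringKrullDim A ≤ 2) (hB : Birat A C) {r : PrimeSpectrum C} (hr : Good r) {z w}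
    (hz : z ≠ 0) (hw : w ≠ 0) : phi A r (z * w) = phi A r z + phi A r w := (phi_residue hA hB hr).1 z w hz hw

theorem phi_one (hA : ringKrullDim A ≤ 2) (hB : Birat A C) {r : PrimeSpectrum C} (hr : Good r) :
    phi A r 1 = 0 := by
  have := phi_mul hA hB hr (one_ne_zero (α := ResidueField (Localization.AtPrime r.asIdeal))) one_ne_zero
  rw [one_mul] at this
  omega

theorem phi_pow (hA : ringKrullDim A ≤ 2) (hB : Birat A C) {r : PrimeSpectrum C} (hr : Good r) {z} (hz : z ≠ 0)
    (n : ℕ) : phi A r (z ^ n) = n * phi A r z := by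
  induction n with
  | zero => rw [pow_zero, phi_one hA hB hr]; simp
  | succ n ih => rw [pow_succ, phi_mul hA hB hr (pow_ne_zero _ hz) hz, ih]; push_cast; ring

theorem phi_neg_one_pow (hA : ringKrullDim A ≤ 2) (hB : Birat A C) {r : PrimeSpectrum C} (hr : Good r) (n : ℕ) :
    phi A r ((-1) ^ n) = 0 := by
  have h : phi A r (-1) + phi A r (-1) = 0 := by
    rw [← phi_mul hA hB hr (neg_ne_zero.2 one_ne_zero) (neg_ne_zero.2 one_ne_zero), neg_one_mul, neg_neg,
      phi_one hA hB hr]
  rw [phi_pow hA hB hr (neg_ne_zero.2 one_ne_zero), show phi A r (-1) = 0 by omega, mul_zero]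

end Groth.Agent.Tame26
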