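import Groth.Agent.Lib.Tame26.Degree

/-! # The tame symbol is independent of the choices -/

set_option autoImplicit false
universe u

open IsLocalRing CycAlg

namespace Groth.Agent.Tame26

theorem parity {a b L A B n : ℕ} (h1 : a * L = A * n) (h2 : b * L = B * n) :
    (-1 : ℤ) ^ (a * b * L) = (-1 : ℤ) ^ (A * B * n) := by
  have key : ∀ a b L A B n : ZMod 2, a * L = A * n → b * L = B * n → a * b * L = A * B * n := by decide
  have h := key a b L A B n (by exact_mod_cast congrArg (Nat.cast : ℕ → ZMod 2) h1)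
    (by exact_mod_cast congrArg (Nat.cast : ℕ → ZMod 2) h2)
  have h' : (a * b * L) % 2 = (A * B * n) % 2 := by
    rw [← ZMod.natCast_eq_natCast_iff']
    exact_mod_cast h
  rw [neg_one_pow_eq_pow_mod_two, h', ← neg_one_pow_eq_pow_mod_two]

theorem neg_one_pow_congr {R : Type*} [Ring R] {a b : ℕ} (h : (-1 : ℤ) ^ a = (-1 : ℤ) ^ b) :
    (-1 : R) ^ a = (-1 : R) ^ b := by
  have := congrArg (Int.cast : ℤ → R) h
  simpa using this

/-- The algebraic identity behind the independence of the choices. -/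
theorem residue_identity {K : Type*} [Field K] {u1 u2 v1 v2 : K} (hu2 : u2 ≠ 0) (hv2 : v2 ≠ 0) {a b L A B n : ℕ}
    (h1 : a * L = A * n) (h2 : b * L = B * n) (h : u1 ^ (b * L) * v2 ^ (a * L) = v1 ^ (B * n) * u2 ^ (a * L)) :
    ((-1) ^ (a * b) * u1 ^ b * (u2 ^ a)⁻¹) ^ L = ((-1) ^ (A * B) * v1 ^ B * (v2 ^ A)⁻¹) ^ n := by
  simp only [mul_pow, inv_pow, ← pow_mul]
  rw [neg_one_pow_congr (R := K) (parity h1 h2), ← h1]
  have h0 : u1 ^ (b * L) = v1 ^ (B * n) * u2 ^ (a * L) * (v2 ^ (a * L))⁻¹ := by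
    rw [← h, mul_assoc, mul_inv_cancel₀ (pow_ne_zero _ hv2), mul_one]
  rw [h0]
  field_simp [hu2, hv2]

variable {A : Type u} [CommRing A] [IsLocalRing A] [IsNoetherianRing A] {a₁ a₂ : A}

theorem locOrd_mul_pow {B : Type u} [CommRing B] [Algebra A B] [Module.Finite A B] (hA : ringKrullDim A ≤ 1)
    (q : MaximalSpectrum B) (u : (Loc q)ˣ) {x : Loc q} (hx : x ∈ nonZeroDivisors (Loc q)) (e : ℕ) :
    locOrd q ((u : Loc q) * x ^ e) = e * locOrd q x := by
  obtain ⟨m, hm⟩ := ENat.ne_top_iff_exists.1 (ord_ne_top_loc (A := A) hA q hx)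
  rw [locOrd, locOrd, Ring.ord_mul_of_isUnit_left u.isUnit, Ring.ord_pow hx, ← hm, nsmul_eq_mul]
  simp

theorem locOrd_mul_unit {B : Type u} [CommRing B] (q : MaximalSpectrum B) {w x : Loc q} (hw : IsUnit w) :
    locOrd q (x * w) = locOrd q x := by
  rw [locOrd, locOrd, Ring.ord_mul_of_isUnit_right hw]

theorem locOrd_isUnit {B : Type u} [CommRing B] (q : MaximalSpectrum B) {x : Loc q} (hx : IsUnit x) :
    locOrd q x = 0 := by
  rw [locOrd, Ring.ord_of_isUnit hx]; rfl

/-- The residue in a local factor. -/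
noncomputable def gres (D : TameData A a₁ a₂) (q : MaximalSpectrum D.B) : ResidueField (Loc q) :=
  (-1 : ResidueField (Loc q)) ^ (D.e₁ q * D.e₂ q) * residue (Loc q) (D.u₁ q : Loc q) ^ D.e₂ q *
    (residue (Loc q) (D.u₂ q : Loc q) ^ D.e₁ q)⁻¹

theorem localFactor_eq (D : TameData A a₁ a₂) [Module.Finite A D.B] (q : MaximalSpectrum D.B) :
    D.localFactor q = Algebra.norm (ResidueField A) (gres D q) ^ locOrd q (D.π q) := rfl

/-- The local comparison. -/
theorem gres_map (hA : ringKrullDim A ≤ 1) (h₁ : a₁ ∈ nonZeroDivisors A) (D E : TameData A a₁ a₂) [Algebra D.B E.B]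
    [IsScalarTower A D.B E.B] (hB : Birat A D.B) (h : Birat D.B E.B) [Module.Finite D.B E.B] (r : MaximalSpectrum E.B) :
    ResidueField.map (locMap D.B r) (gres D (below D.B r)) ^ locOrd r (locMap D.B r (D.π (below D.B r))) =
      gres E r ^ locOrd r (E.π r) := by
  haveI := (hB.trans h).fin
  set q := below D.B r with hq
  set ψ := locMap D.B r with hψ
  have hf1 : algebraMap A (Loc r) a₁ = ψ (D.u₁ q) * ψ (D.π q) ^ D.e₁ q := by
    rw [← map_pow, ← map_mul, ← D.fac₁ q]
    exact (locMap_base r a₁).symm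
  have hf2 : algebraMap A (Loc r) a₂ = ψ (D.u₂ q) * ψ (D.π q) ^ D.e₂ q := by
    rw [← map_pow, ← map_mul, ← D.fac₂ q]
    exact (locMap_base r a₂).symm
  haveI := hB.fin
  obtain ⟨p, hp, ⟨w, hw, hpw⟩, -⟩ := exists_global (A := A) (B := D.B) hA q (D.π_mem q)
  have hπ' : ψ (D.π q) ∈ nonZeroDivisors (Loc r) := by
    have := map_nzd_loc r (h.map_nzd hp)
    rw [← locMap_algebraMap, hpw, map_mul] at this
    exact (mul_mem_nonZeroDivisors.1 this).1
  have o1 : D.e₁ q * locOrd r (ψ (D.π q)) = E.e₁ r * locOrd r (E.π r) := by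
    rw [← locOrd_mul_pow (A := A) hA r (Units.map ψ.toMonoidHom (D.u₁ q)) hπ',
      ← locOrd_mul_pow (A := A) hA r (E.u₁ r) (E.π_mem r)]
    exact congrArg _ (hf1.symm.trans (E.fac₁ r))
  have o2 : D.e₂ q * locOrd r (ψ (D.π q)) = E.e₂ r * locOrd r (E.π r) := by
    rw [← locOrd_mul_pow (A := A) hA r (Units.map ψ.toMonoidHom (D.u₂ q)) hπ',
      ← locOrd_mul_pow (A := A) hA r (E.u₂ r) (E.π_mem r)]
    exact congrArg _ (hf2.symm.trans (E.fac₂ r))
  set L := locOrd r (ψ (D.π q)) with hL
  set n := locOrd r (E.π r) with hn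
  have q1 : (ψ (D.u₁ q) * ψ (D.π q) ^ D.e₁ q) ^ (D.e₂ q * L) = ((E.u₁ r : Loc r) * E.π r ^ E.e₁ r) ^ (E.e₂ r * n) := by
    rw [← o2]; exact congrArg (· ^ _) (hf1.symm.trans (E.fac₁ r))
  have q2 : (ψ (D.u₂ q) * ψ (D.π q) ^ D.e₂ q) ^ (D.e₁ q * L) = ((E.u₂ r : Loc r) * E.π r ^ E.e₂ r) ^ (E.e₁ r * n) := by
    rw [← o1]; exact congrArg (· ^ _) (hf2.symm.trans (E.fac₂ r))
  simp only [mul_pow, ← pow_mul] at q1 q2
  rw [show D.e₂ q * (D.e₁ q * L) = D.e₁ q * (D.e₂ q * L) by ring,
    show E.e₂ r * (E.e₁ r * n) = E.e₁ r * (E.e₂ r * n) by ring, ← o1] at q2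
  have key : ψ (D.u₁ q) ^ (D.e₂ q * L) * (E.u₂ r : Loc r) ^ (D.e₁ q * L) =
      (E.u₁ r : Loc r) ^ (E.e₂ r * n) * ψ (D.u₂ q) ^ (D.e₁ q * L) := by
    refine (mul_cancel_right_mem_nonZeroDivisors (pow_mem hπ' (D.e₁ q * (D.e₂ q * L)))).1 ?_
    linear_combination (E.u₂ r : Loc r) ^ (D.e₁ q * L) * q1 - (E.u₁ r : Loc r) ^ (E.e₂ r * n) * q2
  have hu : ∀ (S : Type u) [CommRing S] [IsLocalRing S] (v : Sˣ), residue S (v : S) ≠ 0 := fun S _ _ v h =>
    (residue_eq_zero_iff _).1 h v.isUnit
  simp only [gres, map_mul, map_pow, map_neg, map_one, map_inv₀, ResidueField.map_residue]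
  refine residue_identity (hu _ (Units.map ψ.toMonoidHom (D.u₂ q))) (hu _ (E.u₂ r)) o1 o2 ?_
  simp only [Units.coe_map, RingHom.toMonoidHom_eq_coe, MonoidHom.coe_coe, ← map_pow, ← map_mul]
  exact congrArg (residue (Loc r)) (by simp only [map_pow]; exact key)

/-- Refining the extension does not change the value. -/
theorem value_eq_of_refine (hA : ringKrullDim A ≤ 1) (h₁ : a₁ ∈ nonZeroDivisors A) (D E : TameData A a₁ a₂)
    [Algebra D.B E.B] [IsScalarTower A D.B E.B] (hB : Birat A D.B) (h : Birat D.B E.B) : D.value = E.value := by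
  classical
  haveI := hB.fin
  haveI := h.fin
  haveI := (hB.trans h).fin
  haveI := finite_maximalSpectrum A D.B
  haveI := finite_maximalSpectrum A E.B
  letI := Fintype.ofFinite (MaximalSpectrum D.B)
  letI := Fintype.ofFinite (MaximalSpectrum E.B)
  simp only [TameData.value]
  rw [finprod_eq_prod_of_fintype, finprod_eq_prod_of_fintype]
  simp only [localFactor_eq]
  rw [← Finset.prod_fiberwise Finset.univ (below D.B) (fun r => Algebra.norm (ResidueField A) (gres E r) ^ locOrd r (E.π r))]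
  refine Finset.prod_congr rfl fun q _ => ?_
  obtain ⟨p, hp, ⟨w, hw, hpw⟩, hpq⟩ := exists_global (A := A) hA q (D.π_mem q)
  choose k hk hkn using fun r : MaximalSpectrum E.B => norm_map_residue (A := A) (B := D.B) r
  let Lr : MaximalSpectrum E.B → ℕ := fun r => locOrd r (algebraMap E.B (Loc r) (algebraMap D.B E.B p))
  have hLr : ∀ r, below D.B r = q → Lr r = locOrd r (locMap D.B r (D.π (below D.B r))) := by
    rintro r rfl
    show locOrd r _ = _
    rw [← locMap_algebraMap, hpw, map_mul, locOrd_mul_unit r (hw.map _)]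
  have hzero : ∀ r, below D.B r ≠ q → Lr r = 0 := fun r hr => by
    refine locOrd_isUnit r ?_
    exact IsLocalization.map_units (Loc r) (⟨algebraMap D.B E.B p, hpq _ hr⟩ : r.asIdeal.primeCompl)
  have hsum : ∑ r ∈ Finset.univ.filter (fun r => below D.B r = q), k r * Lr r = locOrd q (D.π q) := by
    have e := (len_eq_sum (A := A) hA (h.map_nzd hp)).symm.trans
      ((congrArg ENat.toNat (len_algebraMap (A := A) hA hB h hp)).trans (len_eq_sum (A := A) hA hp))
    rw [Finset.sum_eq_single q (fun q' _ hne => by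
      rw [locOrd_isUnit q' (IsLocalization.map_units (Loc q') (⟨p, hpq q' hne⟩ : q'.asIdeal.primeCompl)), mul_zero])
      (fun h => absurd (Finset.mem_univ q) h), hpw, locOrd_mul_unit q hw,
      ← Finset.sum_filter_add_sum_filter_not Finset.univ (fun r => below D.B r = q),
      Finset.sum_eq_zero (s := Finset.univ.filter (fun r => ¬ below D.B r = q))
        (fun r hr => by rw [show locOrd r (algebraMap E.B (Loc r) (algebraMap D.B E.B p)) = 0 from
          hzero r (Finset.mem_filter.1 hr).2, mul_zero]), add_zero] at e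
    refine Nat.eq_of_mul_eq_mul_left (deg_pos (A := A) q) (Eq.trans ?_ e)
    rw [Finset.mul_sum]
    refine Finset.sum_congr rfl fun r hr => ?_
    rw [hk r, (Finset.mem_filter.1 hr).2, mul_assoc]
  rw [← hsum, ← Finset.prod_pow_eq_pow_sum]
  refine Finset.prod_congr rfl fun r hr => ?_
  have hr' := (Finset.mem_filter.1 hr).2
  rw [hLr r hr']
  subst hr'
  rw [pow_mul, ← hkn r, ← map_pow (Algebra.norm (ResidueField A)), ← map_pow (Algebra.norm (ResidueField A)),
    gres_map hA h₁ D E hB h r]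

/-- In the nontrivial case every choice lives in the ring of fractions. -/
theorem birat_of_data (h₁ : a₁ ∈ nonZeroDivisors A) (D : TameData A a₁ a₂) {a : A} (ham : a ∈ maximalIdeal A)
    (ha : a ∈ nonZeroDivisors A) (hfac : ∀ q : MaximalSpectrum D.B, ∃ (u : (Loc q)ˣ) (e : ℕ),
      algebraMap A (Loc q) a = (u : Loc q) * D.π q ^ e) : Birat A D.B := by
  obtain ⟨hinj, hfin, n, hn⟩ := D.isFinExt
  refine ⟨hinj, hfin, a ^ n, pow_mem ha n, ?_, fun b => ?_⟩
  · rw [map_pow]
    refine pow_mem ?_ n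
    rw [mem_nonZeroDivisors_iff_right]
    intro b hb
    refine eq_zero_of_localization b fun J hJ => ?_
    obtain ⟨u, e, he⟩ := hfac ⟨J, hJ⟩
    have hn' : algebraMap A (Loc (⟨J, hJ⟩ : MaximalSpectrum D.B)) a ∈ nonZeroDivisors _ := by
      rw [he]; exact Submonoid.mul_mem _ u.isUnit.mem_nonZeroDivisors (pow_mem (D.π_mem _) e)
    refine (mem_nonZeroDivisors_iff_right.1 hn') _ ?_
    rw [IsScalarTower.algebraMap_apply A D.B (Loc (⟨J, hJ⟩ : MaximalSpectrum D.B)), ← map_mul, hb, map_zero]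
  · obtain ⟨c, hc⟩ := hn (a ^ n) (Ideal.pow_mem_pow ham n) b
    exact ⟨c, by rw [hc, Algebra.smul_def]⟩

/-- If both elements are units the value is one. -/
theorem value_eq_one_of_isUnit (D : TameData A a₁ a₂) (h1 : IsUnit a₁) (h2 : IsUnit a₂) : D.value = 1 := by
  refine finprod_eq_one_of_forall_eq_one fun q => ?_
  haveI := D.isFinExt.2.1
  rw [localFactor_eq]
  by_cases hπ : IsUnit (D.π q)
  · rw [locOrd_isUnit q hπ, pow_zero]
  have key : ∀ {a : A} {u : (Loc q)ˣ} {e : ℕ}, IsUnit a → algebraMap A (Loc q) a = (u : Loc q) * D.π q ^ e → e = 0 := by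
    intro a u e ha he
    by_contra hne
    have := ha.map (algebraMap A (Loc q))
    rw [he, IsUnit.mul_iff] at this
    exact hπ ((isUnit_pow_iff hne).1 this.2)
  simp only [gres, key h1 (D.fac₁ q), key h2 (D.fac₂ q), mul_zero, pow_zero, mul_one, inv_one, map_one, one_pow]

/-- Two finite birational extensions lie in a third. -/
theorem exists_common_ext {B B' : Type u} [CommRing B] [Algebra A B] [CommRing B'] [Algebra A B'] (h : Birat A B)
    (h' : Birat A B') :
    ∃ (C : Type u) (_ : CommRing C) (_ : Algebra A C) (_ : Algebra B C) (_ : Algebra B' C),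
      IsScalarTower A B C ∧ IsScalarTower A B' C ∧ Birat A C ∧ Birat B C ∧ Birat B' C := by
  classical
  let K := FractionRing A
  have hemb : ∀ (B : Type u) [CommRing B] [Algebra A B], Birat A B → ∃ φ : B →ₐ[A] K, Function.Injective φ := by
    intro B _ _ hB
    obtain ⟨y, hy, hyB, hy'⟩ := hB.denom
    choose f hf using hy'
    let Y : Kˣ := (IsLocalization.map_units K (⟨y, hy⟩ : nonZeroDivisors A)).unit
    have hY : (Y : K) = algebraMap A K y := rfl
    have hfl : ∀ a : A, f (algebraMap A B a) = y * a := fun a => hB.inj (by rw [hf, map_mul])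
    refine ⟨AlgHom.mk' ⟨⟨⟨fun b => algebraMap A K (f b) * ↑Y⁻¹, ?_⟩, fun b c => ?_⟩, ?_, fun b c => ?_⟩ ?_, ?_⟩
    · show algebraMap A K (f 1) * ↑Y⁻¹ = 1
      rw [show (1 : B) = algebraMap A B 1 from (map_one _).symm, hfl, mul_one, ← hY, Units.mul_inv]
    · show algebraMap A K (f (b * c)) * ↑Y⁻¹ = algebraMap A K (f b) * ↑Y⁻¹ * (algebraMap A K (f c) * ↑Y⁻¹)
      have e : y * f (b * c) = f b * f c := hB.inj (by rw [map_mul, map_mul, hf, hf, hf]; ring)
      refine Y.isUnit.mul_left_cancel ?_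
      rw [hY, ← mul_assoc, ← map_mul, e, map_mul, ← hY]
      linear_combination (algebraMap A K (f b) * algebraMap A K (f c) * (↑Y⁻¹ : K)) * (Y.mul_inv).symm
    · show algebraMap A K (f 0) * ↑Y⁻¹ = 0
      rw [show (0 : B) = algebraMap A B 0 from (map_zero _).symm, hfl, mul_zero, map_zero, zero_mul]
    · show algebraMap A K (f (b + c)) * ↑Y⁻¹ = algebraMap A K (f b) * ↑Y⁻¹ + algebraMap A K (f c) * ↑Y⁻¹
      rw [show f (b + c) = f b + f c from hB.inj (by rw [map_add, hf, hf, hf, mul_add]), map_add, add_mul]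
    · intro a b
      show algebraMap A K (f (a • b)) * ↑Y⁻¹ = a • (algebraMap A K (f b) * ↑Y⁻¹)
      rw [show f (a • b) = a * f b from hB.inj (by rw [hf, map_mul, hf, Algebra.smul_def]; ring), map_mul,
        Algebra.smul_def, mul_assoc]
    · intro b c hbc
      have e : algebraMap A K (f b) = algebraMap A K (f c) := Y⁻¹.isUnit.mul_right_cancel hbc
      have e' := congrArg (algebraMap A B) (IsFractionRing.injective A K e)
      rw [hf, hf] at e'
      exact (mul_cancel_left_mem_nonZeroDivisors hyB).1 e'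
  obtain ⟨φ, hφ⟩ := hemb B h
  obtain ⟨φ', hφ'⟩ := hemb B' h'
  let S : Subalgebra A K := φ.range ⊔ φ'.range
  haveI := h.fin
  haveI := h'.fin
  haveI : Module.Finite A φ.range := Module.Finite.of_surjective φ.rangeRestrict.toLinearMap φ.rangeRestrict_surjective
  haveI : Module.Finite A φ'.range := Module.Finite.of_surjective φ'.rangeRestrict.toLinearMap φ'.rangeRestrict_surjective
  haveI hSfin : Module.Finite A S := Subalgebra.finite_sup φ.range φ'.range
  letI : Algebra B S := ((Subalgebra.inclusion le_sup_left).comp φ.rangeRestrict).toRingHom.toAlgebra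
  letI : Algebra B' S := ((Subalgebra.inclusion le_sup_right).comp φ'.rangeRestrict).toRingHom.toAlgebra
  haveI hT : IsScalarTower A B S := IsScalarTower.of_algebraMap_eq fun a => Subtype.ext (φ.commutes a).symm
  haveI hT' : IsScalarTower A B' S := IsScalarTower.of_algebraMap_eq fun a => Subtype.ext (φ'.commutes a).symm
  obtain ⟨s, hs⟩ := (Module.Finite.iff_fg.1 hSfin : (Subalgebra.toSubmodule S).FG)
  obtain ⟨⟨g, hg⟩, hgs⟩ := IsLocalization.exist_integer_multiples (nonZeroDivisors A) s (id : K → K)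
  have hmul : ∀ x ∈ Subalgebra.toSubmodule S, IsLocalization.IsInteger A (g • x) := by
    intro x hx
    rw [← hs] at hx
    induction hx using Submodule.span_induction with
    | mem x hx => exact hgs x hx
    | zero => rw [smul_zero]; exact IsLocalization.isInteger_zero
    | add x y _ _ hx hy => rw [smul_add]; exact IsLocalization.isInteger_add hx hy
    | smul a x _ hx => rw [smul_comm]; exact IsLocalization.isInteger_smul hx
  have nzdS : ∀ x : S, (∀ k : K, k * (x : K) = 0 → k = 0) → x ∈ nonZeroDivisors S := fun x hx =>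
    mem_nonZeroDivisors_iff_right.2 fun k hk => Subtype.ext (hx k (congrArg Subtype.val hk))
  have nzdK : ∀ a ∈ nonZeroDivisors A, ∀ k : K, k * algebraMap A K a = 0 → k = 0 := fun a ha k hk =>
    (IsLocalization.map_units K (⟨a, ha⟩ : nonZeroDivisors A)).mul_left_eq_zero.1 hk
  have hS : Birat A S := by
    refine ⟨fun a b hab => IsFractionRing.injective A K (congrArg Subtype.val hab), hSfin, g, hg,
      nzdS _ (nzdK g hg), fun x => ?_⟩
    obtain ⟨a, ha⟩ := hmul x x.2
    exact ⟨a, Subtype.ext (ha.trans (Algebra.smul_def g (x : K)))⟩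
  have hBS : ∀ (B : Type u) [CommRing B] [Algebra A B] [Algebra B S] [IsScalarTower A B S], Birat A B →
      Function.Injective (algebraMap B S) → Birat B S := by
    intro B _ _ _ _ hB hi
    refine ⟨hi, Module.Finite.of_restrictScalars_finite A B S, algebraMap A B g, hB.map_nzd hg, ?_, fun x => ?_⟩
    · rw [← IsScalarTower.algebraMap_apply A B S]
      exact nzdS _ (nzdK g hg)
    · obtain ⟨a, ha⟩ := hmul x x.2
      refine ⟨algebraMap A B a, ?_⟩
      rw [← IsScalarTower.algebraMap_apply A B S, ← IsScalarTower.algebraMap_apply A B S]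
      exact Subtype.ext (ha.trans (Algebra.smul_def g (x : K)))
  exact ⟨S, inferInstance, inferInstance, inferInstance, inferInstance, hT, hT', hS,
    hBS B h fun x y hxy => hφ (congrArg Subtype.val hxy), hBS B' h' fun x y hxy => hφ' (congrArg Subtype.val hxy)⟩

/-- Tame data on a refinement. -/
theorem exists_data (hA : ringKrullDim A ≤ 1) {B : Type u} [CommRing B] [Algebra A B] (hB : Birat A B)
    (h₁ : a₁ ∈ nonZeroDivisors A) (h₂ : a₂ ∈ nonZeroDivisors A) :
    ∃ (E : TameData A a₁ a₂) (_ : Algebra B E.B), IsScalarTower A B E.B ∧ Birat B E.B := by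
  classical
  obtain ⟨C, _, _, _, _, hBC, s, hs, hcop, hgen⟩ := exists_coprime_factors hA hB
    {algebraMap A B a₁, algebraMap A B a₂} (by
      intro x hx
      simp only [Multiset.insert_eq_cons, Multiset.mem_cons, Multiset.mem_singleton] at hx
      rcases hx with rfl | rfl
      exacts [hB.map_nzd h₁, hB.map_nzd h₂])
  have hC := hB.trans hBC
  haveI := hC.fin
  choose π hπ hfac using fun q : MaximalSpectrum C => exists_pi s hs hcop q.asIdeal
  have h1' : ∀ a ∈ ({algebraMap A B a₁, algebraMap A B a₂} : Multiset B), algebraMap B C a ∈ Submonoid.closure {y : C | y ∈ s} :=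
    hgen
  choose u₁ e₁ f₁ using fun q => hfac q _ (h1' (algebraMap A B a₁) (by simp))
  choose u₂ e₂ f₂ using fun q => hfac q _ (h1' (algebraMap A B a₂) (by simp))
  refine ⟨{ B := C, isFinExt := isFinExt_of_birat hA hC, isLocalHom := fun q => isLocalHom_atPrime q, π := π,
            π_mem := hπ, u₁ := u₁, u₂ := u₂, e₁ := e₁, e₂ := e₂,
            fac₁ := fun q => ?_, fac₂ := fun q => ?_ }, ‹Algebra B C›, ‹IsScalarTower A B C›, hBC⟩
  · rw [IsScalarTower.algebraMap_apply A C (Localization.AtPrime q.asIdeal), IsScalarTower.algebraMap_apply A B C]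
    exact f₁ q
  · rw [IsScalarTower.algebraMap_apply A C (Localization.AtPrime q.asIdeal), IsScalarTower.algebraMap_apply A B C]
    exact f₂ q

/-- The value is independent of the choices. -/
theorem value_eq (hA : ringKrullDim A ≤ 1) (h₁ : a₁ ∈ nonZeroDivisors A) (h₂ : a₂ ∈ nonZeroDivisors A)
    (D D' : TameData A a₁ a₂) : D.value = D'.value := by
  by_cases hu : IsUnit a₁ ∧ IsUnit a₂
  · rw [value_eq_one_of_isUnit D hu.1 hu.2, value_eq_one_of_isUnit D' hu.1 hu.2]
  have hb : ∀ D : TameData A a₁ a₂, Birat A D.B := fun D => by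
    rcases not_and_or.1 hu with h | h
    · exact birat_of_data h₁ D h h₁ fun q => ⟨_, _, D.fac₁ q⟩
    · exact birat_of_data h₁ D h h₂ fun q => ⟨_, _, D.fac₂ q⟩
  obtain ⟨C, _, _, _, _, _, _, hC, hDC, hDC'⟩ := exists_common_ext (hb D) (hb D')
  obtain ⟨E, _, _, hCE⟩ := exists_data hA hC h₁ h₂
  letI : Algebra D.B E.B := ((algebraMap C E.B).comp (algebraMap D.B C)).toAlgebra
  letI : Algebra D'.B E.B := ((algebraMap C E.B).comp (algebraMap D'.B C)).toAlgebra
  haveI : IsScalarTower D.B C E.B := IsScalarTower.of_algebraMap_eq fun _ => rfl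
  haveI : IsScalarTower D'.B C E.B := IsScalarTower.of_algebraMap_eq fun _ => rfl
  haveI : IsScalarTower A D.B E.B := IsScalarTower.of_algebraMap_eq fun a => by
    rw [IsScalarTower.algebraMap_apply A C E.B, IsScalarTower.algebraMap_apply A D.B C]; rfl
  haveI : IsScalarTower A D'.B E.B := IsScalarTower.of_algebraMap_eq fun a => by
    rw [IsScalarTower.algebraMap_apply A C E.B, IsScalarTower.algebraMap_apply A D'.B C]; rfl
  rw [value_eq_of_refine hA h₁ D E (hb D) (hDC.trans hCE), value_eq_of_refine hA h₁ D' E (hb D') (hDC'.trans hCE)]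

theorem tameSymbol_eq (hA : ringKrullDim A ≤ 1) (h₁ : a₁ ∈ nonZeroDivisors A) (h₂ : a₂ ∈ nonZeroDivisors A)
    (D : TameData A a₁ a₂) : tameSymbol A a₁ a₂ = D.value := by
  rw [tameSymbol, dif_pos ⟨D⟩]
  exact value_eq hA h₁ h₂ _ D

end Groth.Agent.Tame26
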